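import Cfsg.Agent.R2.F4T.Sd

/-!
# More on self-dual modules (helper6, S5931)

* `isV_comap`, `cf_sup2` : submodules of submodules;
* `SD.iso_count` : `2 cf(Z) ≤ cf(V)` for isotropic `Z`;
* `SD.two_iso` : two isotropic submodules with the same label.
-/

set_option autoImplicit false
set_option linter.unusedSectionVars false

namespace Cfsg.Agent.R2.F4T

open Matrix Cfsg.Agent.H943.SL2Rel Cfsg.Agent.H943.SL2Mod Cfsg.Agent.H943.RepAdd Cfsg.Agent.R2.H28.SL2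

universe u v w

section gen

variable {k : Type u} [Field k] {G : Type w} [Group G] {V : Type v} [AddCommGroup V] [Module k V]
variable {ρ : Representation k G V}

theorem stab_comap {X Z : Submodule k V} (hX : ∀ g, ∀ x ∈ X, ρ g x ∈ X) (hZ : ∀ g, ∀ x ∈ Z, ρ g x ∈ Z) :
    ∀ g, ∀ x ∈ X.comap Z.subtype, subRep ρ Z hZ g x ∈ X.comap Z.subtype := fun g x hx => hX g x hx

theorem stab_sup {X Z : Submodule k V} (hX : ∀ g, ∀ x ∈ X, ρ g x ∈ X) (hZ : ∀ g, ∀ x ∈ Z, ρ g x ∈ Z) :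
    ∀ g, ∀ x ∈ X ⊔ Z, ρ g x ∈ X ⊔ Z := by
  intro g x hx
  obtain ⟨y, hy, z, hz, rfl⟩ := Submodule.mem_sup.1 hx
  rw [map_add]
  exact Submodule.add_mem_sup (hX g y hy) (hZ g z hz)

theorem stab_inf {X Z : Submodule k V} (hX : ∀ g, ∀ x ∈ X, ρ g x ∈ X) (hZ : ∀ g, ∀ x ∈ Z, ρ g x ∈ Z) :
    ∀ g, ∀ x ∈ X ⊓ Z, ρ g x ∈ X ⊓ Z := fun g x hx => ⟨hX g x hx.1, hZ g x hx.2⟩

end gen

variable {k : Type u} [Field k] [DecidableEq k] {F : Type w} [Field F] [Fintype F] [DecidableEq F] {ι : F →+* k}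
variable {p : ℕ} [Fact p.Prime] [CharP k p] [CharP F p] [IsAlgClosed k] {a : ℕ}
variable {V : Type v} [AddCommGroup V] [Module k V] [FiniteDimensional k V]
  {ρ : Representation k (SpecialLinearGroup (Fin 2) F) V} {P : V →ₗ[k] V →ₗ[k] k}

theorem isV_comap {X Z : Submodule k V} (hXZ : X ≤ Z) {hX : ∀ g, ∀ x ∈ X, ρ g x ∈ X} {hZ : ∀ g, ∀ x ∈ Z, ρ g x ∈ Z} {b : ℕ}
    (hb : IsV ι p (subRep ρ X hX) b) : IsV ι p (subRep (subRep ρ Z hZ) (X.comap Z.subtype) (stab_comap hX hZ)) b :=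
  IsV.iso ι p (Submodule.comapSubtypeEquivOfLe hXZ).symm (fun _ _ => rfl) hb

theorem isV_map' {Z : Submodule k V} {hZ : ∀ g, ∀ x ∈ Z, ρ g x ∈ Z} {X : Submodule k Z}
    {hX : ∀ g, ∀ x ∈ X, subRep ρ Z hZ g x ∈ X} {b : ℕ} (hb : IsV ι p (subRep (subRep ρ Z hZ) X hX) b) :
    ∃ hX' : ∀ g, ∀ x ∈ X.map Z.subtype, ρ g x ∈ X.map Z.subtype, IsV ι p (subRep ρ (X.map Z.subtype) hX') b := by
  obtain ⟨hX', e, he⟩ := eqv_map (subRep ρ Z hZ) ρ Z.subtype (fun _ _ => rfl) Z.injective_subtype X hX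
  exact ⟨hX', IsV.iso ι p e he hb⟩

/-- the factors of the sum of two irreducible submodules -/
theorem cf_sup2 {X Y : Submodule k V} {hX : ∀ g, ∀ x ∈ X, ρ g x ∈ X} {hY : ∀ g, ∀ x ∈ Y, ρ g x ∈ Y} {b c : ℕ}
    (hb : IsV ι p (subRep ρ X hX) b) (hc : IsV ι p (subRep ρ Y hY) c) (h : X ⊓ Y = ⊥) :
    cf (Sy.{u, v, w} ι p) (subRep ρ (X ⊔ Y) (stab_sup hX hY)) = {b, c} := by
  have hZ := stab_sup hX hY
  have h1 := isV_comap (Z := X ⊔ Y) le_sup_left (hZ := hZ) hb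
  have h2 := isV_comap (Z := X ⊔ Y) le_sup_right (hZ := hZ) hc
  rw [cf_sup (S := Sy.{u, v, w} ι p) (ρ := subRep ρ (X ⊔ Y) hZ) (W := X.comap (X ⊔ Y).subtype) (X := Y.comap (X ⊔ Y).subtype)
    (stab_comap hX hZ) (stab_comap hY hZ), cf_irr (Sy.{u, v, w} ι p) h1, cf_irr (Sy.{u, v, w} ι p) h2]
  · rfl
  · rw [isCompl_iff, disjoint_iff, codisjoint_iff]
    constructor
    · rw [eq_bot_iff]
      rintro x ⟨hx, hy⟩
      have h3 : (x : V) ∈ X ⊓ Y := ⟨hx, hy⟩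
      rw [h, Submodule.mem_bot] at h3
      exact (Submodule.mem_bot k).2 (Subtype.ext h3)
    · rw [eq_top_iff]
      rintro ⟨x, hx⟩ _
      obtain ⟨y, hy, z, hz, rfl⟩ := Submodule.mem_sup.1 hx
      exact Submodule.mem_sup.2 ⟨⟨y, Submodule.mem_sup_left hy⟩, hy, ⟨z, Submodule.mem_sup_right hz⟩, hz, Subtype.ext rfl⟩

/-- isotropic submodules -/
theorem SD.iso_count (S : SD ρ P) {Z : Submodule k V} (hZ : ∀ g, ∀ x ∈ Z, ρ g x ∈ Z) (h : Iso P Z) :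
    cf (Sy.{u, v, w} ι p) (subRep ρ Z hZ) + cf (Sy.{u, v, w} ι p) (subRep ρ Z hZ) ≤ cf (Sy.{u, v, w} ι p) ρ := by
  obtain ⟨B₁, D₁, -⟩ := S.dul.sub hZ
  have hK := S.orth_inv hZ
  have h3 := cf_add (Sy.{u, v, w} ι p) ρ (orth P Z) hK
  rw [cf_dual ι p D₁] at h3
  rw [h3]
  refine add_le_add ?_ le_rfl
  have h4 := cf_sub_le (Sy.{u, v, w} ι p) (subRep ρ (orth P Z) hK) (Z.comap (orth P Z).subtype) (stab_comap hZ hK)
  refine le_trans (le_of_eq ?_) h4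
  exact cf_iso (Sy.{u, v, w} ι p) ⟨(Submodule.comapSubtypeEquivOfLe h.le).symm, fun _ _ => rfl⟩

/-- two isotropic submodules with the same label -/
theorem SD.two_iso (S : SD ρ P) {X Y : Submodule k V} {hX : ∀ g, ∀ x ∈ X, ρ g x ∈ X} {hY : ∀ g, ∀ x ∈ Y, ρ g x ∈ Y} {b : ℕ}
    (hXb : IsV ι p (subRep ρ X hX) b) (hYb : IsV ι p (subRep ρ Y hY) b) (hXi : Iso P X) (hYi : Iso P Y) (h : X ⊓ Y = ⊥) :
    4 ≤ (cf (Sy.{u, v, w} ι p) ρ).count b ∨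
      (Nd P (X ⊔ Y) ∧ cf (Sy.{u, v, w} ι p) (subRep ρ (X ⊔ Y) (stab_sup hX hY)) = {b, b}) := by
  have hcf := cf_sup2 hXb hYb h
  have hZ := stab_sup hX hY
  by_cases hXY : ∀ x ∈ X, ∀ y ∈ Y, P x y = 0
  · left
    have hiso : Iso P (X ⊔ Y) := by
      intro x hx y hy
      obtain ⟨x₁, hx₁, x₂, hx₂, rfl⟩ := Submodule.mem_sup.1 hx
      obtain ⟨y₁, hy₁, y₂, hy₂, rfl⟩ := Submodule.mem_sup.1 hy
      rw [map_add, map_add, LinearMap.add_apply, LinearMap.add_apply, hXi _ hx₁ _ hy₁, hYi _ hx₂ _ hy₂, hXY _ hx₁ _ hy₂,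
        S.symm x₂, hXY _ hy₁ _ hx₂]
      ring
    have h1 := Multiset.count_le_of_le b (S.iso_count (ι := ι) (p := p) hZ hiso)
    rw [hcf, Multiset.count_add, Multiset.insert_eq_cons, Multiset.count_cons_self, Multiset.count_singleton_self] at h1
    omega
  · right
    refine ⟨?_, hcf⟩
    unfold Nd
    by_contra hR
    have hRi := stab_inf hZ (S.orth_inv hZ)
    obtain ⟨c, ⟨R', hR', hRc⟩, -⟩ := exists_inSoc_sub ι p hRi hR
    obtain ⟨hR1, hRb⟩ := isV_map' hRc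
    obtain ⟨R, hRd⟩ : ∃ R, R = R'.map ((X ⊔ Y) ⊓ orth P (X ⊔ Y)).subtype := ⟨_, rfl⟩
    have hR2 : ∀ g, ∀ x ∈ R, ρ g x ∈ R := by rw [hRd]; exact hR1
    have hRb' : IsV ι p (subRep ρ R hR2) c := by
      subst hRd
      exact hRb
    have hRle : R ≤ X ⊔ Y ∧ R ≤ orth P (X ⊔ Y) := by
      rw [hRd]
      constructor
      · rintro _ ⟨y, -, rfl⟩
        exact y.2.1
      · rintro _ ⟨y, -, rfl⟩
        exact y.2.2
    -- the label
    have hcb : c = b := by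
      have h1 := (show InSoc ι p (subRep ρ (X ⊔ Y) hZ) c from ⟨_, _, isV_comap hRle.1 (hZ := hZ) hRb'⟩).mem_cf
      rw [hcf] at h1
      simpa using h1
    subst hcb
    have hXf := IsV.finrank ι hXb
    have hYf := IsV.finrank ι hYb
    have hRf := IsV.finrank ι hRb'
    apply hXY
    rcases IsV.inf_or_le ι p hXb hR2 with h3 | h3
    · -- `X ⊔ R = X ⊔ Y`
      have h4 : X ⊔ R = X ⊔ Y := by
        apply Submodule.eq_of_le_of_finrank_eq (sup_le le_sup_left hRle.1)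
        have h5 := Submodule.finrank_sup_add_finrank_inf_eq X R
        have h6 := Submodule.finrank_sup_add_finrank_inf_eq X Y
        rw [h3, finrank_bot] at h5
        rw [h, finrank_bot] at h6
        omega
      intro x hx y hy
      have h5 : y ∈ X ⊔ R := by
        rw [h4]
        exact Submodule.mem_sup_right hy
      obtain ⟨y₁, hy₁, y₂, hy₂, rfl⟩ := Submodule.mem_sup.1 h5
      rw [map_add, hXi _ hx _ hy₁, hRle.2 hy₂ x (Submodule.mem_sup_left hx), add_zero]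
    · intro x hx y hy
      rw [S.symm]
      exact hRle.2 (h3 hx) y (Submodule.mem_sup_right hy)

/-- **orthogonal decompositions in two steps** -/
theorem SD.flat (S : SD ρ P) {X : Submodule k V} (hX : ∀ g, ∀ x ∈ X, ρ g x ∈ X) (hnd : Nd P X)
    {Z : Submodule k (orth P X)} (hZ : ∀ g, ∀ x ∈ Z, subRep ρ (orth P X) (S.orth_inv hX) g x ∈ Z)
    (hZn : Nd (P.compl₁₂ (orth P X).subtype (orth P X).subtype) Z) :
    ∃ (Z' W' : Submodule k V) (hZ' : ∀ g, ∀ x ∈ Z', ρ g x ∈ Z') (hW' : ∀ g, ∀ x ∈ W', ρ g x ∈ W'),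
      Eqv (subRep (subRep ρ (orth P X) (S.orth_inv hX)) Z hZ) (subRep ρ Z' hZ') ∧
      Eqv (subRep (subRep ρ (orth P X) (S.orth_inv hX)) (orth (P.compl₁₂ (orth P X).subtype (orth P X).subtype) Z)
        ((S.restrict (S.orth_inv hX) (S.nd_orth hnd)).orth_inv hZ)) (subRep ρ W' hW') ∧
      X ⊔ Z' ⊔ W' = ⊤ ∧ Nd P Z' ∧ Nd P W' ∧ (∀ x ∈ X, ∀ y ∈ Z', P x y = 0) ∧ (∀ x ∈ X, ∀ y ∈ W', P x y = 0) ∧
      (∀ x ∈ Z', ∀ y ∈ W', P x y = 0) ∧ Z' = Z.map (orth P X).subtype ∧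
      W' = (orth (P.compl₁₂ (orth P X).subtype (orth P X).subtype) Z).map (orth P X).subtype := by
  have hO := S.orth_inv hX
  have hS := S.restrict hO (S.nd_orth hnd)
  obtain ⟨hZ', e1⟩ := eqv_map (subRep ρ (orth P X) hO) ρ (orth P X).subtype (fun _ _ => rfl) (orth P X).injective_subtype Z hZ
  obtain ⟨hW', e2⟩ := eqv_map (subRep ρ (orth P X) hO) ρ (orth P X).subtype (fun _ _ => rfl) (orth P X).injective_subtype
    (orth (P.compl₁₂ (orth P X).subtype (orth P X).subtype) Z) (hS.orth_inv hZ)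
  refine ⟨_, _, hZ', hW', e1, e2, ?_, nd_map' hZn, nd_map' (hS.nd_orth hZn), ?_, ?_, ?_, rfl, rfl⟩
  · rw [eq_top_iff]
    intro x _
    obtain ⟨y, hy, z, hz, rfl⟩ := Submodule.mem_sup.1 (show x ∈ X ⊔ orth P X by rw [(S.compl hX hnd).sup_eq_top]; trivial)
    obtain ⟨z₁, hz₁, z₂, hz₂, e⟩ := Submodule.mem_sup.1 (show (⟨z, hz⟩ : orth P X) ∈
      Z ⊔ orth (P.compl₁₂ (orth P X).subtype (orth P X).subtype) Z by rw [(hS.compl hZ hZn).sup_eq_top]; trivial)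
    have e' : (z₁ : V) + (z₂ : V) = z := congrArg Subtype.val e
    rw [← e', ← add_assoc]
    exact Submodule.add_mem_sup (Submodule.add_mem_sup hy ⟨z₁, hz₁, rfl⟩) ⟨z₂, hz₂, rfl⟩
  · rintro x hx _ ⟨y, -, rfl⟩
    exact y.2 x hx
  · rintro x hx _ ⟨y, -, rfl⟩
    exact y.2 x hx
  · rintro _ ⟨x, hx, rfl⟩ _ ⟨y, hy, rfl⟩
    exact hy x hx

end Cfsg.Agent.R2.F4T
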