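import Cfsg.Agent.R2.H28.SL2.SplitE
import Cfsg.Agent.R2.H22.Q7a

/-!
# Vectors fixed by `U`, `a = 1` (helper6, S5931)

* `w_SS`, `SS_SS` : the operator `SS` on the vectors of `Ew e`;
* `gen_one`, `hw_soc` : if the label `Q - c` is not in the socle, `U`-fixed vectors of weight `c` lie in submodules `V_c`;
* `finrank_le_uf` : `dim V ≤ p · dim V^U`.
-/

set_option autoImplicit false
set_option linter.unusedSectionVars false

namespace Cfsg.Agent.R2.F4T

open Matrix Cfsg.Agent.H943.SL2Rel Cfsg.Agent.H943.SL2Mod Cfsg.Agent.H943.RepAdd Cfsg.Agent.R2.H28.SL2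
open Cfsg.Agent.R2.H22.Q7 (Ew mem_Ew Uf mem_Uf finrank_Ew_le Uf_le finrank_ker_pow_le)

universe u v w

section ops

variable {k : Type*} [Field k] [DecidableEq k] {F : Type*} [Field F] [Fintype F] [DecidableEq F] (ι : F →+* k)
variable {V : Type*} [AddCommGroup V] [Module k V] {ρ : Representation k (SpecialLinearGroup (Fin 2) F) V}

theorem Dm_fix {x : V} (hx : ∀ t, ρ (u t) x = x) {m : ℕ} (hm : 1 ≤ m) : Dm ι ρ m x = 0 := by
  have h := Dm_mem' ι ρ (W := (⊥ : Submodule k V)) (x := x) (fun t => by rw [hx, sub_self]; exact Submodule.zero_mem _) hm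
  exact (Submodule.mem_bot k).1 h

theorem w_SS {c : ℕ} (hc : 0 < c) (hcQ : c < Fintype.card F - 1) {x : V} (hx : x ∈ Ew ι ρ c) :
    ρ w (SS ρ x) = ι ((-1 : Fˣ) : F) ^ c • x - Dm ι ρ c (ρ w x) := by
  have hq := one_lt (F := F)
  have hU : UFix ρ (Submodule.span k {x}) := by
    intro t d hd
    obtain ⟨e, rfl⟩ := Submodule.mem_span_singleton.1 hd
    rw [map_smul, hx.1]
  have h1 : ∀ t : F, ρ w (ρ (u t) (ρ w x)) = (if t = 0 then ι ((-1 : Fˣ) : F) ^ c • x else 0) +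
      ι (-t) ^ c • ρ (u (-t⁻¹)) (ρ w x) := by
    intro t
    by_cases ht : t = 0
    · rw [if_pos ht, ht, u_zero, map_one, Module.End.one_apply, ww, hx.2, neg_zero, map_zero, zero_pow (by omega), zero_smul,
        add_zero]
    · rw [if_neg ht, zero_add, wuw ρ hU ht (Submodule.mem_span_singleton_self x), hx.2, map_smul, map_smul]
      congr 2
      have h2 : (((mi t ht)⁻¹ : Fˣ) : F) = -t := by
        rw [Units.val_inv_eq_inv_val]
        show (-t⁻¹)⁻¹ = -t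
        rw [inv_neg, inv_inv]
      rw [h2]
  rw [SS_apply, map_sum, Finset.sum_congr rfl fun t _ => h1 t, Finset.sum_add_distrib,
    Finset.sum_ite_eq' Finset.univ (0 : F), if_pos (Finset.mem_univ _), sub_eq_add_neg]
  congr 1
  rw [Dm_apply, neg_neg]
  refine Fintype.sum_equiv (Function.Involutive.toPerm (fun t : F => -t⁻¹) fun t => by
    show -(-t⁻¹)⁻¹ = t
    rw [inv_neg, inv_inv, neg_neg]) _ _ fun t => ?_
  show ι (-t) ^ c • ρ (u (-t⁻¹)) (ρ w x) = ι (-t⁻¹) ^ (Fintype.card F - 1 - c) • ρ (u (-t⁻¹)) (ρ w x)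
  congr 1
  by_cases ht : t = 0
  · rw [ht, _root_.inv_zero, neg_zero, map_zero, zero_pow (by omega), zero_pow (by omega)]
  · have h2 : ι (-t⁻¹) ^ (Fintype.card F - 1) = 1 := powQ ι (neg_ne_zero.2 (inv_ne_zero ht))
    have h3 : ι (-t⁻¹) ^ (Fintype.card F - 1 - c) * ι (-t⁻¹) ^ c = 1 := by
      rw [← pow_add, Nat.sub_add_cancel hcQ.le, h2]
    have h4 : ι (-t) ^ c * ι (-t⁻¹) ^ c = 1 := by
      rw [← mul_pow, ← map_mul, neg_mul_neg, mul_inv_cancel₀ ht, map_one, one_pow]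
    have h5 : ι (-t⁻¹) ^ c ≠ 0 := pow_ne_zero _ ((map_ne_zero ι).2 (neg_ne_zero.2 (inv_ne_zero ht)))
    exact mul_right_cancel₀ h5 (h4.trans h3.symm)

theorem SS_eq_Dm (z : V) : SS ρ z = -Dm ι ρ (Fintype.card F - 1) (ρ w z) := by
  rw [SS_apply, Dm_apply, neg_neg, Nat.sub_self]
  exact Finset.sum_congr rfl fun t _ => by rw [pow_zero, one_smul]

theorem SS_SS {c : ℕ} (hc : 0 < c) (hcQ : c < Fintype.card F - 1) {x : V} (hx : x ∈ Ew ι ρ c) : SS ρ (SS ρ x) = 0 := by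
  have hq := one_lt (F := F)
  rw [SS_eq_Dm ι (SS ρ x), w_SS ι hc hcQ hx, map_sub, map_smul, Dm_fix ι hx.1 (by omega), smul_zero, zero_sub, neg_neg,
    Dm_mul_zero ι ρ (by omega) (by omega) le_rfl hcQ.le (by omega)]

theorem SS_mem_Ew [IsAlgClosed k] {c e : ℕ} (he : (c + e) % (Fintype.card F - 1) = 0) {x : V} (hx : x ∈ Ew ι ρ c) :
    SS ρ x ∈ Ew ι ρ e := by
  refine ⟨fun t => SS_u ρ t x, fun a => ?_⟩
  rw [H28.SL2.SS_h, hx.2, map_smul]
  congr 1
  have h0 : ι (a : F) ≠ 0 := (map_ne_zero ι).2 a.ne_zero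
  rw [Units.val_inv_eq_inv_val, map_inv₀, inv_pow]
  apply inv_eq_of_mul_eq_one_left
  rw [← pow_add]
  obtain ⟨n, hn⟩ := Nat.dvd_of_mod_eq_zero he
  rw [add_comm, hn, pow_mul, powQ ι a.ne_zero, one_pow]

end ops

variable {k : Type u} [Field k] [DecidableEq k] {F : Type w} [Field F] [Fintype F] [DecidableEq F] (ι : F →+* k)
variable (p : ℕ) [Fact p.Prime] [CharP k p] [CharP F p] [IsAlgClosed k] (hF : Fintype.card F = p)

section

variable {V : Type v} [AddCommGroup V] [Module k V] [FiniteDimensional k V]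
  {ρ : Representation k (SpecialLinearGroup (Fin 2) F) V}

include hF in
theorem isV_rb' {b : ℕ} (hb : b ≤ p - 1) : ∃ (B : Type (max u w)) (_ : AddCommGroup B) (_ : Module k B)
    (σ : Representation k (SpecialLinearGroup (Fin 2) F) B), IsV ι p σ b := by
  have hb' : b ≤ Fintype.card F - 1 := by omega
  exact ⟨Vb ι b, _, _, RB ι p hb', hb', LinearEquiv.refl _ _, fun _ _ => rfl⟩

include hF in
/-- a `U`-fixed vector killed by `SS` -/
theorem gen_one {c : ℕ} (hc : 0 < c) (hcQ : c < p - 1) {x : V} (hx : x ∈ Ew ι ρ c) (hS : SS ρ x = 0) (hx0 : x ≠ 0) :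
    ∃ (X : Submodule k V) (hX : ∀ g, ∀ y ∈ X, ρ g y ∈ X), IsV ι p (subRep ρ X hX) c ∧ x ∈ X := by
  have hp : p.Prime := Fact.out
  have hq := one_lt (F := F)
  have hD1 : Dm ι ρ c (ρ w x) = ι ((-1 : Fˣ) : F) ^ c • x := by
    have h1 := w_SS ι hc (by omega) hx
    rw [hS, map_zero] at h1
    exact (sub_eq_zero.1 h1.symm).symm
  have hD2 : Dm ι ρ (c + 1) (ρ w x) = 0 := by
    have h1 := Dm_mul' ι ρ p (a := 1) (by rw [pow_one]; exact hF) (m := 1) (n := c) le_rfl (by omega) (by omega) (ρ w x)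
    rw [hD1, map_smul, Dm_fix ι hx.1 le_rfl, smul_zero, Nat.choose_one_right] at h1
    have h2 : ((1 + c : ℕ) : k) ≠ 0 := by
      rw [Ne, CharP.cast_eq_zero_iff k p]
      intro h3
      have := Nat.le_of_dvd (by omega) h3
      omega
    rw [add_comm 1 c] at h1 h2
    exact (smul_eq_zero.1 h1.symm).resolve_left h2
  obtain ⟨B, _, _, σ, hσ⟩ := isV_rb' ι p hF (b := c) hcQ.le
  obtain ⟨m, hm0, hmu, -⟩ := IsV.hw ι p hσ
  obtain ⟨f, hf, hfm⟩ := gen_hw ι p ρ (a := 1) (by rw [hF, pow_one]) hσ hm0 hmu hx.1 hx.2 (by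
    rw [hS]
    unfold cb
    rw [if_pos (by omega), zero_smul]) (fun i hi _ => by
      have : i = 0 := by omega
      subst this
      unfold en
      rw [pow_zero, Nat.div_one, Nat.mod_eq_of_lt (by omega), mul_one]
      exact hD2)
  have hf0 : f ≠ 0 := by
    rintro rfl
    exact hx0 (by rw [← hfm]; rfl)
  have hker : LinearMap.ker f = ⊥ := by
    rcases hσ.irr.2 (LinearMap.ker f) (fun g y hy => by
      rw [LinearMap.mem_ker] at hy ⊢
      rw [hf, hy, map_zero]) with h4 | h4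
    · exact h4
    · exact absurd (LinearMap.ker_eq_top.1 h4) hf0
  have hX : ∀ g, ∀ y ∈ LinearMap.range f, ρ g y ∈ LinearMap.range f := by
    rintro g _ ⟨y, rfl⟩
    exact ⟨_, hf g y⟩
  exact ⟨LinearMap.range f, hX, IsV.iso ι p (LinearEquiv.ofInjective f (LinearMap.ker_eq_bot.1 hker))
    (fun g y => Subtype.ext (hf g y)) hσ, ⟨m, hfm⟩⟩

include hF in
/-- **`U`-fixed vectors of weight `c`** -/
theorem hw_soc {c : ℕ} (hc : 0 < c) (hcQ : c < p - 1) (hn : ¬ InSoc ι p ρ (p - 1 - c)) {x : V} (hx : x ∈ Ew ι ρ c)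
    (hx0 : x ≠ 0) : ∃ (X : Submodule k V) (hX : ∀ g, ∀ y ∈ X, ρ g y ∈ X), IsV ι p (subRep ρ X hX) c ∧ x ∈ X := by
  by_cases hS : SS ρ x = 0
  · exact gen_one ι p hF hc hcQ hx hS hx0
  · exfalso
    obtain ⟨X, hX, hV, -⟩ := gen_one ι p hF (c := p - 1 - c) (by omega) (by omega)
      (SS_mem_Ew ι (by rw [hF, show c + (p - 1 - c) = p - 1 by omega, Nat.mod_self]) hx) (SS_SS ι hc (by omega) hx) hS
    exact hn ⟨X, hX, hV⟩

omit [IsAlgClosed k] [FiniteDimensional k V] in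
include hF in
theorem exists_nat' (t : F) : ∃ n : ℕ, t = n := by
  obtain ⟨z, hz⟩ := (ZMod.castHom_bijective F hF).2 t
  refine ⟨z.val, ?_⟩
  rw [← hz]
  conv_lhs => rw [← ZMod.natCast_zmod_val z]
  rw [map_natCast]

include hF in
theorem Uf_eq' : Uf ρ = LinearMap.ker (ρ (u 1) - 1) := by
  ext x
  rw [mem_Uf, LinearMap.mem_ker, LinearMap.sub_apply, Module.End.one_apply, sub_eq_zero]
  refine ⟨fun hx => hx 1, fun hx t => ?_⟩
  obtain ⟨n, rfl⟩ := exists_nat' p hF t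
  have h1 : ∀ n : ℕ, ρ (u ((n : ℕ) : F)) x = x := by
    intro n
    induction n with
    | zero => rw [Nat.cast_zero, u_zero, map_one, Module.End.one_apply]
    | succ n ih => rw [Nat.cast_succ, u_add, map_mul, Module.End.mul_apply, hx, ih]
  exact h1 n

include hF in
/-- **the dimension** -/
theorem finrank_le_uf' : Module.finrank k V ≤ p * Module.finrank k (Uf ρ) := by
  have h1 : (ρ (u 1) - 1) ^ p = 0 := by
    have h2 : (Polynomial.X - 1 : Polynomial k) ^ p = Polynomial.X ^ p - 1 := by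
      rw [sub_pow_char, one_pow]
    have h3 := congrArg (Polynomial.aeval (ρ (u 1) : Module.End k V)) h2
    rw [map_pow, map_sub, Polynomial.aeval_X, map_one, map_sub, map_pow, Polynomial.aeval_X, map_one,
      u_pow_p ρ p (1 : F), sub_self] at h3
    exact h3
  have h2 := finrank_ker_pow_le (ρ (u 1) - 1) p
  rw [h1, ← Uf_eq' p hF] at h2
  have h3 : LinearMap.ker (0 : V →ₗ[k] V) = ⊤ := LinearMap.ker_zero
  rw [h3, finrank_top] at h2
  exact h2

end

end Cfsg.Agent.R2.F4T
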