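import Cfsg.Agent.R2.F4T.Table
import Cfsg.Agent.R2.F4M.FixU
import Cfsg.Agent.R2.F4L.RuA
import Cfsg.Agent.R2.F4N.CaseC
import Cfsg.Agent.R2.F4N.CaseD
import Cfsg.Agent.R2.H1.F4.AlphaG
import Cfsg.Agent.R2.H27.F4Th.Main

/-!
# S5931: assembly for `p ≥ 5` (helper6)

* `cx` : the context `Cx` for `Rk`; `em0` : `Em` for `R0`; `prd0` : the product on `J₀`;
* `exists_tb` : the table; `fin5` : the conclusion from the table.
-/

set_option autoImplicit false
set_option linter.unusedSectionVars false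

namespace Cfsg.Agent.R2.F4T

open Cfsg Cfsg.Lie Module Matrix
open Cfsg.Agent.ChevalleyStructure.E6Min.Basic
open Cfsg.Agent.H952.F4 Cfsg.Agent.H952.F4.Jord
open Cfsg.Agent.H952.F4.FixV (W0 mem_W0 finrank_W0 u0_ne_zero)
open Cfsg.Agent.R2.F4M
open Cfsg.Agent.R2.H9.E6
open Cfsg.Agent.GpExc.Field (emb)
open Cfsg.Agent.R2.H28.SL2 Cfsg.Agent.H943.RepAdd
open Cfsg.Agent.R2.SL2 (typ tyl coe_tyl typ_step typ_zero tyl_eq_nil mem_typ listF4)
open Cfsg.Agent.R2.GEO (tfB tfB_apply)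
open Cfsg.Agent.R2.F4L (Cx Em stV j_stV stV_comm stV_eqv)

universe u v

section bridge

variable {F : Type u} [Field F] [Fintype F] {K : Type v} [Field K]
variable (φ : ProjectiveSpecialLinearGroup (Fin 2) K →* ↥(chevF4.group F)) {k : Type u} [Field k] [Algebra F k]

/-- the two forms of the action of `L` on `J` over `k` -/
theorem V_psik (g : SpecialLinearGroup (Fin 2) K) (x : I27 → k) :
    Cfsg.Agent.H163.E6.V k (F4N.ψk k φ (pq g)) x = Rk (algebraMap F k) φ g x := by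
  have h : Cfsg.Agent.H163.E6.V k (F4N.ψk k φ (pq g)) = Rk (algebraMap F k) φ g := by
    refine LinearMap.pi_ext' fun i => LinearMap.ext_ring ?_
    have e : (LinearMap.single k (fun _ : I27 => k) i) 1 = fun j => algebraMap F k ((Pi.single i (1 : F) : I27 → F) j) := by
      funext j
      rw [LinearMap.single_apply]
      by_cases hij : j = i
      · subst hij
        rw [Pi.single_eq_same, Pi.single_eq_same, map_one]
      · rw [Pi.single_eq_of_ne hij, Pi.single_eq_of_ne hij, map_zero]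
    rw [LinearMap.comp_apply, LinearMap.comp_apply, e, Rk_map]
    have h1 := Cfsg.Agent.H65.E6Emb.V_emb (algebraMap F k) (zt F (φ (pq g))) (Pi.single i (1 : F))
    rw [V_zt] at h1
    exact h1
  rw [h]

end bridge

section cfg

variable {F : Type u} [Field F] [Fintype F] {K : Type v} [Field K] [Fintype K] {p a b : ℕ}
variable {H : Subgroup ↥(chevF4.group F)} {φ : ProjectiveSpecialLinearGroup (Fin 2) K →* ↥(chevF4.group F)}
variable {k : Type u} [Field k] [DecidableEq k] [DecidableEq K] [IsAlgClosed k]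
variable [Fact p.Prime] [CharP k p] [CharP K p] {ι : K →+* k}

/-- the context -/
theorem cx [Algebra F k] [Algebra.IsAlgebraic F k] (h : Cfg p a b H φ) (hp5 : 5 ≤ p) :
    Cx ι p a (Rk (algebraMap F k) φ) where
  act := ⟨fun a x => (Rk_sh _ _ a x).symm, fun a => Rk_u0 _ _ a⟩
  hp5 := hp5
  card := h.cardK
  seven := h.seven
  fix y hy := h.nofix_rk _ hy
  white W hst hW := F4N.white h (by omega) (h.fixU k) hW fun t x hx => by
    obtain ⟨g, rfl⟩ := pq_surjective t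
    rw [V_psik]
    exact hst g x hx

variable (f : F →+* k)

/-- `J₀` -/
theorem em0 : Em (Rk f φ) (R0 f φ) (W0 k).subtype where
  inj := (W0 k).injective_subtype
  tr x := (mem_W0 _).1 x.2
  sur y hy := ⟨⟨y, (mem_W0 _).2 hy⟩, rfl⟩
  eqv _ _ := rfl

/-- the product on `J₀` -/
theorem prd0 (C : Cx ι p a (Rk f φ)) : Prd (R0 f φ) (tf0 k) (stV (em0 (φ := φ) f) C.three) where
  comm := stV_comm _ _
  eqv := stV_eqv _ C.act _
  four x y z t := by
    have h := H1.F4.four C.two C.three (x := (x : I27 → k)) (y := (y : I27 → k)) (z := (z : I27 → k)) (w := (t : I27 → k))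
      ((mem_W0 _).1 x.2) ((mem_W0 _).1 y.2) ((mem_W0 _).1 z.2) ((mem_W0 _).1 t.2)
    simp only [tf0_apply]
    have e : ∀ x y : ↥(W0 k), ((stV (em0 (φ := φ) f) C.three x y : ↥(W0 k)) : I27 → k) = H1.F4.st (x : I27 → k) y :=
      fun x y => j_stV (em0 (φ := φ) f) C.three x y
    rw [e, e, e, e, e, e]
    exact h
  white X hX h := C.white_bot (em0 (φ := φ) f) hX fun x hx => H1.F4.sh_of_sq C.two C.three ((mem_W0 _).1 x.2) (by
    have h1 := j_stV (em0 (φ := φ) f) C.three x x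
    rw [h x hx, map_zero] at h1
    exact h1.symm)

/-- **the table** -/
theorem exists_tb (h : Cfg p a b H φ) (C : Cx ι p a (Rk f φ)) (R : Rl ι p a (R0 f φ) (tf0 k)) :
    Tb ι p a (R0 f φ) (tf0 k) := by
  obtain ⟨W, hW, hw⟩ := h.pat5 (ι := ι) f C.hp5
  exact table h.cardK hw (H27.F4Th.sd_R0 C.three) R (prd0 f C) C.hp5 (by rw [← h.cardK]; exact h.seven) finrank_W0
    (fun x hx => h.fix0 f C.three hx) hW

/-- **the conclusion** -/
theorem fin5 (h : Cfg p a b H φ) (C : Cx ι p a (Rk f φ)) (T : Tb ι p a (R0 f φ) (tf0 k))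
    (hA : p = 7 → ∀ r < a, ∀ (Y M T X : Submodule k ↥(W0 k)) (_ : ∀ g, ∀ x ∈ Y, R0 f φ g x ∈ Y)
      (hM : ∀ g, ∀ x ∈ M, R0 f φ g x ∈ M) (hT : ∀ g, ∀ x ∈ T, R0 f φ g x ∈ T) (hX : ∀ g, ∀ x ∈ X, R0 f φ g x ∈ X),
      Nd (tf0 k) Y → Nd (tf0 k) M → Nd (tf0 k) T → (∀ x ∈ Y, ∀ y ∈ M, tf0 k x y = 0) →
      (∀ x ∈ Y, ∀ y ∈ T, tf0 k x y = 0) → (∀ x ∈ M, ∀ y ∈ T, tf0 k x y = 0) → Y ⊔ M ⊔ T = ⊤ →
      IsV (V := ↥M) ι p (subRep (R0 f φ) M hM) (4 * p ^ r) → IsV (V := ↥T) ι p (subRep (R0 f φ) T hT) (6 * p ^ r) →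
      X ≤ Y → IsV (V := ↥X) ι p (subRep (R0 f φ) X hX) (4 * p ^ r) → Iso (tf0 k) X →
      (∀ (Z : Submodule k ↥(W0 k)) (hZ : ∀ g, ∀ x ∈ Z, R0 f φ g x ∈ Z) (c : ℕ),
        IsV (V := ↥Z) ι p (subRep (R0 f φ) Z hZ) c → Z ≤ Y → Z = X) → Module.finrank k Y = 14 →
      (cf (Sy.{u, u, v} ι p) (R0 f φ)).count (4 * p ^ r) = 3 →
      (cf (Sy.{u, u, v} ι p) (R0 f φ)).count (6 * p ^ r) = 1 →
      (∀ c, c ≠ 4 * p ^ r → (cf (Sy.{u, u, v} ι p) (R0 f φ)).count c ≤ 1) → False) : 13 ≤ p ∧ a = b := by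
  have S := H27.F4Th.sd_R0 (f := f) (φ := φ) C.three
  cases T with
  | alpha hp r hr A B M M' hA hB hM hM' hAV hBV hMV hMV' hsup =>
    refine (H1.F4.no_alpha h hp ?_ (σ := R0 f φ) (j := (W0 k).subtype) (fun g x => rfl) (em0 (φ := φ) f).tr (em0 (φ := φ) f).sur hAV hBV hMV hMV' hsup).elim
    rw [h.cardK]
    exact Nat.le_self_pow (by have := h.ha; omega) p
  | theta hp r hr c ht hcf hnd => exact (H27.F4Th.no_thetaB h C hp hr ht hcf hnd).elim
  | e hp r hr s hs hcf hnd =>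
    have h1 := S.all_soc (ι := ι) (p := p) hnd
    exact ⟨by omega, F4N.caseE (f := f) ι h hp hr hs hcf (h1 _ (by rw [hcf]; exact Multiset.mem_cons_self _ _))
      (h1 _ (by rw [hcf]; exact Multiset.mem_cons_of_mem (Multiset.mem_singleton_self _)))⟩
  | c hp ha r hr hcf X hX hV hu =>
    exact ⟨by omega, F4N.caseC (f := f) ι h hp ha hr hcf hV fun Y hY c hc => hu Y hY hc.irr⟩
  | d hp ha hcf X hX hV hu => exact ⟨by omega, F4N.caseD (f := f) ι h hp ha hcf hV hu C.white⟩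
  | theta7 hp ha r hr Y hY hO hYn hYc c ht hV => exact (H27.F4Th.no_thetaF h C hp ha hr ht hY hYn hYc hV).elim
  | alpha7 hp r hr Y M T X hY hM hT hX hYn hMn hTn hYM hYT hMT hsup hMV hTV hXY hXV hXi hu hd h4 h6 hc1 =>
    exact (hA hp r hr Y M T X hY hM hT hX hYn hMn hTn hYM hYT hMT hsup hMV hTV hXY hXV hXi hu hd h4 h6 hc1).elim

end cfg

end Cfsg.Agent.R2.F4T
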