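import Cfsg.Agent.R2.F4T.Sd

/-!
# The rules for the socle of the 26-dimensional module of `F₄`, `p ≥ 5` (helper6, S5931)

`Rl ι p a ρ P` : the rules (to be proved from the product of `J`), `ρ` the representation on `J₀` over `k`, `P` the trace
form; `okA`, `okB`, `okC` : the conditions on the types of the socle for `p ≥ 11`, `p = 7`, `p = 5`.
-/

set_option autoImplicit false
set_option linter.unusedSectionVars false

namespace Cfsg.Agent.R2.F4T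

open Matrix Cfsg.Agent.H943.SL2Rel Cfsg.Agent.H943.SL2Mod Cfsg.Agent.H943.RepAdd Cfsg.Agent.R2.H28.SL2
open Cfsg.Agent.R2.SL2 (typ tyl coe_tyl typ_step typ_zero tyl_eq_nil mem_typ listF4)

universe u v w

variable {k : Type u} [Field k] [DecidableEq k] {F : Type w} [Field F] [Fintype F] [DecidableEq F] (ι : F →+* k)
variable (p : ℕ) [Fact p.Prime] [CharP k p] [CharP F p] [IsAlgClosed k] (a : ℕ)
variable {V : Type v} [AddCommGroup V] [Module k V] [FiniteDimensional k V]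

/-- **the rules** -/
structure Rl (ρ : Representation k (SpecialLinearGroup (Fin 2) F) V) (P : V →ₗ[k] V →ₗ[k] k) : Prop where
  sS : ∀ (X : Submodule k V) (hX : ∀ g, ∀ x ∈ X, ρ g x ∈ X), X ≠ ⊥ →
    ∃ c, c ∈ cf (Sy.{u, v, w} ι p) (Sq (subRep ρ X hX)) ∧ c ≠ 0 ∧ InSoc ι p ρ c
  n2 : ∀ i < a, ¬ InSoc ι p ρ (2 * p ^ i)
  n4 : 11 ≤ p → ∀ i < a, (cf (Sy.{u, v, w} ι p) ρ).count (4 * p ^ i) ≤ 3 → InSoc ι p ρ (4 * p ^ i) →
    8 * p ^ i ∈ cf (Sy.{u, v, w} ι p) ρ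
  i4 : 11 ≤ p → ∀ i < a, (cf (Sy.{u, v, w} ι p) ρ).count (4 * p ^ i) ≤ 3 → InSoc ι p ρ (4 * p ^ i) →
    (∀ (X : Submodule k V) (hX : ∀ g, ∀ x ∈ X, ρ g x ∈ X), IsV ι p (subRep ρ X hX) (4 * p ^ i) → Iso P X) →
    ∃ (Y : Submodule k V) (hY : ∀ g, ∀ x ∈ Y, ρ g x ∈ Y), IsV ι p (subRep ρ Y hY) (8 * p ^ i) ∧ Iso P Y
  n45 : p = 5 → 0 ∉ cf (Sy.{u, v, w} ι p) ρ → ∀ i < a, (cf (Sy.{u, v, w} ι p) ρ).count (4 * p ^ i) ≤ 3 →
    ¬ InSoc ι p ρ (4 * p ^ i)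
  n47 : p = 7 → 2 ≤ a → 0 ∉ cf (Sy.{u, v, w} ι p) ρ → ∀ i < a, (cf (Sy.{u, v, w} ι p) ρ).count (4 * p ^ i) ≤ 3 →
    (InSoc ι p ρ (p ^ i + p ^ ((i + 1) % a)) → (cf (Sy.{u, v, w} ι p) ρ).count (p ^ i + p ^ ((i + 1) % a)) ≤ 1) →
    ((cf (Sy.{u, v, w} ι p) ρ).count (p ^ i + p ^ ((i + 1) % a)) ≤ 1 ∨
      (cf (Sy.{u, v, w} ι p) ρ).count (4 * p ^ i) ≤ 2) → InSoc ι p ρ (4 * p ^ i) →
    ∃ (Y : Submodule k V) (hY : ∀ g, ∀ x ∈ Y, ρ g x ∈ Y), Nd P Y ∧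
      cf (Sy.{u, v, w} ι p) (subRep ρ Y hY) = {4 * p ^ i, 4 * p ^ i, p ^ i + p ^ ((i + 1) % a)}
  n22 : ∀ i < a, ∀ j < a, i ≠ j → (cf (Sy.{u, v, w} ι p) ρ).count (2 * p ^ i + 2 * p ^ j) ≤ 3 →
    ¬ InSoc ι p ρ (4 * p ^ i) → ¬ InSoc ι p ρ (4 * p ^ j) → ¬ InSoc ι p ρ (4 * p ^ i + 4 * p ^ j) →
    ¬ InSoc ι p ρ (2 * p ^ i + 2 * p ^ j)

variable {ι p a}
variable {ρ : Representation k (SpecialLinearGroup (Fin 2) F) V} {P : V →ₗ[k] V →ₗ[k] k} (R : Rl ι p a ρ P)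
  (hF : Fintype.card F = p ^ a)

include R hF

theorem Rl.n11 (hp5 : 5 ≤ p) {i j : ℕ} (hi : i < a) (hj : j < a) (hij : i ≠ j) (h : InSoc ι p ρ (p ^ i + p ^ j)) :
    2 * p ^ i + 2 * p ^ j ∈ cf (Sy.{u, v, w} ι p) ρ := by
  obtain ⟨X, hX, hV⟩ := h
  have hX0 : X ≠ ⊥ := Submodule.nontrivial_iff_ne_bot.1 hV.irr.1
  obtain ⟨c, h1, h2, h3⟩ := R.sS X hX hX0
  rw [sq_11 ι p hF (by omega) hij hi hj hV, Multiset.insert_eq_cons, Multiset.mem_cons, Multiset.mem_singleton] at h1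
  rcases h1 with rfl | rfl
  · exact h3.mem_cf
  · exact absurd rfl h2

theorem Rl.sq1 {n i : ℕ} (hn : n < p) (hi : i < a) (h : InSoc ι p ρ (n * p ^ i)) :
    ∃ c ∈ sqs p a i n, c ≠ 0 ∧ InSoc ι p ρ c := by
  obtain ⟨X, hX, hV⟩ := h
  have hX0 : X ≠ ⊥ := Submodule.nontrivial_iff_ne_bot.1 hV.irr.1
  obtain ⟨c, h1, h2, h3⟩ := R.sS X hX hX0
  rw [cf_sq_single ι p hF hn hi hV] at h1
  exact ⟨c, h1, h2, h3⟩

variable {W : List (List ℕ)} (hw : (W : Multiset (List ℕ)) = (cf (Sy.{u, v, w} ι p) ρ).map (tyl p))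
  (hW4 : (W : Multiset (List ℕ)).count [4] ≤ 3) (hW22 : (W : Multiset (List ℕ)).count [2, 2] ≤ 3)

include hw

theorem Rl.soc2 {c : ℕ} (hc : InSoc ι p ρ c) : tyl p c ≠ [2] := by
  intro h
  obtain ⟨i, hi, rfl⟩ := tyl_single_inv h (cf_lt ι p hF ρ c hc.mem_cf) (by norm_num)
  exact R.n2 i hi hc

theorem Rl.soc11 (hp5 : 5 ≤ p) {c : ℕ} (hc : InSoc ι p ρ c) (h : tyl p c = [1, 1]) : [2, 2] ∈ W := by
  obtain ⟨i, hi, j, hj, hij, rfl⟩ := tyl_pair_inv h (cf_lt ι p hF ρ c hc.mem_cf) (by norm_num) (by norm_num)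
  rw [one_mul, one_mul] at hc
  have h1 := cf_typ_mem ι p hw (R.n11 hF hp5 hi hj hij hc)
  rwa [tyl_pair (by norm_num) (by omega) le_rfl (by omega) hij] at h1

include hW4

theorem Rl.soc4 (hp : 11 ≤ p) {c : ℕ} (hc : InSoc ι p ρ c) (h : tyl p c = [4]) :
    ∃ i < a, c = 4 * p ^ i ∧ 8 * p ^ i ∈ cf (Sy.{u, v, w} ι p) ρ := by
  obtain ⟨i, hi, rfl⟩ := tyl_single_inv h (cf_lt ι p hF ρ c hc.mem_cf) (by norm_num)
  refine ⟨i, hi, rfl, R.n4 hp i hi ?_ hc⟩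
  have := count_tyl hw (4 * p ^ i)
  rw [h] at this
  omega

theorem Rl.soc4' (hp : 11 ≤ p) {c : ℕ} (hc : InSoc ι p ρ c) (h : tyl p c = [4]) : [8] ∈ W := by
  obtain ⟨i, hi, rfl, h8⟩ := R.soc4 hF hw hW4 hp hc h
  have h1 := cf_typ_mem ι p hw h8
  rwa [tyl_single (by norm_num) (by omega)] at h1

include hW22

omit hW4 in
theorem Rl.soc22 (hp5 : 5 ≤ p) {c : ℕ} (hc : InSoc ι p ρ c) (h : tyl p c = [2, 2]) :
    (∃ d, InSoc ι p ρ d ∧ tyl p d = [4]) ∨ [4, 4] ∈ W := by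
  obtain ⟨i, hi, j, hj, hij, rfl⟩ := tyl_pair_inv h (cf_lt ι p hF ρ c hc.mem_cf) (by norm_num) (by norm_num)
  by_contra hcon
  push Not at hcon
  obtain ⟨h1, h2⟩ := hcon
  refine R.n22 i hi j hj hij ?_ (fun h3 => h1 _ h3 (tyl_single (by norm_num) (by omega) _))
    (fun h3 => h1 _ h3 (tyl_single (by norm_num) (by omega) _)) (fun h3 => h2 ?_) hc
  · have := count_tyl hw (2 * p ^ i + 2 * p ^ j)
    rw [h] at this
    omega
  · have h4 := cf_typ_mem ι p hw h3.mem_cf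
    rwa [tyl_pair (by norm_num) (by omega) le_rfl (by omega) hij] at h4

/-- the conditions on the types of the socle, `p ≥ 11` -/
def okA (W : List (List ℕ)) (t : List ℕ) : Bool :=
  decide (t ∈ W ∧ t ≠ [2] ∧ (t = [1, 1] → [2, 2] ∈ W) ∧ (t = [4] → [8] ∈ W) ∧ (t = [2, 2] → [8] ∈ W ∧ [4] ∈ W ∨ [4, 4] ∈ W))

theorem Rl.okA (hp : 11 ≤ p) {c : ℕ} (hc : InSoc ι p ρ c) : okA W (tyl p c) = true := by
  unfold F4T.okA
  rw [decide_eq_true_iff]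
  refine ⟨cf_typ_mem ι p hw hc.mem_cf, R.soc2 hF hw hc, R.soc11 hF hw (by omega) hc, R.soc4' hF hw hW4 hp hc, fun h => ?_⟩
  rcases R.soc22 hF hw hW22 (by omega) hc h with ⟨d, hd, h4⟩ | h1
  · refine Or.inl ⟨R.soc4' hF hw hW4 hp hd h4, ?_⟩
    rw [← h4]
    exact cf_typ_mem ι p hw hd.mem_cf
  · exact Or.inr h1

/-- the conditions on the types of the socle, `p = 5`, no trivial factor -/
def okC (W : List (List ℕ)) (t : List ℕ) : Bool :=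
  decide (t ∈ W ∧ t ≠ [2] ∧ (t = [1, 1] → [2, 2] ∈ W) ∧ t ≠ [4] ∧ (t = [2, 2] → [4, 4] ∈ W))

theorem Rl.okC (hp : p = 5) (h0 : [] ∉ W) {c : ℕ} (hc : InSoc ι p ρ c) : okC W (tyl p c) = true := by
  have h4 : ∀ {c : ℕ}, InSoc ι p ρ c → tyl p c ≠ [4] := by
    intro c hc h
    obtain ⟨i, hi, rfl⟩ := tyl_single_inv h (cf_lt ι p hF ρ c hc.mem_cf) (by norm_num)
    refine R.n45 hp (fun h1 => h0 ?_) i hi ?_ hc
    · have h2 := cf_typ_mem ι p hw h1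
      rwa [tyl_eq_nil.2 rfl] at h2
    · have := count_tyl hw (4 * p ^ i)
      rw [h] at this
      omega
  unfold F4T.okC
  rw [decide_eq_true_iff]
  refine ⟨cf_typ_mem ι p hw hc.mem_cf, R.soc2 hF hw hc, R.soc11 hF hw (by omega) hc, h4 hc, fun h => ?_⟩
  rcases R.soc22 hF hw hW22 (by omega) hc h with ⟨d, hd, h5⟩ | h1
  · exact absurd h5 (h4 hd)
  · exact h1

/-- the conditions on the types of the socle, `p = 7`; `e` : there is a `[4]` in the socle -/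
def okB (W : List (List ℕ)) (e : Bool) (t : List ℕ) : Bool :=
  decide (t ∈ W ∧ t ≠ [2] ∧ (t = [1, 1] → [2, 2] ∈ W) ∧ (t = [4] → e = true) ∧ (t = [2, 2] → e = true ∨ [4, 4] ∈ W))

omit hW4 in
theorem Rl.okB (hp : p = 7) {e : Bool} (he : e = false → ∀ c, InSoc ι p ρ c → tyl p c ≠ [4])
    {c : ℕ} (hc : InSoc ι p ρ c) : okB W e (tyl p c) = true := by
  have h4 : ∀ {c : ℕ}, InSoc ι p ρ c → tyl p c = [4] → e = true := by
    intro c hc h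
    by_contra h1
    exact he (Bool.eq_false_iff.2 h1) c hc h
  unfold F4T.okB
  rw [decide_eq_true_iff]
  refine ⟨cf_typ_mem ι p hw hc.mem_cf, R.soc2 hF hw hc, R.soc11 hF hw (by omega) hc, h4 hc, fun h => ?_⟩
  rcases R.soc22 hF hw hW22 (by omega) hc h with ⟨d, hd, h5⟩ | h1
  · exact Or.inl (h4 hd h5)
  · exact Or.inr h1

omit hW4 in
/-- `p = 7` : the summand `T(8)` -/
theorem Rl.T8 (hW4 : (W : Multiset (List ℕ)).count [4] ≤ 3) (hp : p = 7) (ha : 2 ≤ a) (h0 : [] ∉ W)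
    (hA : [2, 2] ∈ W → (W : Multiset (List ℕ)).count [1, 1] ≤ 1)
    (hB : (W : Multiset (List ℕ)).count [1, 1] ≤ 1 ∨ (W : Multiset (List ℕ)).count [4] ≤ 2) {c : ℕ} (hc : InSoc ι p ρ c)
    (h : tyl p c = [4]) : ∃ i < a, c = 4 * p ^ i ∧ ∃ (Y : Submodule k V) (hY : ∀ g, ∀ x ∈ Y, ρ g x ∈ Y), Nd P Y ∧
      cf (Sy.{u, v, w} ι p) (subRep ρ Y hY) = {4 * p ^ i, 4 * p ^ i, p ^ i + p ^ ((i + 1) % a)} := by
  obtain ⟨i, hi, rfl⟩ := tyl_single_inv h (cf_lt ι p hF ρ c hc.mem_cf) (by norm_num)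
  have hii : i ≠ (i + 1) % a := by
    by_cases h1 : i + 1 = a
    · rw [h1, Nat.mod_self]
      omega
    · rw [Nat.mod_eq_of_lt (by omega)]
      omega
  have ht11 : tyl p (p ^ i + p ^ ((i + 1) % a)) = [1, 1] := by
    have h := tyl_pair (p := p) (n := 1) (m := 1) (by norm_num) (by omega) (by norm_num) (by omega) hii
    rwa [one_mul, one_mul] at h
  have c4 := count_tyl hw (4 * p ^ i)
  have c11 := count_tyl hw (p ^ i + p ^ ((i + 1) % a))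
  rw [h] at c4
  rw [ht11] at c11
  refine ⟨i, hi, rfl, R.n47 hp ha (fun h1 => h0 ?_) i hi (by omega) (fun h1 => ?_) (by omega) hc⟩
  · have h2 := cf_typ_mem ι p hw h1
    rwa [tyl_eq_nil.2 rfl] at h2
  · have := hA (R.soc11 hF hw (by omega) h1 ht11)
    omega

end Cfsg.Agent.R2.F4T
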