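import Cfsg.Agent.R2.F4T.LiftG

/-!
# `Ext¹(V_{3p^r+p^j}, V_{8p^r}) = 0` for `p = 11` (helper6, S5931)
-/

set_option autoImplicit false
set_option linter.unusedSectionVars false

namespace Cfsg.Agent.R2.F4T

open Matrix Cfsg.Agent.H943.SL2Rel Cfsg.Agent.H943.SL2Mod Cfsg.Agent.H943.RepAdd Cfsg.Agent.R2.H28.SL2

universe u v w

section arith

theorem m10 (x : ℕ) : ∃ A, 11 ^ x = 10 * A + 1 := by
  refine ⟨11 ^ x / 10, ?_⟩
  have h : 11 ^ x % 10 = 1 := by
    rw [Nat.pow_mod]
    norm_num
  omega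

theorem mod10 {a X Y : ℕ} (h : X % (11 ^ a - 1) = Y % (11 ^ a - 1)) : X % 10 = Y % 10 := by
  obtain ⟨A, hA⟩ := m10 a
  have h1 : X ≡ Y [MOD 11 ^ a - 1] := h
  have h2 : 10 ∣ 11 ^ a - 1 := ⟨A, by omega⟩
  exact h1.of_dvd h2

theorem pow_lt_Q {a x n : ℕ} (ha : 2 ≤ a) (hx : x < a) (hn : n ≤ 10) : n * 11 ^ x < 11 ^ a - 1 := by
  obtain ⟨b, rfl⟩ : ∃ b, a = b + 1 := ⟨a - 1, by omega⟩
  have h1 : 11 ^ x ≤ 11 ^ b := Nat.pow_le_pow_right (by norm_num) (by omega)
  have h2 : 11 ^ 1 ≤ 11 ^ b := Nat.pow_le_pow_right (by norm_num) (by omega)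
  have h3 : n * 11 ^ x ≤ 10 * 11 ^ b := Nat.mul_le_mul hn h1
  rw [pow_succ]
  omega

theorem pow_add_lt_Q {a x y : ℕ} (ha : 2 ≤ a) (hx : x < a) (hy : y < a) : 11 ^ x + 11 ^ y < 11 ^ a - 1 := by
  obtain ⟨b, rfl⟩ : ∃ b, a = b + 1 := ⟨a - 1, by omega⟩
  have h1 : 11 ^ x ≤ 11 ^ b := Nat.pow_le_pow_right (by norm_num) (by omega)
  have h4 : 11 ^ y ≤ 11 ^ b := Nat.pow_le_pow_right (by norm_num) (by omega)
  have h2 : 11 ^ 1 ≤ 11 ^ b := Nat.pow_le_pow_right (by norm_num) (by omega)
  rw [pow_succ]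
  omega

theorem pow_inj11 {x y : ℕ} (h : 11 ^ x = 11 ^ y) : x = y := Nat.pow_right_injective (le_refl 2 |>.trans (by norm_num)) h

theorem sum_ne11 {x y z : ℕ} (hxy : x ≠ y) : 11 ^ x + 11 ^ y ≠ 2 * 11 ^ z := by
  have key : ∀ {x y : ℕ}, x < y → 11 ^ x + 11 ^ y ≠ 2 * 11 ^ z := by
    intro x y hxy h
    have h3 : 11 ^ x < 11 ^ y := Nat.pow_lt_pow_right (by norm_num) hxy
    have h0 : 0 < 11 ^ x := by positivity
    rcases Nat.lt_or_ge z y with h1 | h1
    · have h4 : 11 * 11 ^ z ≤ 11 ^ y := by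
        rw [← pow_succ']
        exact Nat.pow_le_pow_right (by norm_num) (by omega)
      omega
    · have h2 : 11 ^ y ≤ 11 ^ z := Nat.pow_le_pow_right (by norm_num) h1
      omega
  rcases Nat.lt_or_gt_of_ne hxy with h | h
  · exact key h
  · rw [add_comm]
    exact key h

theorem wrap11 {a r : ℕ} (hr : r < a) : 11 * 11 ^ r ≡ 11 ^ ((r + 1) % a) [MOD 11 ^ a - 1] := by
  rw [← pow_succ']
  by_cases h : r + 1 = a
  · rw [h, Nat.mod_self, pow_zero]
    have h1 : 1 ≤ 11 ^ a := Nat.one_le_pow _ _ (by norm_num)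
    exact ((Nat.modEq_iff_dvd' h1).2 dvd_rfl).symm
  · rw [Nat.mod_eq_of_lt (by omega)]

end arith

variable {k : Type u} [Field k] [DecidableEq k] {F : Type w} [Field F] [Fintype F] [DecidableEq F] (ι : F →+* k)
variable (p : ℕ) [Fact p.Prime] [CharP k p] [CharP F p] [IsAlgClosed k]

/-- **no extensions** -/
theorem ext0_31_8 (hp11 : p = 11) {a : ℕ} (hF : Fintype.card F = p ^ a) {r j : ℕ} (hr : r < a) (hj : j < a) (hrj : r ≠ j) :
    Ext0 (Sy.{u, v, w} ι p) (3 * p ^ r + p ^ j) (8 * p ^ r) := by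
  intro V _ _ _ ρ W hW hb hc
  subst hp11
  have ha : 2 ≤ a := by omega
  have hcard : Fintype.card F - 1 = 11 ^ a - 1 := by rw [hF]
  have h11 : (11 : ℕ).Prime := Fact.out
  obtain ⟨A, hA⟩ := m10 r
  obtain ⟨B, hB⟩ := m10 j
  have hcf : ∀ b ∈ cf (Sy.{u, v, w} ι 11) (subRep ρ W hW), b = 8 * 11 ^ r := by
    intro b hb'
    have h1 : cf (Sy.{u, v, w} ι 11) (subRep ρ W hW) = {8 * 11 ^ r} := cf_irr _ hb
    rw [h1, Multiset.mem_singleton] at hb'
    exact hb'
  have htop : ∀ g, ∀ x ∈ (⊤ : Submodule k (V ⧸ W)), quotRep ρ W hW g x ∈ (⊤ : Submodule k (V ⧸ W)) :=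
    fun _ _ _ => trivial
  obtain ⟨X, hX, -, h1, h2⟩ := lift_gen ι 11 hF W hW ⊤ htop
    (IsV.iso ι 11 Submodule.topEquiv.symm (fun g x => Subtype.ext rfl) hc) (by
      intro b hb' i hi _ h
      rw [hcf b hb'] at h
      have h1 := mod10 h
      have h2 : en 11 (8 * 11 ^ r) i = (if i = r then 9 else 1) * 11 ^ i := by
        unfold en
        rw [dg_single h11.one_lt (by norm_num)]
        split_ifs <;> rfl
      obtain ⟨C, hC⟩ := m10 i
      rw [h2, hA, hB, hC] at h1
      split_ifs at h1 <;> omega) (by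
      intro b hb' h
      rw [hcf b hb'] at h
      have h1 := mod10 (a := a) (X := 8 * 11 ^ r + (3 * 11 ^ r + 11 ^ j)) (Y := 0) (by rw [h, Nat.zero_mod])
      rw [hA, hB] at h1
      omega) (by
      intro x hxu hxh i hi hdig hyW
      obtain ⟨e0, he0⟩ : ∃ e0, e0 = en 11 (3 * 11 ^ r + 11 ^ j) i := ⟨_, rfl⟩
      rw [← he0] at hyW ⊢
      have hen : e0 = (if i = r then 4 else if i = j then 2 else 1) * 11 ^ i := by
        rw [he0]
        unfold en
        rw [dg_two h11.one_lt hrj (by norm_num)]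
        split_ifs <;> rfl
      have he1 : 1 ≤ e0 := by
        rw [he0]
        exact en_pos h11.pos
      have he2 : e0 ≤ Fintype.card F - 1 := by
        rw [he0, hF]
        exact en_le h11.pos hi hdig
      obtain ⟨Y, hY⟩ : ∃ Y : W, Y = ⟨_, hyW⟩ := ⟨_, rfl⟩
      have hYc : (Y : V) = Dm ι ρ e0 (ρ Cfsg.Agent.H943.SL2Rel.w x) := by rw [hY]
      obtain ⟨v, hv⟩ := IsV.basS ι 11 (by norm_num) hb
      have hwt : ∀ a : Fˣ, subRep ρ W hW (h a) Y = ι a ^ (2 * e0 + (Fintype.card F - 1 - 1) * (3 * 11 ^ r + 11 ^ j)) • Y := by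
        intro a
        apply Subtype.ext
        show ρ (h a) (Y : V) = _ • (Y : V)
        rw [hYc, h_Dm ι ρ he2, apply_mul, h_w, ← apply_mul, hxh, map_smul, inv_pow_eq, map_smul, smul_smul, ← pow_add]
      obtain ⟨c, hsum, hcs⟩ := basS_wt hv hwt
      -- the congruence
      have hcs' : ∀ s : Fin (8 + 1), c s ≠ 0 → 2 * (s : ℕ) * 11 ^ r + (3 * 11 ^ r + 11 ^ j) ≡ 8 * 11 ^ r + 2 * e0 [MOD 11 ^ a - 1] := by
        intro s hs
        have h1 : 2 * (s : ℕ) * 11 ^ r ≡ 8 * 11 ^ r + (2 * e0 + (Fintype.card F - 1 - 1) * (3 * 11 ^ r + 11 ^ j))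
            [MOD Fintype.card F - 1] := hcs s hs
        have h2 := h1.add_right (3 * 11 ^ r + 11 ^ j)
        have hq := one_lt (F := F)
        have h3 : 8 * 11 ^ r + (2 * e0 + (Fintype.card F - 1 - 1) * (3 * 11 ^ r + 11 ^ j)) + (3 * 11 ^ r + 11 ^ j) =
            8 * 11 ^ r + 2 * e0 + (Fintype.card F - 1) * (3 * 11 ^ r + 11 ^ j) := by
          obtain ⟨q, hq'⟩ : ∃ q, Fintype.card F - 1 = q + 1 := ⟨Fintype.card F - 1 - 1, by omega⟩
          rw [hq', Nat.add_sub_cancel]
          ring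
        rw [h3] at h2
        have h4 : 8 * 11 ^ r + 2 * e0 + (Fintype.card F - 1) * (3 * 11 ^ r + 11 ^ j) ≡ 8 * 11 ^ r + 2 * e0
            [MOD Fintype.card F - 1] := by
          unfold Nat.ModEq
          rw [Nat.add_mul_mod_self_left]
        have h5 := h2.trans h4
        rwa [hcard] at h5
      have hcs10 : ∀ s : Fin (8 + 1), c s ≠ 0 → (2 * (s : ℕ) + 4) % 10 = (8 + 2 * (if i = r then 4 else if i = j then 2 else 1)) % 10 := by
        intro s hs
        have h1 := mod10 (hcs' s hs)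
        obtain ⟨C, hC⟩ := m10 i
        rw [hen, hA, hB, hC] at h1
        have h2 : 2 * (s : ℕ) * (10 * A + 1) + (3 * (10 * A + 1) + (10 * B + 1)) =
            10 * (2 * s * A + 3 * A + B) + (2 * s + 4) := by ring
        rw [h2, Nat.mul_add_mod] at h1
        rw [h1]
        split_ifs <;> omega
      have hzero : Y = 0 := by
        by_cases hir : i = r
        · subst hir
          -- only `s = 1`
          have hs1 : ∀ s : Fin (8 + 1), c s ≠ 0 → (s : ℕ) = 1 := by
            intro s hs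
            have h1 := hcs10 s hs
            rw [if_pos rfl] at h1
            have hs8 := s.2
            have h2 : (s : ℕ) = 1 ∨ (s : ℕ) = 6 := by omega
            rcases h2 with h2 | h2
            · exact h2
            · exfalso
              have h3 := hcs' s hs
              rw [h2, hen, if_pos rfl] at h3
              have h4 : 15 * 11 ^ i + 11 ^ j ≡ 15 * 11 ^ i + 11 ^ i [MOD 11 ^ a - 1] := by
                convert h3 using 1 <;> ring
              have h5 := Nat.ModEq.add_left_cancel' _ h4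
              have h6 := h5.eq_of_lt_of_lt (by have := pow_lt_Q (n := 1) ha hj (by norm_num); omega)
                (by have := pow_lt_Q (n := 1) ha hi (by norm_num); omega)
              exact hrj (pow_inj11 h6.symm)
          have hY1 : Y = c 1 • v 1 := by
            rw [hsum]
            refine Finset.sum_eq_single (1 : Fin (8 + 1)) (fun s _ hs => ?_) (fun h => absurd (Finset.mem_univ _) h)
            by_contra h0
            have h1 : c s ≠ 0 := fun h1 => h0 (by rw [h1, zero_smul])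
            exact hs (Fin.ext (hs1 s h1))
          -- the trick
          have hD7 : Dm ι ρ (7 * 11 ^ i) (Y : V) = 0 := by
            rw [hYc, hen, if_pos rfl]
            have h7 := pow_lt_Q (n := 7) ha hi (by norm_num)
            have h4 := pow_lt_Q (n := 4) ha hi (by norm_num)
            have h0 : 0 < 11 ^ i := by positivity
            by_cases hle : 7 * 11 ^ i + 4 * 11 ^ i ≤ Fintype.card F - 1
            · rw [Dm_mul' ι ρ 11 hF (by omega) (by omega) hle]
              have h8 : 7 * 11 ^ i + 4 * 11 ^ i = 11 ^ (i + 1) := by rw [pow_succ]; ring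
              rw [h8, (CharP.cast_eq_zero_iff k 11 _).2 (h11.dvd_choose_pow (by omega) (by rw [pow_succ]; omega)), zero_smul]
            · exact Dm_mul_zero ι ρ (by omega) (by omega) (by omega) (by omega) (by omega) _
          have hD7' : Dm ι (subRep ρ W hW) (7 * 11 ^ i) Y = 0 := by
            apply Subtype.ext
            have h1 := Dm_comm ι (subRep ρ W hW) ρ W.subtype (fun g y => rfl) (7 * 11 ^ i) Y
            exact h1.trans hD7
          rw [hY1, map_smul, basS_Dm hv (by norm_num) (by norm_num)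
            (by rw [hcard]; exact pow_lt_Q ha hi (by norm_num)) (by norm_num)] at hD7'
          have hv8 : v 8 ≠ 0 := hv.li.ne_zero (8 : Fin (8 + 1))
          have h9 : c 1 = 0 := by
            rw [show 8 - 1 = 7 from rfl, Nat.choose_self, Nat.cast_one, one_smul] at hD7'
            exact (smul_eq_zero.1 hD7').resolve_right hv8
          rw [hY1, h9, zero_smul]
        · -- no weights
          rw [hsum]
          refine Finset.sum_eq_zero fun s _ => ?_
          by_contra h0
          have hs : c s ≠ 0 := fun h1 => h0 (by rw [h1, zero_smul])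
          have h1 := hcs10 s hs
          have h3 := hcs' s hs
          have hs8 := s.2
          rw [if_neg hir] at h1
          rw [hen, if_neg hir] at h3
          by_cases hij : i = j
          · subst hij
            rw [if_pos rfl] at h1 h3
            have h2 : (s : ℕ) = 4 := by omega
            rw [h2] at h3
            have h4 : (8 * 11 ^ r + 11 ^ i) + 3 * 11 ^ r ≡ (8 * 11 ^ r + 11 ^ i) + 3 * 11 ^ i [MOD 11 ^ a - 1] := by
              convert h3 using 1 <;> ring
            have h5 := Nat.ModEq.add_left_cancel' _ h4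
            have h6 := h5.eq_of_lt_of_lt (pow_lt_Q ha hr (by norm_num)) (pow_lt_Q ha hi (by norm_num))
            exact hir (pow_inj11 (Nat.eq_of_mul_eq_mul_left (by norm_num) h6)).symm
          · rw [if_neg hij] at h1 h3
            have h2 : (s : ℕ) = 3 ∨ (s : ℕ) = 8 := by omega
            rcases h2 with h2 | h2
            · rw [h2] at h3
              have h4 : 8 * 11 ^ r + (11 ^ r + 11 ^ j) ≡ 8 * 11 ^ r + 2 * 11 ^ i [MOD 11 ^ a - 1] := by
                convert h3 using 1 <;> ring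
              have h5 := Nat.ModEq.add_left_cancel' _ h4
              have h6 := h5.eq_of_lt_of_lt (pow_add_lt_Q ha hr hj) (pow_lt_Q ha hi (by norm_num))
              exact sum_ne11 hrj h6
            · rw [h2] at h3
              have h4 : 8 * 11 ^ r + (11 * 11 ^ r + 11 ^ j) ≡ 8 * 11 ^ r + 2 * 11 ^ i [MOD 11 ^ a - 1] := by
                convert h3 using 1 <;> ring
              have h5 := Nat.ModEq.add_left_cancel' _ h4
              have h5' := ((wrap11 hr).symm.add_right (11 ^ j)).trans h5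
              have hr' : (r + 1) % a < a := Nat.mod_lt _ (by omega)
              have h6 := h5'.eq_of_lt_of_lt (pow_add_lt_Q ha hr' hj) (pow_lt_Q ha hi (by norm_num))
              by_cases hr'j : (r + 1) % a = j
              · rw [hr'j] at h6
                exact hij (pow_inj11 (by omega)).symm
              · exact sum_ne11 hr'j h6
      rw [← hYc, hzero]
      rfl)
  refine ⟨X, hX, ?_⟩
  rw [isCompl_iff, disjoint_iff, codisjoint_iff]
  refine ⟨by rw [inf_comm]; exact h2, ?_⟩
  rw [eq_top_iff]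
  intro x _
  have h3 : W.mkQ x ∈ X.map W.mkQ := by
    rw [h1]
    trivial
  obtain ⟨y, hy, e⟩ := h3
  have h4 : x - y ∈ W := by
    have h5 : y - x ∈ W := (Submodule.Quotient.eq W).1 e
    rw [← neg_sub]
    exact W.neg_mem h5
  have h6 : x = (x - y) + y := by abel
  rw [h6]
  exact Submodule.add_mem_sup h4 hy

end Cfsg.Agent.R2.F4T
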