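import Cfsg.Agent.R2.F4T.CC
import Cfsg.Agent.R2.F4T.Ext11
import Cfsg.Agent.R2.H28.SL2.SplitE
import Cfsg.Agent.R2.H28.SL2.L22

/-!
# The patterns `[1,3],[8],[8]` and `[2],[4],[8],[8]` (helper6, S5931)

* `ext0_31` : `Ext¹(V_{3p^i+p^j}, V_{8p^r}) = 0` for `p ≥ 11` unless `p = 13`, `r = i`, `j = i+1`;
* `c13` : the pattern `[1,3],[8],[8]` : `p = 13` and the socle is simple;
* `d1` : the pattern `[2],[4],[8],[8]` : `a = 1`, `p = 11, 13`.
-/

set_option autoImplicit false
set_option linter.unusedSectionVars false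

namespace Cfsg.Agent.R2.F4T

open Matrix Cfsg.Agent.H943.SL2Rel Cfsg.Agent.H943.SL2Mod Cfsg.Agent.H943.RepAdd Cfsg.Agent.R2.H28.SL2
open Cfsg.Agent.R2.SL2 (typ tyl coe_tyl typ_step typ_zero tyl_eq_nil mem_typ listF4)

universe u v w

section Ext

variable {k : Type u} [Field k] [DecidableEq k] {F : Type w} [Field F] [Fintype F] [DecidableEq F] (ι : F →+* k)
variable (p : ℕ) [Fact p.Prime] [CharP k p] [CharP F p] [IsAlgClosed k] {a : ℕ} (hF : Fintype.card F = p ^ a)

include hF in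
theorem ext0_31 (hp : 11 ≤ p) {i j r : ℕ} (hij : i ≠ j) (hi : i < a) (hj : j < a) (hr : r < a)
    (hne : ¬ (p = 13 ∧ i = r ∧ j = (r + 1) % a)) : Ext0 (Sy.{u, v, w} ι p) (3 * p ^ i + p ^ j) (8 * p ^ r) := by
  have hpp : p.Prime := Fact.out
  have hp1 := hpp.one_lt
  have ha : 2 ≤ a := by omega
  by_cases h11 : p = 11 ∧ i = r
  · obtain ⟨h11, rfl⟩ := h11
    exact ext0_31_8 ι p h11 hF hi hj hij
  · have hp12 : p ≠ 12 := fun h => by
      rw [h] at hpp
      revert hpp
      decide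
    have hov : ∀ l < a, (3 * p ^ i + p ^ j) / p ^ l % p + (8 * p ^ r) / p ^ l % p < p := by
      intro l _
      rw [dg_two hp1 hij (by omega), dg_single hp1 (show 8 < p by omega)]
      split_ifs <;> omega
    have hlt1 : 3 * p ^ i + p ^ j < p ^ a := by
      have := pair_lt (n := 3) (m := 1) p (by omega) (by omega) hij hi hj
      rwa [one_mul] at this
    refine ext0_of_Hs ι p hF (cg p a (3 * p ^ i + p ^ j) (8 * p ^ r)) (fun d hd => (mem_cg hpp.pos a hov hd).1)
      (fun z hz => cs_cg k p a hlt1 (single_lt p (by omega) hr) hov (hz.ne_zero (two_le_q p hF)))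
      (Hs_eq_zero fun c hc => ?_)
    obtain ⟨h1, h2⟩ := mem_cg hpp.pos a hov hc
    by_contra h0
    unfold hb at h0
    rw [← Ne, Ne, Finset.card_eq_zero, ← Ne, ← Finset.nonempty_iff_ne_empty] at h0
    obtain ⟨l, hl⟩ := h0
    rw [Finset.mem_filter, Finset.mem_range] at hl
    have h3 := (exc_odd hpp (by omega) hl.1 h1 hl.2).resolve_left (by omega)
    have hll := succ_mod_ne ha hl.1
    rw [h3.2] at h2
    have h5 := h2 l hl.1
    have h6 := h2 i hi
    have h7 := h2 j hj
    rw [dg_two hp1 hll (by omega), dg_two hp1 hij (by omega), dg_single hp1 (show 8 < p by omega)] at h5 h6 h7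
    rw [if_pos rfl] at h5 h6
    rw [if_neg (Ne.symm hij), if_pos rfl] at h7
    have hlr : l = r := by
      by_contra h8
      rw [if_neg h8] at h5
      split_ifs at h5 <;> omega
    subst hlr
    by_cases hli : l = i
    · subst hli
      rw [if_pos rfl, if_pos rfl] at h5
      have hp13 : p = 13 := by omega
      refine hne ⟨hp13, rfl, ?_⟩
      by_contra h8
      rw [if_neg (Ne.symm hij), if_neg h8, if_neg (Ne.symm hij)] at h7
      omega
    · rw [if_neg hli, if_pos rfl] at h5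
      split_ifs at h5 with h8
      · subst h8
        rw [if_neg (Ne.symm hli), if_neg (Ne.symm hli)] at h6
        split_ifs at h6 <;> omega
      · omega

end Ext

variable {k : Type u} [Field k] [DecidableEq k] {F : Type w} [Field F] [Fintype F] [DecidableEq F] {ι : F →+* k}
variable {p : ℕ} [Fact p.Prime] [CharP k p] [CharP F p] [IsAlgClosed k] {a : ℕ} (hF : Fintype.card F = p ^ a)
variable {V : Type v} [AddCommGroup V] [Module k V] [FiniteDimensional k V]
variable {ρ : Representation k (SpecialLinearGroup (Fin 2) F) V} {P : V →ₗ[k] V →ₗ[k] k}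
variable (S : SD ρ P) (R : Rl ι p a ρ P)

include hF R S

/-- **the pattern `[1,3],[8],[8]`** -/
theorem c13 (hV : Module.finrank k V = 26) {b r s : ℕ} (hp : 11 ≤ p) (hb : tyl p b = [1, 3]) (hr : r < a)
    (hw : (([[1, 3], [8], [8]] : List (List ℕ)) : Multiset (List ℕ)) = (cf (Sy.{u, v, w} ι p) ρ).map (tyl p))
    (hcf : cf (Sy.{u, v, w} ι p) ρ = {b, 8 * p ^ r, 8 * p ^ s}) :
    p = 13 ∧ 2 ≤ a ∧ cf (Sy.{u, v, w} ι p) ρ = {8 * p ^ r, 8 * p ^ r, 3 * p ^ r + p ^ ((r + 1) % a)} ∧
      ∃ (X : Submodule k V) (hX : ∀ g, ∀ x ∈ X, ρ g x ∈ X), IsV ι p (subRep ρ X hX) (8 * p ^ r) ∧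
        ∀ (Y : Submodule k V) (hY : ∀ g, ∀ x ∈ Y, ρ g x ∈ Y), Irrd (subRep ρ Y hY) → Y = X := by
  have hpp : p.Prime := Fact.out
  obtain rfl := eight_pos hF S R (by omega) hb hw hcf
  have hsoc : ∀ {c : ℕ}, InSoc ι p ρ c → c ≠ b ∧ c = 8 * p ^ r := by
    intro c hc
    have h := soc_eight hF R (by omega) hb hw hcf hc
    exact ⟨h.1, h.2.elim id id⟩
  have hbm : b ∈ cf (Sy.{u, v, w} ι p) ρ := by
    rw [hcf]
    exact Multiset.mem_cons_self _ _
  obtain ⟨j, hj, i, hi, hij, rfl⟩ := tyl_pair_inv hb (cf_lt ι p hF ρ b hbm) (by norm_num) (by norm_num)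
  rw [one_mul, add_comm] at hb hcf hsoc hbm
  have h8 : tyl p (8 * p ^ r) = [8] := tyl_single (by norm_num) (by omega) _
  have hne : 3 * p ^ i + p ^ j ≠ 8 * p ^ r := fun h => by
    rw [h, h8] at hb
    exact absurd hb (by decide)
  have ha : 2 ≤ a := by omega
  by_cases hex : p = 13 ∧ i = r ∧ j = (r + 1) % a
  · obtain ⟨hp13, rfl, rfl⟩ := hex
    refine ⟨hp13, ha, ?_, ?_⟩
    · rw [hcf]
      simp only [Multiset.insert_eq_cons]
      rw [Multiset.cons_swap]
      exact congrArg _ (Multiset.pair_comm _ _)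
    · have hnt : Nontrivial V := Module.nontrivial_of_finrank_pos (R := k) (by omega)
      obtain ⟨c, X, hX, hc⟩ := exists_inSoc ι p ρ
      obtain rfl := (hsoc ⟨X, hX, hc⟩).2
      refine ⟨X, hX, hc, fun Y hY hYi => ?_⟩
      obtain ⟨d, hd⟩ := (Sy.{u, v, w} ι p).ex (subRep ρ Y hY) hYi
      obtain rfl := (hsoc ⟨Y, hY, hd⟩).2
      have hX9 := IsV.dim_single ι hF (by omega) hc
      have hY9 := IsV.dim_single ι hF (by omega) hd
      rcases IsV.inf_or_le ι p hc hY with h | h
      · exfalso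
        have hXY : ∀ g, ∀ x ∈ X ⊔ Y, ρ g x ∈ X ⊔ Y := by
          intro g x hx
          obtain ⟨y, hy, z, hz, rfl⟩ := Submodule.mem_sup.1 hx
          rw [map_add]
          exact Submodule.add_mem_sup (hX g y hy) (hY g z hz)
        have h1 := Submodule.finrank_sup_add_finrank_inf_eq X Y
        rw [h, finrank_bot, hX9, hY9] at h1
        have h2 := S.finrank_orth hXY
        rw [hV] at h2
        have hO := S.orth_inv hXY
        have hO0 : orth P (X ⊔ Y) ≠ ⊥ := by
          intro h3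
          rw [h3, finrank_bot] at h2
          omega
        obtain ⟨e, ⟨Z, hZ, hZe⟩, he⟩ := exists_inSoc_sub ι p hO hO0
        obtain rfl := (hsoc he).2
        have hZ9 := IsV.dim_single ι hF (by omega) hZe
        have h3 := Submodule.finrank_le Z
        omega
      · exact (Submodule.eq_of_le_of_finrank_eq h (by omega)).symm
  · exfalso
    have hE := ext0_31.{u, v, w} ι p hF hp (Ne.symm hij) hi hj hr hex
    obtain ⟨X, Y, hX, hY, -, hV, -⟩ := split_one ι p ρ (b := 3 * p ^ i + p ^ j) (by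
      rw [hcf, Multiset.insert_eq_cons, Multiset.insert_eq_cons, Multiset.count_cons_self, Multiset.count_cons_of_ne hne,
        Multiset.count_singleton, if_neg hne]) (by
      intro c hc hcb
      rw [hcf] at hc
      simp only [Multiset.insert_eq_cons, Multiset.mem_cons, Multiset.mem_singleton] at hc
      have hc8 : c = 8 * p ^ r := by tauto
      rw [hc8]
      exact ⟨ext0_symm ι p hE, hE⟩)
    exact (hsoc ⟨X, hX, hV⟩).1 rfl

end Cfsg.Agent.R2.F4T
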