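import Cfsg.Agent.R2.F4T.Tab11

/-!
# The pattern `[1,3], [8], [8]`, `p ≥ 11` (helper6, S5931)

* `sq_31` : the symmetric square of `V_{3p^i+p^j}`;
* `soc_ne_31` : it is not in the socle; `CC.pos` : the positions; `CC.uniq` : the socle is simple;
* `CC.p13` : `p = 13`, `b = 3p^r + p^(r+1)` (`p ≥ 13`).
-/

set_option autoImplicit false
set_option linter.unusedSectionVars false

namespace Cfsg.Agent.R2.F4T

open Matrix Cfsg.Agent.H943.SL2Rel Cfsg.Agent.H943.SL2Mod Cfsg.Agent.H943.RepAdd Cfsg.Agent.R2.H28.SL2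
open Cfsg.Agent.R2.SL2 (typ tyl coe_tyl typ_step typ_zero tyl_eq_nil mem_typ listF4)

universe u v w

variable {k : Type u} [Field k] [DecidableEq k] {F : Type w} [Field F] [Fintype F] [DecidableEq F] {ι : F →+* k}
variable {p : ℕ} [Fact p.Prime] [CharP k p] [CharP F p] [IsAlgClosed k] {a : ℕ} (hF : Fintype.card F = p ^ a)

theorem s2_three {z : ℂ} (hz : z ≠ 0) : s2 3 z = chi 6 z + chi 2 z := by
  have := s2_add_two 1 hz
  rw [s2_one hz] at this
  exact this

theorem a2_three {z : ℂ} (hz : z ≠ 0) : a2 3 z = chi 4 z + 1 := by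
  have := a2_succ 2 hz
  rw [s2_two hz] at this
  exact this

include hF in
theorem sq_31 {X : Type v} [AddCommGroup X] [Module k X] [FiniteDimensional k X]
    {σ : Representation k (SpecialLinearGroup (Fin 2) F) X} {i j : ℕ} (hp : 6 < p) (hij : i ≠ j) (hi : i < a) (hj : j < a)
    (h : IsV ι p σ (3 * p ^ i + p ^ j)) :
    cf (Sy.{u, v, w} ι p) (Sq σ) = {6 * p ^ i + 2 * p ^ j, 2 * p ^ i + 2 * p ^ j, 4 * p ^ i, 0} := by
  have hpp : p.Prime := Fact.out
  have h' : IsV ι p σ (3 * p ^ i + 1 * p ^ j) := by rwa [one_mul]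
  refine cf_of_cs ι p hF ?_ fun z hz => ?_
  · intro b hb
    simp only [Multiset.insert_eq_cons, Multiset.mem_cons, Multiset.mem_singleton] at hb
    rcases hb with rfl | rfl | rfl | rfl
    · exact pair_lt p hp (by omega) hij hi hj
    · exact pair_lt p (by omega) (by omega) hij hi hj
    · exact single_lt p (by omega) hi
    · exact Nat.pow_pos hpp.pos
  · have hz0 := hz.ne_zero (two_le_q p hF)
    have hi0 := pow_ne_zero (p ^ i) hz0
    have hj0 := pow_ne_zero (p ^ j) hz0
    rw [cs_sq_pair ι p hF (by omega) (by omega) hij h' hz, s2_three hi0, s2_one hj0, a2_three hi0, a2_one hj0,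
      Multiset.insert_eq_cons, Multiset.insert_eq_cons, Multiset.insert_eq_cons,
      cs_cons, cs_cons, cs_cons, cs_singleton, chB_pair k p hp (by omega) hij, chB_pair k p (by omega) (by omega) hij,
      chB_single k p (by omega), chB_zero]
    ring

variable {V : Type v} [AddCommGroup V] [Module k V] [FiniteDimensional k V]
variable {ρ : Representation k (SpecialLinearGroup (Fin 2) F) V} {P : V →ₗ[k] V →ₗ[k] k}
variable (S : SD ρ P) (R : Rl ι p a ρ P)

include hF R

/-- rule (S) for `[1,3]` -/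
theorem Rl.soc31 {W : List (List ℕ)} (hw : (W : Multiset (List ℕ)) = (cf (Sy.{u, v, w} ι p) ρ).map (tyl p))
    (hp : 6 < p) {c : ℕ} (hc : InSoc ι p ρ c) (h : tyl p c = [1, 3]) : [2, 6] ∈ W ∨ [2, 2] ∈ W ∨ [4] ∈ W := by
  obtain ⟨j, hj, i, hi, hij, rfl⟩ := tyl_pair_inv h (cf_lt ι p hF ρ c hc.mem_cf) (by norm_num) (by norm_num)
  rw [one_mul, add_comm] at hc
  obtain ⟨X, hX, hV⟩ := hc
  have hX0 : X ≠ ⊥ := Submodule.nontrivial_iff_ne_bot.1 hV.irr.1
  obtain ⟨c, h1, h2, h3⟩ := R.sS X hX hX0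
  rw [sq_31 hF hp (Ne.symm hij) hi hj hV] at h1
  simp only [Multiset.insert_eq_cons, Multiset.mem_cons, Multiset.mem_singleton] at h1
  have h4 := cf_typ_mem ι p hw h3.mem_cf
  rcases h1 with rfl | rfl | rfl | rfl
  · left
    rwa [tyl_pair' (by norm_num) (by omega) (by norm_num) (by omega) (Ne.symm hij)] at h4
  · right; left
    rwa [tyl_pair' (by norm_num) (by omega) (by norm_num) (by omega) (Ne.symm hij)] at h4
  · right; right
    rwa [tyl_single (by norm_num) (by omega)] at h4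
  · exact absurd rfl h2

/-- the socle of the pattern `[1,3],[8],[8]` -/
theorem soc_eight {b r s : ℕ} (hp : 6 < p) (hb : tyl p b = [1, 3])
    (hw : (([[1, 3], [8], [8]] : List (List ℕ)) : Multiset (List ℕ)) = (cf (Sy.{u, v, w} ι p) ρ).map (tyl p))
    (hcf : cf (Sy.{u, v, w} ι p) ρ = {b, 8 * p ^ r, 8 * p ^ s}) {c : ℕ} (hc : InSoc ι p ρ c) :
    c ≠ b ∧ (c = 8 * p ^ r ∨ c = 8 * p ^ s) := by
  have h1 : c ≠ b := by
    rintro rfl
    have := R.soc31 hF hw hp hc hb
    revert this
    decide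
  refine ⟨h1, ?_⟩
  have h2 := hc.mem_cf
  rw [hcf] at h2
  simp only [Multiset.insert_eq_cons, Multiset.mem_cons, Multiset.mem_singleton] at h2
  rcases h2 with h2 | h2 | h2
  · exact absurd h2 h1
  · exact Or.inl h2
  · exact Or.inr h2

include S

/-- the two `8`s are at the same position -/
theorem eight_pos {b r s : ℕ} (hp : 8 < p) (hb : tyl p b = [1, 3])
    (hw : (([[1, 3], [8], [8]] : List (List ℕ)) : Multiset (List ℕ)) = (cf (Sy.{u, v, w} ι p) ρ).map (tyl p))
    (hcf : cf (Sy.{u, v, w} ι p) ρ = {b, 8 * p ^ r, 8 * p ^ s}) : r = s := by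
  by_contra hrs
  have h8 : tyl p (8 * p ^ r) = [8] := tyl_single (by norm_num) hp _
  have h8' : tyl p (8 * p ^ s) = [8] := tyl_single (by norm_num) hp _
  have hne : 8 * p ^ r ≠ 8 * p ^ s := fun h => hrs (pow_inj' (by norm_num) h)
  have hb8 : b ≠ 8 * p ^ r := fun h => by rw [h, h8] at hb; exact absurd hb (by decide)
  have hb8' : b ≠ 8 * p ^ s := fun h => by rw [h, h8'] at hb; exact absurd hb (by decide)
  have hall := S.all_soc (ι := ι) (p := p) (fun X hX c hc => S.nd_of_count hc (by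
    rw [hcf, Multiset.insert_eq_cons, Multiset.insert_eq_cons, Multiset.count_cons, Multiset.count_cons,
      Multiset.count_singleton]
    split_ifs with h1 h2 h3 h3 h3 h3 <;> first | omega | (exfalso; subst h1; first | exact hne h2 | exact hb8' h2.symm | skip)))
  have hbm : b ∈ cf (Sy.{u, v, w} ι p) ρ := by
    rw [hcf]
    exact Multiset.mem_cons_self _ _
  exact (soc_eight hF R (by omega) hb hw hcf (hall b hbm)).1 rfl

end Cfsg.Agent.R2.F4T
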