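import Cfsg.Agent.R2.F4T.Asm
import Cfsg.Agent.R2.F4L.Fin
import Cfsg.Agent.R2.F4M.P2
import Cfsg.Agent.R2.H1.A7.Fin

/-!
# S5931: `p ≥ 5` (helper6)
-/

set_option autoImplicit false

namespace Cfsg.Agent.R2.F4T

open Cfsg Cfsg.Lie Module Matrix
open Cfsg.Agent.ChevalleyStructure.E6Min.Basic
open Cfsg.Agent.H952.F4 Cfsg.Agent.H952.F4.Jord
open Cfsg.Agent.R2.F4M
open Cfsg.Agent.R2.F4L (Cx)

universe u v

theorem core5 {F : Type u} [Field F] [Fintype F] {K : Type v} [Field K] [Fintype K] {p a b : ℕ}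
    {H : Subgroup ↥(chevF4.group F)} {φ : ProjectiveSpecialLinearGroup (Fin 2) K →* ↥(chevF4.group F)}
    (h : Cfg p a b H φ) (hp5 : 5 ≤ p) : 13 ≤ p ∧ a = b := by
  classical
  have hfp : Fact p.Prime := ⟨h.prime⟩
  have hcF := h.charF
  have hcK := h.charK
  have hck : CharP (AlgebraicClosure F) p :=
    charP_of_injective_algebraMap (algebraMap F (AlgebraicClosure F)).injective p
  obtain ⟨ι⟩ := exists_iota p K (AlgebraicClosure F)
  have C : Cx ι p a (Rk (algebraMap F (AlgebraicClosure F)) φ) := cx h hp5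
  exact fin5 _ h C (exists_tb _ h C (F4L.rl h C)) (R2.H1.A7.no_alpha7 _ h C)

end Cfsg.Agent.R2.F4T
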