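import Cfsg.Agent.R2.F4T.C13
import Cfsg.Agent.R2.F4T.HwOne

/-!
# The pattern `[2],[4],[8],[8]` (helper6, S5931)

* `no_288` : no selfdual module with factors `2, 8, 8` for `SL(2,11)`, `SL(2,13)` and `2` not in the socle;
* `d13` : the pattern `[2],[4],[8],[8]` : `q = 13` and the socle is simple.
-/

set_option autoImplicit false
set_option linter.unusedSectionVars false

namespace Cfsg.Agent.R2.F4T

open Matrix Cfsg.Agent.H943.SL2Rel Cfsg.Agent.H943.SL2Mod Cfsg.Agent.H943.RepAdd Cfsg.Agent.R2.H28.SL2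
open Cfsg.Agent.R2.SL2 (typ tyl coe_tyl typ_step typ_zero tyl_eq_nil mem_typ listF4)
open Cfsg.Agent.R2.H22.Q7 (Ew mem_Ew Uf mem_Uf finrank_Ew_le Uf_le finrank_ker_pow_le)

universe u v w

variable {k : Type u} [Field k] [DecidableEq k] {F : Type w} [Field F] [Fintype F] [DecidableEq F] {ι : F →+* k}
variable {p : ℕ} [Fact p.Prime] [CharP k p] [CharP F p] [IsAlgClosed k]
variable {V : Type v} [AddCommGroup V] [Module k V] [FiniteDimensional k V]
variable {ρ : Representation k (SpecialLinearGroup (Fin 2) F) V} {P : V →ₗ[k] V →ₗ[k] k}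

theorem card_Bf_small' {b : ℕ} (hb : b < p) : (Bf k b).card = b + 1 := by
  have h1 := card_Bf_low k p b
  rw [Nat.mod_eq_of_lt hb, Nat.div_eq_of_lt hb, card_Bf_zero, mul_one] at h1
  exact h1

theorem dim_small {X : Type v} [AddCommGroup X] [Module k X] [FiniteDimensional k X]
    {σ : Representation k (SpecialLinearGroup (Fin 2) F) X} {b : ℕ} (hb : b < p) (h : IsV ι p σ b) :
    Module.finrank k X = b + 1 := by
  rw [IsV.finrank ι h, card_Bf_small' (p := p) hb]

/-- two submodules `V_8` -/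
theorem SD.uniq8 (S : SD ρ P) (hp : 8 < p) {N : ℕ} (hV : Module.finrank k V = 18 + (N + 1)) (hN : N < 8)
    (hsoc : ∀ c, InSoc ι p ρ c → c = 8) {X Z : Submodule k V} {hX : ∀ g, ∀ x ∈ X, ρ g x ∈ X} {hZ : ∀ g, ∀ x ∈ Z, ρ g x ∈ Z}
    (hXb : IsV ι p (subRep ρ X hX) 8) (hZb : IsV ι p (subRep ρ Z hZ) 8) : Z = X := by
  have hX9 := dim_small hp hXb
  have hZ9 := dim_small hp hZb
  rcases IsV.inf_or_le ι p hXb hZ with h | h
  · exfalso
    have hXY : ∀ g, ∀ x ∈ X ⊔ Z, ρ g x ∈ X ⊔ Z := by
      intro g x hx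
      obtain ⟨y, hy, z, hz, rfl⟩ := Submodule.mem_sup.1 hx
      rw [map_add]
      exact Submodule.add_mem_sup (hX g y hy) (hZ g z hz)
    have h1 := Submodule.finrank_sup_add_finrank_inf_eq X Z
    rw [h, finrank_bot, hX9, hZ9] at h1
    have h2 := S.finrank_orth hXY
    rw [hV] at h2
    have hO := S.orth_inv hXY
    have hO0 : orth P (X ⊔ Z) ≠ ⊥ := by
      intro h3
      rw [h3, finrank_bot] at h2
      omega
    obtain ⟨e, ⟨Y, hY, hYe⟩, he⟩ := exists_inSoc_sub ι p hO hO0
    obtain rfl := hsoc e he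
    have hY9 := dim_small hp hYe
    have h3 := Submodule.finrank_le Y
    omega
  · exact (Submodule.eq_of_le_of_finrank_eq h (by omega)).symm

/-- **no module `8 | 2 | 8`** -/
theorem no_288 (S : SD ρ P) (hF : Fintype.card F = p) (hp : p = 11 ∨ p = 13) (hcf : cf (Sy.{u, v, w} ι p) ρ = {2, 8, 8})
    (h2 : ¬ InSoc ι p ρ 2) : False := by
  have hpp : p.Prime := Fact.out
  have hF1 : Fintype.card F = p ^ 1 := by rw [pow_one]; exact hF
  have hV : Module.finrank k V = 18 + (2 + 1) := by
    rw [finrank_cf ι p _ V ρ le_rfl, hcf]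
    simp only [Multiset.insert_eq_cons, Multiset.map_cons, Multiset.sum_cons, Multiset.map_singleton,
      Multiset.sum_singleton]
    rw [card_Bf_small' (p := p) (by omega), card_Bf_small' (p := p) (by omega)]
    norm_num
  have hmem : ∀ b ∈ cf (Sy.{u, v, w} ι p) ρ, b = 2 ∨ b = 8 := by
    intro b hb
    rw [hcf] at hb
    simp only [Multiset.insert_eq_cons, Multiset.mem_cons, Multiset.mem_singleton] at hb
    tauto
  have hsoc : ∀ c, InSoc ι p ρ c → c = 8 := by
    intro c hc
    rcases hmem c hc.mem_cf with rfl | h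
    · exact absurd hc h2
    · exact h
  have hnt : Nontrivial V := Module.nontrivial_of_finrank_pos (R := k) (by omega)
  obtain ⟨c, X, hX, hXb⟩ := exists_inSoc ι p ρ
  obtain rfl := hsoc c ⟨X, hX, hXb⟩
  have huniq : ∀ (Z : Submodule k V) (hZ : ∀ g, ∀ x ∈ Z, ρ g x ∈ Z), IsV ι p (subRep ρ Z hZ) 8 → Z = X :=
    fun Z hZ hZb => S.uniq8 (by omega) hV (by norm_num) hsoc hXb hZb
  rcases hp with hp | hp
  · -- `p = 11`
    have hiso : Iso P X := by
      rcases S.nd_or_iso hXb with h | h
      · exfalso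
        have h3 := S.cf_eq (ι := ι) (p := p) hX h
        rw [cf_irr (Sy.{u, v, w} ι p) hXb, hcf] at h3
        have h4 : cf (Sy.{u, v, w} ι p) (subRep ρ (orth P X) (S.orth_inv hX)) = {2, 8} := by
          have h5 : ({2, 8, 8} : Multiset ℕ) = {8} + {2, 8} := by decide
          rw [h5] at h3
          exact (add_left_cancel h3).symm
        have hS := S.restrict (S.orth_inv hX) (S.nd_orth h)
        have hall := hS.all_soc (ι := ι) (p := p) fun Y hY b hb => hS.nd_of_count hb (by
          rw [h4, Multiset.insert_eq_cons, Multiset.count_cons, Multiset.count_singleton]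
          split_ifs <;> omega)
        exact h2 ((hall 2 (by rw [h4]; exact Multiset.mem_cons_self _ _)).iso ι p (orth P X).subtype (fun _ _ => rfl)
          (orth P X).injective_subtype)
      · exact h
    obtain ⟨B₁, D₁, -⟩ := S.dul.sub hX
    have hK := S.orth_inv hX
    have hq : IsV ι p (quotRep ρ (orth P X) hK) 8 := IsV.dual ι p hXb D₁.flip.flip
    obtain ⟨m, hm0, hmu, hmh, -⟩ := IsV.hw ι p hq
    obtain ⟨x₀, hx₀⟩ := (orth P X).mkQ_surjective m
    have hm : ∀ z : V, (orth P X).mkQ z = 0 → z ∈ orth P X := fun z hz => (Submodule.Quotient.mk_eq_zero _).1 hz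
    obtain ⟨n, hn⟩ := cf_spec (Sy.{u, v, w} ι p) (subRep ρ (orth P X) hK)
    obtain ⟨x, hx, hxu, hxh⟩ := lift_hw' ι p hF1 (c := 8) n (orth P X) hK hn (by
      intro b hb i hi _
      have hi0 : i = 0 := by omega
      subst hi0
      unfold en
      rcases hmem b (Multiset.mem_of_le (cf_sub_le (Sy.{u, v, w} ι p) ρ _ hK) hb) with rfl | rfl <;>
        subst hp <;> norm_num) x₀ (fun t => hm _ (by rw [map_sub, ← quotRep_mk ρ _ hK, hx₀, hmu, sub_self]))
      (fun a => hm _ (by rw [map_sub, ← quotRep_mk ρ _ hK, hx₀, hmh, map_smul, hx₀, sub_self]))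
    have hxm : (orth P X).mkQ x = m := by
      have h1 : (orth P X).mkQ (x - x₀) = 0 := (Submodule.Quotient.mk_eq_zero _).2 hx
      rw [map_sub, sub_eq_zero] at h1
      rw [h1, hx₀]
    have hx0 : x ≠ 0 := by
      rintro rfl
      rw [map_zero] at hxm
      exact hm0 hxm.symm
    obtain ⟨Z, hZ, hZb, hxZ⟩ := hw_soc ι p hF (c := 8) (by norm_num) (by omega)
      (by rw [show p - 1 - 8 = 2 by omega]; exact h2) ⟨hxu, hxh⟩ hx0
    rw [huniq Z hZ hZb] at hxZ
    exact hm0 (by rw [← hxm]; exact (Submodule.Quotient.mk_eq_zero _).2 (hiso.le hxZ))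
  · -- `p = 13`
    obtain ⟨m, hm0, hmu, hmh, -, hm⟩ := IsV.hw ι p hXb
    have h3 : Uf ρ ≤ Submodule.span k {(m : V)} := by
      refine (Uf_le ι p ρ).trans (iSup₂_le fun e he => ?_)
      intro x hx
      by_cases hx0 : x = 0
      · rw [hx0]
        exact Submodule.zero_mem _
      · obtain ⟨b, hb, hbe⟩ := mem_cf_of_hw ι p hx0 hx.1 hx.2
        rw [Finset.mem_range] at he
        have he2 : e = b := by
          rw [hF, show p - 1 = 12 by omega] at he hbe
          rcases hmem b hb with rfl | rfl <;> omega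
        subst he2
        rcases hmem e hb with rfl | rfl
        · exfalso
          obtain ⟨Z, hZ, hZb, -⟩ := hw_soc ι p hF (c := 2) (by norm_num) (by omega) (fun h => by
            have := hsoc _ h
            omega) hx hx0
          exact h2 ⟨Z, hZ, hZb⟩
        · obtain ⟨Z, hZ, hZb, hxZ⟩ := hw_soc ι p hF (c := 8) (by norm_num) (by omega) (fun h => by
            have := hsoc _ h
            omega) hx hx0
          rw [huniq Z hZ hZb] at hxZ
          obtain ⟨c, hc⟩ := hm ⟨x, hxZ⟩ fun t => Subtype.ext (hx.1 t)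
          have hc' : x = c • (m : V) := congrArg Subtype.val hc
          rw [hc']
          exact Submodule.smul_mem _ _ (Submodule.mem_span_singleton_self _)
    have h4 := Submodule.finrank_mono h3
    have h5 : Module.finrank k (Submodule.span k {(m : V)}) ≤ 1 := (finrank_span_le_card _).trans (by simp)
    have h6 := finrank_le_uf' p hF (ρ := ρ)
    have h7 : p * Module.finrank k (Uf ρ) ≤ 13 * 1 := Nat.mul_le_mul (by omega) (by omega)
    omega

variable {a : ℕ} (hF : Fintype.card F = p ^ a) (S : SD ρ P) (R : Rl ι p a ρ P)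

include hF R S

/-- **the pattern `[2],[4],[8],[8]`** -/
theorem d13 (hV : Module.finrank k V = 26) {i j r s : ℕ} (hp : 11 ≤ p) (hi : i < a) (hj : j < a) (hr : r < a) (hs : s < a)
    (hcf : cf (Sy.{u, v, w} ι p) ρ = {2 * p ^ i, 4 * p ^ j, 8 * p ^ r, 8 * p ^ s}) :
    p = 13 ∧ a = 1 ∧ cf (Sy.{u, v, w} ι p) ρ = {2, 4, 8, 8} ∧
      ∃ (X : Submodule k V) (hX : ∀ g, ∀ x ∈ X, ρ g x ∈ X), IsV ι p (subRep ρ X hX) 8 ∧
        ∀ (Y : Submodule k V) (hY : ∀ g, ∀ x ∈ Y, ρ g x ∈ Y), Irrd (subRep ρ Y hY) → Y = X := by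
  have hpp : p.Prime := Fact.out
  have t2 : tyl p (2 * p ^ i) = [2] := tyl_single (by norm_num) (by omega) _
  have t4 : tyl p (4 * p ^ j) = [4] := tyl_single (by norm_num) (by omega) _
  have t8 : ∀ r, tyl p (8 * p ^ r) = [8] := fun r => tyl_single (by norm_num) (by omega) _
  have n24 : 2 * p ^ i ≠ 4 * p ^ j := fun h => by rw [h, t4] at t2; exact absurd t2 (by decide)
  have n28 : ∀ r, 2 * p ^ i ≠ 8 * p ^ r := fun r h => by rw [h, t8] at t2; exact absurd t2 (by decide)
  have n48 : ∀ r, 4 * p ^ j ≠ 8 * p ^ r := fun r h => by rw [h, t8] at t4; exact absurd t4 (by decide)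
  have hn2 := R.n2 i hi
  have hm2 : 2 * p ^ i ∈ cf (Sy.{u, v, w} ι p) ρ := by
    rw [hcf]
    exact Multiset.mem_cons_self _ _
  -- the positions of the `8`s
  have hrs : r = s := by
    by_contra hrs
    have hne : 8 * p ^ r ≠ 8 * p ^ s := fun h => hrs (pow_inj' (by norm_num) h)
    have hall := S.all_soc (ι := ι) (p := p) (fun X hX c hc => S.nd_of_count hc (by
      rw [hcf]
      refine Multiset.nodup_iff_count_le_one.1 ?_ c
      simp only [Multiset.insert_eq_cons, Multiset.nodup_cons, Multiset.mem_cons, Multiset.mem_singleton,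
        Multiset.nodup_singleton, and_true]
      have h1 := n28 r
      have h2 := n28 s
      have h3 := n48 r
      have h4 := n48 s
      tauto))
    exact hn2 (hall _ hm2)
  subst hrs
  have hc2 : (cf (Sy.{u, v, w} ι p) ρ).count (2 * p ^ i) = 1 := by
    rw [hcf, Multiset.insert_eq_cons, Multiset.insert_eq_cons, Multiset.insert_eq_cons, Multiset.count_cons_self,
      Multiset.count_cons_of_ne n24, Multiset.count_cons_of_ne (n28 r), Multiset.count_singleton, if_neg (n28 r)]
  have hmem : ∀ c ∈ cf (Sy.{u, v, w} ι p) ρ, c = 2 * p ^ i ∨ c = 4 * p ^ j ∨ c = 8 * p ^ r := by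
    intro c hc
    rw [hcf] at hc
    simp only [Multiset.insert_eq_cons, Multiset.mem_cons, Multiset.mem_singleton] at hc
    tauto
  -- no splitting
  have key : Ext0 (Sy.{u, v, w} ι p) (2 * p ^ i) (4 * p ^ j) → Ext0 (Sy.{u, v, w} ι p) (2 * p ^ i) (8 * p ^ r) → False := by
    intro e4 e8
    obtain ⟨X, Y, hX, hY, -, hXb, -⟩ := split_one ι p ρ hc2 (by
      intro c hc hne
      rcases hmem c hc with rfl | rfl | rfl
      · exact absurd rfl hne
      · exact ⟨ext0_symm ι p e4, e4⟩
      · exact ⟨ext0_symm ι p e8, e8⟩)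
    exact hn2 ⟨X, hX, hXb⟩
  have ha : a = 1 := by
    by_contra ha
    have ha2 : 2 ≤ a := by omega
    refine key ?_ ?_
    · by_cases hij : i = j
      · subst hij
        exact ext0_same ι p hF (by omega) (by omega) (by omega) hi (by omega)
      · exact ext0_diff ι p hF (by omega) (by omega) (by omega) hij hi hj (by omega) (by omega)
    · by_cases hij : i = r
      · subst hij
        exact ext0_same ι p hF (by omega) (by omega) (by omega) hi (by omega)
      · exact ext0_diff ι p hF (by omega) (by omega) (by omega) hij hi hr (by omega) (by omega)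
  subst ha
  obtain rfl : i = 0 := by omega
  obtain rfl : j = 0 := by omega
  obtain rfl : r = 0 := by omega
  have hF1 : Fintype.card F = p := by rw [hF, pow_one]
  have h12 : p ≠ 12 := fun h => by
    rw [h] at hpp
    revert hpp
    decide
  have hp1113 : p = 11 ∨ p = 13 := by
    by_contra h
    exact key (ext0_same ι p hF (by omega) (by omega) (by omega) hi (by omega))
      (ext0_same ι p hF (by omega) (by omega) (by omega) hi (by omega))
  simp only [pow_zero, mul_one] at hn2 hcf n24 hmem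
  -- `4` is not in the socle
  have hn4 : ¬ InSoc ι p ρ 4 := by
    rintro ⟨N, hN, hNb⟩
    have hc4 : (cf (Sy.{u, v, w} ι p) ρ).count 4 ≤ 1 := by
      rw [hcf]
      decide
    have hnd := S.nd_of_count hNb hc4
    have h3 := S.cf_eq (ι := ι) (p := p) hN hnd
    rw [cf_irr (Sy.{u, v, w} ι p) hNb, hcf] at h3
    have h4 : cf (Sy.{u, v, w} ι p) (subRep ρ (orth P N) (S.orth_inv hN)) = {2, 8, 8} := by
      have h5 : ({2, 4, 8, 8} : Multiset ℕ) = {4} + {2, 8, 8} := by decide
      rw [h5] at h3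
      exact (add_left_cancel h3).symm
    exact no_288 (S.restrict (S.orth_inv hN) (S.nd_orth hnd)) hF1 hp1113 h4 fun h =>
      hn2 (h.iso ι p (orth P N).subtype (fun _ _ => rfl) (orth P N).injective_subtype)
  have hp13 : p = 13 := by
    rcases hp1113 with h11 | h13
    · exfalso
      have e24 : Ext0 (Sy.{u, v, w} ι p) 2 4 := by
        have h := ext0_same.{u, v, w} ι p hF (n := 2) (m := 4) (i := 0) (by omega) (by omega) (by omega) hi (by omega)
        rwa [pow_zero, mul_one, mul_one] at h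
      have e84 : Ext0 (Sy.{u, v, w} ι p) 8 4 := by
        refine ext0_one ι p hF rfl ?_ ?_ ?_
        · subst h11; norm_num
        · subst h11; norm_num
        · subst h11
          intro j h1 h2
          have h3 : j = 9 ∨ j = 10 := by omega
          rcases h3 with rfl | rfl <;> norm_num
      obtain ⟨X, Y, hX, hY, -, hXb, -⟩ := split_one ι p ρ (b := 4) (by rw [hcf]; decide) (by
        intro c hc hne
        rcases hmem c hc with rfl | rfl | rfl
        · exact ⟨e24, ext0_symm ι p e24⟩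
        · exact absurd rfl hne
        · exact ⟨e84, ext0_symm ι p e84⟩)
      exact hn4 ⟨X, hX, hXb⟩
    · exact h13
  refine ⟨hp13, rfl, hcf, ?_⟩
  have hsoc : ∀ c, InSoc ι p ρ c → c = 8 := by
    intro c hc
    rcases hmem c hc.mem_cf with rfl | rfl | h
    · exact absurd hc hn2
    · exact absurd hc hn4
    · exact h
  have hnt : Nontrivial V := Module.nontrivial_of_finrank_pos (R := k) (by omega)
  obtain ⟨c, X, hX, hXb⟩ := exists_inSoc ι p ρ
  obtain rfl := hsoc c ⟨X, hX, hXb⟩
  refine ⟨X, hX, hXb, fun Y hY hYi => ?_⟩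
  obtain ⟨d, hd⟩ := (Sy.{u, v, w} ι p).ex (subRep ρ Y hY) hYi
  obtain rfl := hsoc d ⟨Y, hY, hd⟩
  exact S.uniq8 (N := 7) (by omega) hV (by norm_num) hsoc hXb hd

end Cfsg.Agent.R2.F4T
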