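import Cfsg.Agent.R2.F4T.CC
import Cfsg.Agent.R2.H28.SL2.SplitE

/-!
# The patterns for `p = 5` with trivial factors (helper6, S5931)

* `SD.co`, `SD.tp` : strict pressure for the types; `SD.not_nd`, `SD.exc`;
* `sq_E` : the symmetric square of `V_{3p^i+p^(i+1)}`, `p = 5`;
* `no_K`, `no_M` : the patterns `[]²[1,3]³`, `[][1,3]²[2,2]`;
* `L_str` : the pattern `[],[1,1],[1,3]²,[4]`.
-/

set_option autoImplicit false
set_option linter.unusedSectionVars false

namespace Cfsg.Agent.R2.F4T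

open Matrix Cfsg.Agent.H943.SL2Rel Cfsg.Agent.H943.SL2Mod Cfsg.Agent.H943.RepAdd Cfsg.Agent.R2.H28.SL2
open Cfsg.Agent.R2.SL2 (typ tyl coe_tyl typ_step typ_zero tyl_eq_nil mem_typ listF4)

universe u v w

section gen

variable {k : Type u} [Field k] {G : Type w} [Group G] {V : Type v} [AddCommGroup V] [Module k V] [FiniteDimensional k V]
variable {ρ : Representation k G V} {P : V →ₗ[k] V →ₗ[k] k}

theorem SD.co (S : SD ρ P) (hfx : ∀ x, (∀ g, ρ g x = x) → x = 0) :
    ∀ f : V →ₗ[k] k, (∀ g x, f (ρ g x) = f x) → f = 0 := by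
  intro f hf
  obtain ⟨y, hy⟩ := S.dul.surj f
  have hy0 : y = 0 := hfx y fun g => by
    rw [← sub_eq_zero]
    refine S.dul.right _ fun x => ?_
    rw [map_sub, S.dul.inv', hy, hf, hy, sub_self]
  ext x
  rw [← hy, hy0, map_zero]
  rfl

theorem fx_sub (hfx : ∀ x, (∀ g, ρ g x = x) → x = 0) {X : Submodule k V} (hX : ∀ g, ∀ x ∈ X, ρ g x ∈ X) :
    ∀ x, (∀ g, subRep ρ X hX g x = x) → x = 0 := fun x hx =>
  Subtype.ext (hfx x fun g => congrArg Subtype.val (hx g))

end gen

variable {k : Type u} [Field k] [DecidableEq k] {F : Type w} [Field F] [Fintype F] [DecidableEq F] {ι : F →+* k}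
variable {p : ℕ} [Fact p.Prime] [CharP k p] [CharP F p] [IsAlgClosed k] {a : ℕ} (hF : Fintype.card F = p ^ a)

section sq

include hF in
/-- the symmetric square of `V_{3p^i+p^(i+1)}`, `p = 5` -/
theorem sq_E {X : Type v} [AddCommGroup X] [Module k X] [FiniteDimensional k X]
    {σ : Representation k (SpecialLinearGroup (Fin 2) F) X} {i : ℕ} (hp5 : p = 5) (ha : 2 ≤ a) (hi : i < a)
    (h : IsV ι p σ (3 * p ^ i + p ^ ((i + 1) % a))) :
    cf (Sy.{u, v, w} ι p) (Sq σ) = {3 * p ^ ((i + 1) % a) + p ^ i, p ^ i + p ^ ((i + 1) % a),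
      2 * p ^ i + 2 * p ^ ((i + 1) % a), 2 * p ^ i + 2 * p ^ ((i + 1) % a), 4 * p ^ i, 0} := by
  have hpp : p.Prime := Fact.out
  have hij := succ_mod_ne ha hi
  have hj : (i + 1) % a < a := Nat.mod_lt _ (by omega)
  obtain ⟨j, hjd⟩ : ∃ j, j = (i + 1) % a := ⟨_, rfl⟩
  have h' : IsV ι p σ (3 * p ^ i + 1 * p ^ j) := by rwa [one_mul, hjd]
  have e6 : ∀ {z : ℂ}, Zs (p ^ a) z → chi 6 (z ^ p ^ i) = chi 1 (z ^ p ^ i) * chi 1 (z ^ p ^ j) + chi 2 (z ^ p ^ i) := by
    intro z hz
    rw [← cs_one (k := k) p hF hi (by omega) hz]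
    unfold H28.SL2.one ov
    have e1 : (6 - p) * p ^ i + p ^ ((i + 1) % a) = 1 * p ^ i + 1 * p ^ j := by
      rw [hp5, hjd]
      norm_num
    have e2 : (p - (6 - p) - 2) * p ^ i = 2 * p ^ i := by rw [hp5]
    rw [if_neg (by omega), if_neg (by omega), e1, e2, Multiset.insert_eq_cons, cs_cons, cs_singleton,
      chB_pair k p (by omega) (by omega) (hjd ▸ hij), chB_single k p (by omega)]
  rw [← hjd] at hij hj ⊢
  refine cf_of_cs ι p hF ?_ fun z hz => ?_
  · intro b hb
    simp only [Multiset.insert_eq_cons, Multiset.mem_cons, Multiset.mem_singleton] at hb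
    rcases hb with rfl | rfl | rfl | rfl | rfl | rfl
    · have := pair_lt (n := 3) (m := 1) p (by omega) (by omega) (Ne.symm hij) hj hi
      rwa [one_mul] at this
    · have := pair_lt (n := 1) (m := 1) p (by omega) (by omega) hij hi hj
      rwa [one_mul, one_mul] at this
    · exact pair_lt p (by omega) (by omega) hij hi hj
    · exact pair_lt p (by omega) (by omega) hij hi hj
    · exact single_lt p (by omega) hi
    · exact Nat.pow_pos hpp.pos
  · have hz0 := hz.ne_zero (two_le_q p hF)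
    have hi0 := pow_ne_zero (p ^ i) hz0
    have hj0 := pow_ne_zero (p ^ j) hz0
    have c12 : chi 1 (z ^ p ^ j) * chi 2 (z ^ p ^ j) = chi 3 (z ^ p ^ j) + chi 1 (z ^ p ^ j) := by
      rw [chi_mul' 1 2 hj0]
      simp only [Nat.min_def, Finset.sum_range_succ, Finset.sum_range_zero]
      norm_num [Finset.sum_range_succ]
    have b1 : chB k (3 * p ^ j + p ^ i) z = chi 3 (z ^ p ^ j) * chi 1 (z ^ p ^ i) := by
      have := chB_pair (n := 3) (m := 1) k p (by omega) (by omega) (Ne.symm hij) (z := z)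
      rwa [one_mul] at this
    have b2 : chB k (p ^ i + p ^ j) z = chi 1 (z ^ p ^ i) * chi 1 (z ^ p ^ j) := by
      have := chB_pair (n := 1) (m := 1) k p (by omega) (by omega) hij (z := z)
      rwa [one_mul, one_mul] at this
    rw [cs_sq_pair ι p hF (by omega) (by omega) hij h' hz, s2_three hi0, s2_one hj0, a2_three hi0, a2_one hj0, e6 hz,
      Multiset.insert_eq_cons, Multiset.insert_eq_cons, Multiset.insert_eq_cons, Multiset.insert_eq_cons,
      Multiset.insert_eq_cons, cs_cons, cs_cons, cs_cons, cs_cons, cs_cons, cs_singleton, b1, b2,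
      chB_pair k p (by omega) (by omega) hij, chB_single k p (by omega), chB_zero]
    linear_combination (chi 1 (z ^ p ^ i)) * c12

end sq

variable {V : Type v} [AddCommGroup V] [Module k V] [FiniteDimensional k V]
variable {ρ : Representation k (SpecialLinearGroup (Fin 2) F) V} {P : V →ₗ[k] V →ₗ[k] k}
variable (S : SD ρ P)

/-- `0` is not exceptional -/
theorem hb_zero_zero (hp5 : 5 ≤ p) (a : ℕ) : hb p a 0 = 0 := by
  have hp : p.Prime := Fact.out
  have h9 := ne_nine p hp5 a
  have h1 := hb_le_typ (p := p) hp5 (a := a) (b := 0) (Nat.pow_pos hp.pos) h9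
  rw [tyl_eq_nil.2 rfl, if_neg] at h1
  · omega
  · unfold hty
    split_ifs <;> simp

theorem count_nil (s : Multiset ℕ) : (s.map (tyl p)).count [] = s.count 0 := by
  rw [Multiset.count_map, Multiset.count_eq_card_filter_eq]
  congr 1
  refine Multiset.filter_congr fun b _ => ?_
  rw [eq_comm, tyl_eq_nil, eq_comm]

include hF S in
/-- **strict pressure** -/
theorem SD.tp (hp5 : 5 ≤ p) (hfx : ∀ x, (∀ g, ρ g x = x) → x = 0) (h0 : 0 ∈ cf (Sy.{u, v, w} ι p) ρ) :
    ((cf (Sy.{u, v, w} ι p) ρ).map (tyl p)).count [] < Hs p a (cf (Sy.{u, v, w} ι p) ρ) := by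
  rw [count_nil]
  exact strict_pressure ι p hF (hb_zero_zero hp5 a) hfx (S.co hfx) (Multiset.count_pos.2 h0)

variable {W : List (List ℕ)} (hw : (W : Multiset (List ℕ)) = (cf (Sy.{u, v, w} ι p) ρ).map (tyl p))

theorem nil_mem {s : Multiset ℕ} (hw : (W : Multiset (List ℕ)) = s.map (tyl p)) (h0 : [] ∈ W) : 0 ∈ s := by
  have h1 : [] ∈ (W : Multiset (List ℕ)) := h0
  rw [hw] at h1
  obtain ⟨c, hc, hct⟩ := Multiset.mem_map.1 h1
  rwa [tyl_eq_nil.1 hct] at hc

include hF S hw in
/-- factors of the exceptional type are isotropic -/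
theorem SD.not_nd (hp5 : 5 ≤ p) (hfx : ∀ x, (∀ g, ρ g x = x) → x = 0) (h0 : [] ∈ W)
    (hc : (W : Multiset (List ℕ)).count (hty p a) ≤ (W : Multiset (List ℕ)).count [] + 1)
    {X : Submodule k V} {hX : ∀ g, ∀ x ∈ X, ρ g x ∈ X} {b : ℕ} (hb : IsV ι p (subRep ρ X hX) b) (ht : tyl p b = hty p a) :
    ¬ Nd P X := by
  intro hnd
  have h1 := S.cf_eq (ι := ι) (p := p) hX hnd
  have hfx' := fx_sub hfx (S.orth_inv hX)
  have hS := S.restrict (S.orth_inv hX) (S.nd_orth hnd)
  have hty0 : hty p a ≠ [] := by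
    unfold hty
    split_ifs <;> simp
  rw [cf_irr (Sy.{u, v, w} ι p) hb] at h1
  have h2 : (W : Multiset (List ℕ)) = {hty p a} + (cf (Sy.{u, v, w} ι p) (subRep ρ (orth P X) (S.orth_inv hX))).map (tyl p) := by
    rw [hw, h1, Multiset.map_add, Multiset.map_singleton, ht]
  have h3 : 0 ∈ cf (Sy.{u, v, w} ι p) (subRep ρ (orth P X) (S.orth_inv hX)) := by
    have h4 := nil_mem hw h0
    rw [h1, Multiset.mem_add, Multiset.mem_singleton] at h4
    rcases h4 with h4 | h4
    · exfalso
      rw [← h4, tyl_eq_nil.2 rfl] at ht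
      exact hty0 ht.symm
    · exact h4
  have h4 := hS.tp (ι := ι) hF hp5 hfx' h3
  have h5 := Hs_le_count (p := p) hp5 (ne_nine p hp5 a) (cf_lt ι p hF (subRep ρ (orth P X) (S.orth_inv hX)))
  rw [h2, Multiset.count_add, Multiset.count_add, Multiset.count_singleton_self, Multiset.count_singleton,
    if_neg hty0.symm] at hc
  omega

include hF S hw in
/-- factors of the exceptional type are exceptional -/
theorem SD.exc (hp5 : 5 ≤ p) (hfx : ∀ x, (∀ g, ρ g x = x) → x = 0) (h0 : [] ∈ W)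
    (hc : (W : Multiset (List ℕ)).count (hty p a) ≤ (W : Multiset (List ℕ)).count [] + 1)
    {b : ℕ} (hb : b ∈ cf (Sy.{u, v, w} ι p) ρ) (ht : tyl p b = hty p a) : H28.SL2.hb p a b ≠ 0 := by
  intro hb0
  have h1 := S.tp (ι := ι) hF hp5 hfx (nil_mem hw h0)
  obtain ⟨s, hs⟩ := Multiset.exists_cons_of_mem hb
  have h2 : Hs p a (cf (Sy.{u, v, w} ι p) ρ) = Hs p a s := by
    rw [hs]
    unfold Hs
    rw [Multiset.map_cons, Multiset.sum_cons, hb0, zero_add]
  have h3 := Hs_le_count (p := p) hp5 (ne_nine p hp5 a) (s := s) (fun c hc => cf_lt ι p hF ρ c (by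
    rw [hs]
    exact Multiset.mem_cons_of_mem hc))
  have h4 : (W : Multiset (List ℕ)).count (hty p a) = (s.map (tyl p)).count (hty p a) + 1 := by
    rw [hw, hs, Multiset.map_cons, ht, Multiset.count_cons_self]
  rw [h2, ← hw] at h1
  omega

include hF in
theorem exc_form (hp5 : p = 5) (ha : 2 ≤ a) {b : ℕ} (hlt : b < p ^ a) (hb : hb p a b ≠ 0) :
    ∃ r < a, b = 3 * p ^ r + p ^ ((r + 1) % a) := by
  have hp : p.Prime := Fact.out
  unfold H28.SL2.hb at hb
  rw [Ne, Finset.card_eq_zero, ← Ne, ← Finset.nonempty_iff_ne_empty] at hb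
  obtain ⟨l, hl⟩ := hb
  rw [Finset.mem_filter, Finset.mem_range] at hl
  have h3 := (exc_odd hp (by omega) hl.1 hlt hl.2).resolve_left (by omega)
  refine ⟨l, hl.1, ?_⟩
  rw [h3.2, show p - 2 = 3 by omega]

/-- no trivial submodules -/
theorem soc_ne_nil (hfx : ∀ x, (∀ g, ρ g x = x) → x = 0) {c : ℕ} (hc : InSoc ι p ρ c) : tyl p c ≠ [] := by
  intro h
  rw [tyl_eq_nil] at h
  subst h
  obtain ⟨X, hX, hq, φ, hφ⟩ := hc
  have hnt : Nontrivial X := (show IsV ι p (subRep ρ X hX) 0 from ⟨hq, φ, hφ⟩).irr.1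
  obtain ⟨x, hx⟩ := exists_ne (0 : X)
  apply hx
  apply Subtype.ext
  refine hfx _ fun g => ?_
  have h1 := hφ g (φ.symm x)
  rw [rb_zero ι p rfl, φ.apply_symm_apply] at h1
  exact (congrArg Subtype.val h1).symm

variable (R : Rl ι p a ρ P)

include hF S hw R

/-- the common part of the three patterns -/
theorem common5 (hp5 : p = 5) (ha : 2 ≤ a) (hfx : ∀ x, (∀ g, ρ g x = x) → x = 0) (h0 : [] ∈ W)
    (hc : (W : Multiset (List ℕ)).count [1, 3] ≤ (W : Multiset (List ℕ)).count [] + 1)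
    (hc3 : (W : Multiset (List ℕ)).count [1, 3] ≤ 3)
    {c : ℕ} (hc' : InSoc ι p ρ c) (ht : tyl p c = [1, 3]) :
    (∀ (X : Submodule k V) (hX : ∀ g, ∀ x ∈ X, ρ g x ∈ X), IsV ι p (subRep ρ X hX) c → Iso P X) ∧
    (∀ d, InSoc ι p ρ d → tyl p d = [1, 3] → d = c) ∧
    ∃ i < a, c = 3 * p ^ i + p ^ ((i + 1) % a) ∧
      ((InSoc ι p ρ (p ^ i + p ^ ((i + 1) % a)) ∨ InSoc ι p ρ (2 * p ^ i + 2 * p ^ ((i + 1) % a))) ∨
        InSoc ι p ρ (4 * p ^ i)) := by
  have hty5 : hty p a = [1, 3] := by rw [hty_two p ha, hp5]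
  have hiso : ∀ d, tyl p d = [1, 3] → ∀ (X : Submodule k V) (hX : ∀ g, ∀ x ∈ X, ρ g x ∈ X),
      IsV ι p (subRep ρ X hX) d → Iso P X := fun d hd X hX hV =>
    (S.nd_or_iso hV).resolve_left (S.not_nd hF hw (by omega) hfx h0 (by rw [hty5]; exact hc) hV (by rw [hty5, hd]))
  have huniq : ∀ d, InSoc ι p ρ d → tyl p d = [1, 3] → d = c := by
    intro d hd hdt
    by_contra hne
    obtain ⟨X, hX, hXV⟩ := hc'
    obtain ⟨Y, hY, hYV⟩ := hd
    have h1 := S.two_le_count hXV (hiso c ht X hX hXV)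
    have h2 := S.two_le_count hYV (hiso d hdt Y hY hYV)
    have h3 : 2 • {c} + 2 • {d} ≤ cf (Sy.{u, v, w} ι p) ρ := by
      rw [Multiset.le_iff_count]
      intro x
      rw [Multiset.count_add, Multiset.count_nsmul, Multiset.count_nsmul, Multiset.count_singleton, Multiset.count_singleton]
      split_ifs with h4 h5 h5
      · subst h4
        exact absurd h5.symm hne
      · subst h4
        omega
      · subst h5
        omega
      · omega
    have h4 := Multiset.count_le_of_le [1, 3] (Multiset.map_le_map h3 (f := tyl p))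
    rw [← hw, Multiset.map_add, Multiset.map_nsmul, Multiset.map_nsmul, Multiset.map_singleton, Multiset.map_singleton, ht, hdt,
      Multiset.count_add, Multiset.count_nsmul, Multiset.count_singleton_self] at h4
    omega
  refine ⟨hiso c ht, huniq, ?_⟩
  obtain ⟨i, hi, rfl⟩ := exc_form hF hp5 ha (cf_lt ι p hF ρ c hc'.mem_cf)
    (S.exc hF hw (by omega) hfx h0 (by rw [hty5]; exact hc) hc'.mem_cf (by rw [hty5, ht]))
  refine ⟨i, hi, rfl, ?_⟩
  obtain ⟨X, hX, hV⟩ := hc'
  have hX0 : X ≠ ⊥ := Submodule.nontrivial_iff_ne_bot.1 hV.irr.1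
  obtain ⟨d, h1, h2, h3⟩ := R.sS X hX hX0
  rw [sq_E hF hp5 ha hi hV] at h1
  simp only [Multiset.insert_eq_cons, Multiset.mem_cons, Multiset.mem_singleton] at h1
  have hij := succ_mod_ne ha hi
  rcases h1 with rfl | rfl | rfl | rfl | rfl | rfl
  · exfalso
    have h4 : tyl p (3 * p ^ ((i + 1) % a) + p ^ i) = [1, 3] := by
      have := tyl_pair' (p := p) (n := 1) (m := 3) (by norm_num) (by omega) (by norm_num) (by omega) (Ne.symm hij)
      rwa [one_mul] at this
    have h5 := huniq _ h3 h4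
    have h6 : p ^ ((i + 1) % a) = p ^ i := by omega
    exact hij (Nat.pow_right_injective (le_refl 2 |>.trans (by omega)) h6).symm
  · exact Or.inl (Or.inl h3)
  · exact Or.inl (Or.inr h3)
  · exact Or.inl (Or.inr h3)
  · exact Or.inr h3
  · exact absurd rfl h2

/-- there is a factor `[1,3]` in the socle unless all types of the socle have multiplicity one -/
theorem exists_13 (ok : List ℕ → Bool) (hok : ∀ c, InSoc ι p ρ c → tyl p c ≠ [1, 3] → ok (tyl p c) = true)
    (h1 : (∀ t ∈ W, ok t = true → (W : Multiset (List ℕ)).count t ≤ 1) ∧ ¬ ∀ t ∈ W, ok t = true) :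
    ∃ c, InSoc ι p ρ c ∧ tyl p c = [1, 3] := by
  by_contra hcon
  push Not at hcon
  exact S.kp hw ok (fun c hc => hok c hc (hcon c hc)) h1

/-- the pattern `[]²[1,3]³` -/
theorem no_K (hp5 : p = 5) (ha : 2 ≤ a) (hfx : ∀ x, (∀ g, ρ g x = x) → x = 0)
    (hW : W = [[], [], [1, 3], [1, 3], [1, 3]]) : False := by
  have hW2 : ∀ c, InSoc ι p ρ c → tyl p c = [1, 3] := by
    intro c hc
    have h1 := cf_typ_mem ι p hw hc.mem_cf
    have h2 := soc_ne_nil hfx hc
    rw [hW] at h1
    simp only [List.mem_cons, List.not_mem_nil, or_false] at h1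
    tauto
  subst hW
  obtain ⟨c, hc, hct⟩ := exists_13 hF S hw R (fun _ => false) (fun c hc h => absurd (hW2 c hc) h) (by decide)
  obtain ⟨-, -, i, hi, -, h⟩ := common5 hF S hw R hp5 ha hfx (by decide) (by decide) (by decide) hc hct
  have hij := succ_mod_ne ha hi
  rcases h with (h | h) | h
  · have h1 := hW2 _ h
    have h2 := tyl_pair (p := p) (n := 1) (m := 1) (by norm_num) (by omega) (by norm_num) (by omega) hij
    rw [one_mul, one_mul, h1] at h2
    exact absurd h2 (by decide)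
  · have h1 := hW2 _ h
    rw [tyl_pair (by norm_num) (by omega) le_rfl (by omega) hij] at h1
    exact absurd h1 (by decide)
  · have h1 := hW2 _ h
    rw [tyl_single (by norm_num) (by omega)] at h1
    exact absurd h1 (by decide)

/-- the pattern `[][1,3]²[2,2]` -/
theorem no_M (hp5 : p = 5) (ha : 2 ≤ a) (hfx : ∀ x, (∀ g, ρ g x = x) → x = 0)
    (hW : W = [[], [1, 3], [1, 3], [2, 2]]) : False := by
  subst hW
  have hW2 : ∀ c, InSoc ι p ρ c → tyl p c = [1, 3] := by
    intro c hc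
    have h1 := cf_typ_mem ι p hw hc.mem_cf
    have h2 := soc_ne_nil hfx hc
    simp only [List.mem_cons, List.not_mem_nil, or_false] at h1
    have h3 : tyl p c ≠ [2, 2] := by
      intro h
      rcases R.soc22 hF hw (by decide) (by omega) hc h with ⟨d, hd, hd4⟩ | h4
      · have h5 := cf_typ_mem ι p hw hd.mem_cf
        rw [hd4] at h5
        exact absurd h5 (by decide)
      · exact absurd h4 (by decide)
    tauto
  obtain ⟨c, hc, hct⟩ := exists_13 hF S hw R (fun _ => false) (fun c hc h => absurd (hW2 c hc) h) (by decide)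
  obtain ⟨-, -, i, hi, -, h⟩ := common5 hF S hw R hp5 ha hfx (by decide) (by decide) (by decide) hc hct
  have hij := succ_mod_ne ha hi
  rcases h with (h | h) | h
  · have h1 := hW2 _ h
    have h2 := tyl_pair (p := p) (n := 1) (m := 1) (by norm_num) (by omega) (by norm_num) (by omega) hij
    rw [one_mul, one_mul, h1] at h2
    exact absurd h2 (by decide)
  · have h1 := hW2 _ h
    rw [tyl_pair (by norm_num) (by omega) le_rfl (by omega) hij] at h1
    exact absurd h1 (by decide)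
  · have h1 := hW2 _ h
    rw [tyl_single (by norm_num) (by omega)] at h1
    exact absurd h1 (by decide)

/-- the pattern `[],[1,1],[1,3]²,[4]` -/
theorem L_str (hp5 : p = 5) (ha : 2 ≤ a) (hfx : ∀ x, (∀ g, ρ g x = x) → x = 0)
    (hW : W = [[], [1, 1], [1, 3], [1, 3], [4]]) :
    ∃ i < a, (∀ c, InSoc ι p ρ c → c = 3 * p ^ i + p ^ ((i + 1) % a) ∨ c = 4 * p ^ i) ∧
      (cf (Sy.{u, v, w} ι p) ρ).count (4 * p ^ i) ≤ 1 ∧
      ∃ (X : Submodule k V) (hX : ∀ g, ∀ x ∈ X, ρ g x ∈ X), IsV ι p (subRep ρ X hX) (3 * p ^ i + p ^ ((i + 1) % a)) ∧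
        Iso P X ∧ ∃ (N : Submodule k V) (hN : ∀ g, ∀ x ∈ N, ρ g x ∈ N), IsV ι p (subRep ρ N hN) (4 * p ^ i) ∧ Nd P N := by
  subst hW
  have hW2 : ∀ c, InSoc ι p ρ c → tyl p c = [1, 3] ∨ tyl p c = [4] := by
    intro c hc
    have h1 := cf_typ_mem ι p hw hc.mem_cf
    have h2 := soc_ne_nil hfx hc
    simp only [List.mem_cons, List.not_mem_nil, or_false] at h1
    have h3 : tyl p c ≠ [1, 1] := fun h => absurd (R.soc11 hF hw (by omega) hc h) (by decide)
    tauto
  obtain ⟨c, hc, hct⟩ := exists_13 hF S hw R (fun t => decide (t = [4])) (fun c hc h => by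
    rw [decide_eq_true_iff]
    exact (hW2 c hc).resolve_left h) (by decide)
  obtain ⟨hiso, huniq, i, hi, rfl, h⟩ := common5 hF S hw R hp5 ha hfx (by decide) (by decide) (by decide) hc hct
  have hij := succ_mod_ne ha hi
  have t4 : ∀ j, tyl p (4 * p ^ j) = [4] := fun j => tyl_single (by norm_num) (by omega) _
  have h4 : InSoc ι p ρ (4 * p ^ i) := by
    rcases h with (h | h) | h
    · exfalso
      have h2 := tyl_pair (p := p) (n := 1) (m := 1) (by norm_num) (by omega) (by norm_num) (by omega) hij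
      rw [one_mul, one_mul] at h2
      rcases hW2 _ h with h1 | h1
      · rw [h1] at h2
        exact absurd h2 (by decide)
      · rw [h1] at h2
        exact absurd h2 (by decide)
    · exfalso
      have h2 := tyl_pair (p := p) (n := 2) (m := 2) (by norm_num) (by omega) le_rfl (by omega) hij
      rcases hW2 _ h with h1 | h1
      · rw [h1] at h2
        exact absurd h2 (by decide)
      · rw [h1] at h2
        exact absurd h2 (by decide)
    · exact h
  have hc4 : (cf (Sy.{u, v, w} ι p) ρ).count (4 * p ^ i) ≤ 1 := by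
    have h5 := count_tyl hw (4 * p ^ i)
    rw [t4] at h5
    exact h5.trans (by decide)
  refine ⟨i, hi, fun d hd => ?_, hc4, ?_⟩
  · rcases hW2 d hd with h1 | h1
    · exact Or.inl (huniq d hd h1)
    · right
      obtain ⟨j, hj, rfl⟩ := tyl_single_inv h1 (cf_lt ι p hF ρ d hd.mem_cf) (by norm_num)
      by_contra hne
      have h5 : {4 * p ^ i, 4 * p ^ j} ≤ cf (Sy.{u, v, w} ι p) ρ := by
        refine (Multiset.le_iff_subset ?_).2 ?_
        · simp only [Multiset.insert_eq_cons, Multiset.nodup_cons, Multiset.mem_singleton, Multiset.nodup_singleton, and_true]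
          exact fun h6 => hne h6.symm
        · intro x hx
          simp only [Multiset.insert_eq_cons, Multiset.mem_cons, Multiset.mem_singleton] at hx
          rcases hx with rfl | rfl
          · exact h4.mem_cf
          · exact hd.mem_cf
      have h6 := Multiset.count_le_of_le [4] (Multiset.map_le_map h5 (f := tyl p))
      rw [← hw, Multiset.insert_eq_cons, Multiset.map_cons, Multiset.map_singleton, t4, t4] at h6
      revert h6
      decide
  · obtain ⟨X, hX, hV⟩ := hc
    obtain ⟨N, hN, hNV⟩ := h4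
    exact ⟨X, hX, hV, hiso X hX hV, N, hN, hNV, S.nd_of_count hNV hc4⟩

end Cfsg.Agent.R2.F4T
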