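import Cfsg.Agent.R2.H28.SL2.TK2
import Cfsg.Agent.R2.H28.SL2.Bas

/-!
# Lifting of submodules, general form (helper6, S5931; after helper28's `lift_irr`)

* `lift_gen` : as `lift_irr`, with the third arithmetic condition replaced by the vanishing of `D_{en c i} (w x)`;
* `BasS.wt` : the weight vectors of `V_{n p^i}`; `BasS.Dm` : divided powers on the basis.
-/

set_option autoImplicit false
set_option linter.unusedSectionVars false

namespace Cfsg.Agent.R2.F4T

open Matrix Cfsg.Agent.H943.SL2Rel Cfsg.Agent.H943.SL2Mod Cfsg.Agent.H943.RepAdd Cfsg.Agent.R2.H28.SL2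

universe u v w

variable {k : Type u} [Field k] [DecidableEq k] {F : Type w} [Field F] [Fintype F] [DecidableEq F] (ι : F →+* k)
variable (p : ℕ) [Fact p.Prime] [CharP k p] [CharP F p] [IsAlgClosed k]

/-- **lifting of submodules** -/
theorem lift_gen {a : ℕ} (hF : Fintype.card F = p ^ a) {V : Type v} [AddCommGroup V] [Module k V]
    [FiniteDimensional k V] {ρ : Representation k (SpecialLinearGroup (Fin 2) F) V} (W : Submodule k V)
    (hW : ∀ g, ∀ x ∈ W, ρ g x ∈ W) (Z : Submodule k (V ⧸ W)) (hZ : ∀ g, ∀ x ∈ Z, quotRep ρ W hW g x ∈ Z) {c : ℕ}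
    (hc : IsV ι p (subRep (quotRep ρ W hW) Z hZ) c)
    (hL1 : ∀ b ∈ cf (Sy.{u, v, w} ι p) (subRep ρ W hW), ∀ i < a, b / p ^ i % p + 1 < p →
      (c + 2 * en p b i) % (p ^ a - 1) ≠ b % (p ^ a - 1))
    (hL2 : ∀ b ∈ cf (Sy.{u, v, w} ι p) (subRep ρ W hW), (b + c) % (p ^ a - 1) ≠ 0)
    (hL3 : ∀ x : V, (∀ t, ρ (u t) x = x) → (∀ a : Fˣ, ρ (h a) x = ι a ^ c • x) → ∀ i < a, c / p ^ i % p + 1 < p →
      Dm ι ρ (en p c i) (ρ w x) ∈ W → Dm ι ρ (en p c i) (ρ w x) = 0) :
    ∃ (X : Submodule k V) (hX : ∀ g, ∀ x ∈ X, ρ g x ∈ X), IsV ι p (subRep ρ X hX) c ∧ X.map W.mkQ = Z ∧ X ⊓ W = ⊥ := by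
  have hp : p.Prime := Fact.out
  have hq := one_lt (F := F)
  obtain ⟨Q, hQ⟩ : ∃ Q, Q = Fintype.card F - 1 := ⟨_, rfl⟩
  have hpa : p ^ a - 1 = Q := by omega
  have hmem : ∀ z : V, W.mkQ z = 0 → z ∈ W := fun z hz => (Submodule.Quotient.mk_eq_zero W).1 hz
  obtain ⟨m, hm0, hmu, hmh, hmS, hmD, hmf, -⟩ := hc.hw2
  obtain ⟨x₀, hx₀⟩ := W.mkQ_surjective (m : V ⧸ W)
  obtain ⟨n, hn⟩ := cf_spec (Sy.{u, v, w} ι p) (subRep ρ W hW)
  have hmu' : ∀ t, quotRep ρ W hW (u t) (m : V ⧸ W) = m := fun t => congrArg Subtype.val (hmu t)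
  have hmh' : ∀ a, quotRep ρ W hW (h a) (m : V ⧸ W) = ι a ^ c • (m : V ⧸ W) := fun a => congrArg Subtype.val (hmh a)
  obtain ⟨x, hx, hxu, hxh⟩ := lift_hw' ι p hF n W hW hn hL1 x₀
    (fun t => hmem _ (by rw [map_sub, ← quotRep_mk ρ W hW, hx₀, hmu', sub_self]))
    (fun a => hmem _ (by rw [map_sub, ← quotRep_mk ρ W hW, hx₀, hmh', map_smul, hx₀, sub_self]))
  have hxm : W.mkQ x = (m : V ⧸ W) := by
    have h1 : W.mkQ (x - x₀) = 0 := (Submodule.Quotient.mk_eq_zero W).2 hx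
    rw [map_sub, sub_eq_zero] at h1
    rw [h1, hx₀]
  have hwx : ∀ a, ρ (h a) (ρ w x) = ι (a : F) ^ ((Fintype.card F - 1 - 1) * c) • ρ w x := by
    intro a
    rw [apply_mul, h_w, ← apply_mul, hxh, map_smul, inv_pow_eq]
  have hcc : ((Fintype.card F - 1 - 1) * c + c) % Q = 0 := by
    have h1 : (Fintype.card F - 1 - 1) * c + c = Q * c := by
      rw [← Nat.succ_mul]
      congr 1
      omega
    rw [h1, Nat.mul_mod_right]
  -- the second condition
  have hS : SS ρ x = cb k F c • x := by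
    rw [← sub_eq_zero]
    by_contra hne
    have h1 : SS ρ x - cb k F c • x ∈ W := by
      apply hmem
      rw [map_sub, map_smul, hxm, sub_eq_zero, SS_apply, map_sum]
      have h2 := congrArg (Submodule.subtype Z) hmS
      rw [SS_apply, map_sum] at h2
      have h3 : ∀ t : F, W.mkQ (ρ (u t) (ρ w x)) = quotRep ρ W hW (u t) (quotRep ρ W hW w (m : V ⧸ W)) := by
        intro t
        rw [← quotRep_mk ρ W hW, ← quotRep_mk ρ W hW, hxm]
      rw [Finset.sum_congr rfl fun t _ => h3 t]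
      exact h2
    obtain ⟨b, hb, hbe⟩ := mem_cf_of_hw (V := W) ι p (ρ := subRep ρ W hW) (e := (Fintype.card F - 1 - 1) * c)
      (x := ⟨_, h1⟩) (fun h0 => hne (congrArg Subtype.val h0)) (fun t => Subtype.ext (by
        show ρ (u t) (SS ρ x - cb k F c • x) = SS ρ x - cb k F c • x
        rw [map_sub, map_smul, SS_u, hxu])) (fun a => Subtype.ext (by
        show ρ (h a) (SS ρ x - cb k F c • x) = ι a ^ ((Fintype.card F - 1 - 1) * c) • (SS ρ x - cb k F c • x)
        rw [map_sub, map_smul, H28.SL2.SS_h, hxh, map_smul, inv_pow_eq, hxh, smul_sub]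
        congr 1
        unfold cb
        by_cases hcq : c < Fintype.card F - 1
        · rw [if_pos hcq, zero_smul, zero_smul, smul_zero]
        · rw [if_neg hcq, smul_comm]
          have hcQ : c = Fintype.card F - 1 := by
            have := hc.choose
            omega
          have e1 : ι (a : F) ^ c = 1 := by
            rw [hcQ]
            exact powQ ι a.ne_zero
          have e2 : ι (a : F) ^ ((Fintype.card F - 1 - 1) * c) = 1 := by
            rw [mul_comm, pow_mul, e1, one_pow]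
          rw [e1, e2]))
    apply hL2 b hb
    rw [hpa, Nat.add_mod, hQ, hbe, ← Nat.add_mod]
    rw [hQ] at hcc
    exact hcc
  -- the third condition
  have hD : ∀ i < a, c / p ^ i % p + 1 < p → Dm ι ρ (en p c i) (ρ w x) = 0 := by
    intro i hi hlt
    have he1 : 1 ≤ en p c i := en_pos hp.pos
    have he2 : en p c i ≤ Fintype.card F - 1 := by
      rw [hF]
      exact en_le hp.pos hi hlt
    refine hL3 x hxu hxh i hi hlt ?_
    apply hmem
    rw [Dm_comm ι ρ (quotRep ρ W hW) W.mkQ (fun g y => (quotRep_mk ρ W hW g y).symm)]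
    have h2 := Dm_comm ι (subRep (quotRep ρ W hW) Z hZ) (quotRep ρ W hW) Z.subtype (fun g y => rfl) (en p c i)
      (subRep (quotRep ρ W hW) Z hZ w m)
    rw [hmD _ he1 he2 (dvd_choose_en hp hlt), map_zero] at h2
    rw [← quotRep_mk ρ W hW, hxm]
    exact h2.symm
  obtain ⟨f, hf, hfm⟩ := gen_hw ι p ρ hF hc hm0 hmu hxu hxh hS hD
  have hirr := hc.irr
  -- the section
  have hsec : ∀ z : Z, W.mkQ (f z) = (z : V ⧸ W) := by
    have h1 := hirr.2 (LinearMap.eqLocus (W.mkQ ∘ₗ f) Z.subtype) (by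
      intro g z hz
      rw [LinearMap.mem_eqLocus] at hz ⊢
      have hz' : W.mkQ (f z) = (z : V ⧸ W) := hz
      show W.mkQ (f (subRep (quotRep ρ W hW) Z hZ g z)) = quotRep ρ W hW g (z : V ⧸ W)
      rw [hf, ← hz', quotRep_mk])
    rcases h1 with h1 | h1
    · exfalso
      have h2 : m ∈ LinearMap.eqLocus (W.mkQ ∘ₗ f) Z.subtype := by
        rw [LinearMap.mem_eqLocus]
        show W.mkQ (f m) = m
        rw [hfm, hxm]
      rw [h1, Submodule.mem_bot] at h2
      exact hm0 h2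
    · intro z
      have h2 : z ∈ LinearMap.eqLocus (W.mkQ ∘ₗ f) Z.subtype := by rw [h1]; trivial
      exact h2
  have hfi : Function.Injective f := by
    intro y z hyz
    apply Subtype.ext
    rw [← hsec y, hyz, hsec z]
  have hX : ∀ g, ∀ x ∈ LinearMap.range f, ρ g x ∈ LinearMap.range f := by
    rintro g _ ⟨y, rfl⟩
    exact ⟨_, hf g y⟩
  refine ⟨LinearMap.range f, hX, IsV.iso ι p (LinearEquiv.ofInjective f hfi) (fun g y => Subtype.ext (hf g y)) hc, ?_, ?_⟩
  · ext z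
    constructor
    · rintro ⟨_, ⟨y, rfl⟩, rfl⟩
      rw [hsec]
      exact y.2
    · intro hz
      exact ⟨f ⟨z, hz⟩, ⟨_, rfl⟩, hsec ⟨z, hz⟩⟩
  · rw [eq_bot_iff]
    rintro _ ⟨⟨y, rfl⟩, hy⟩
    have h1 : (y : V ⧸ W) = 0 := by
      rw [← hsec y]
      exact (Submodule.Quotient.mk_eq_zero W).2 hy
    have h2 : y = 0 := Subtype.ext h1
    rw [Submodule.mem_bot, h2, map_zero]

variable {ι p}
variable {V : Type*} [AddCommGroup V] [Module k V] {σ : Representation k (SpecialLinearGroup (Fin 2) F) V} {n i : ℕ}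
  {v : ℕ → V}

/-- **weight vectors** -/
theorem basS_wt (hv : BasS ι p σ n i v) {y : V} {e : ℕ} (hh : ∀ a : Fˣ, σ (h a) y = ι a ^ e • y) :
    ∃ c : Fin (n + 1) → k, y = ∑ s, c s • v s ∧ ∀ s, c s ≠ 0 →
      (2 * (s : ℕ) * p ^ i) % (Fintype.card F - 1) = (n * p ^ i + e) % (Fintype.card F - 1) := by
  have hq := one_lt (F := F)
  obtain ⟨lam, hlam⟩ := IsCyclic.exists_generator (α := Fˣ)
  have hprim := primitive ι ι.injective hlam
  have hl0 : ι (lam : F) ≠ 0 := (map_ne_zero ι).2 lam.ne_zero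
  obtain ⟨c, hc⟩ := (Submodule.mem_span_range_iff_exists_fun k).1 (hv.sp (show y ∈ ⊤ from trivial))
  refine ⟨c, hc.symm, fun s hs => ?_⟩
  have h1 := hh lam
  rw [← hc, map_sum, Finset.smul_sum] at h1
  have h2 : ∑ s, (c s * ((ι lam ^ p ^ i) ^ (s : ℕ) * ((ι lam ^ p ^ i)⁻¹) ^ (n - s)) - ι lam ^ e * c s) • v s = 0 := by
    rw [← sub_eq_zero] at h1
    rw [← h1, ← Finset.sum_sub_distrib]
    refine Finset.sum_congr rfl fun s _ => ?_
    rw [map_smul, hv.h s (by have := s.2; omega), smul_smul, smul_smul, sub_smul]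
  have h3 := Fintype.linearIndependent_iff.1 hv.li _ h2 s
  have h4 : (ι (lam : F) ^ p ^ i) ^ (s : ℕ) * ((ι (lam : F) ^ p ^ i)⁻¹) ^ (n - s) = ι lam ^ e := by
    have h5 : c s * ((ι (lam : F) ^ p ^ i) ^ (s : ℕ) * ((ι (lam : F) ^ p ^ i)⁻¹) ^ (n - s) - ι lam ^ e) = 0 := by
      linear_combination h3
    exact sub_eq_zero.1 ((mul_eq_zero.1 h5).resolve_left hs)
  have h6 : ι (lam : F) ^ (2 * (s : ℕ) * p ^ i) = ι (lam : F) ^ (n * p ^ i + e) := by
    have hsn : (s : ℕ) ≤ n := by have := s.2; omega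
    have h7 : (ι (lam : F) ^ p ^ i) ^ (n - (s : ℕ)) * ((ι (lam : F) ^ p ^ i)⁻¹) ^ (n - s) = 1 := by
      rw [← mul_pow, mul_inv_cancel₀ (pow_ne_zero _ hl0), one_pow]
    calc ι (lam : F) ^ (2 * (s : ℕ) * p ^ i) = (ι (lam : F) ^ p ^ i) ^ (s : ℕ) * (ι (lam : F) ^ p ^ i) ^ (s : ℕ) := by
          rw [← pow_add, ← pow_mul]
          congr 1
          ring
      _ = (ι (lam : F) ^ p ^ i) ^ (s : ℕ) * (ι (lam : F) ^ p ^ i) ^ (s : ℕ) *
          ((ι (lam : F) ^ p ^ i) ^ (n - (s : ℕ)) * ((ι (lam : F) ^ p ^ i)⁻¹) ^ (n - s)) := by rw [h7, mul_one]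
      _ = (ι (lam : F) ^ p ^ i) ^ ((s : ℕ) + (n - s)) *
          ((ι (lam : F) ^ p ^ i) ^ (s : ℕ) * ((ι (lam : F) ^ p ^ i)⁻¹) ^ (n - s)) := by
          rw [pow_add]
          ring
      _ = _ := by
          rw [h4, show (s : ℕ) + (n - s) = n by omega, ← pow_mul, ← pow_add]
          congr 1
          ring
  have h8 := (hprim.isOfFinOrder (by omega)).pow_eq_pow_iff_modEq.1 h6
  rw [← hprim.eq_orderOf] at h8
  exact h8

/-- the divided powers on the basis -/
theorem basS_Dm (hv : BasS ι p σ n i v) {s m : ℕ} (hs : s ≤ n) (hm : 1 ≤ m) (hmn : n * p ^ i < Fintype.card F - 1)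
    (hmn' : m ≤ n) : H28.SL2.Dm ι σ (m * p ^ i) (v s) = ((n - s).choose m : k) • v (s + m) := by
  have hp : p.Prime := Fact.out
  have hpi : 0 < p ^ i := Nat.pow_pos hp.pos
  have hmi : m * p ^ i ≤ n * p ^ i := Nat.mul_le_mul_right _ hmn'
  have hmi1 : 1 ≤ m * p ^ i := Nat.mul_pos hm hpi
  rw [Dm_apply]
  have h1 : ∀ t : F, ι t ^ (Fintype.card F - 1 - m * p ^ i) • σ (u t) (v s) =
      ∑ j ∈ Finset.range (n - s + 1), (((n - s).choose j : k) * ι t ^ (Fintype.card F - 1 - m * p ^ i + j * p ^ i)) • v (s + j) := by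
    intro t
    rw [hv.u s hs, Finset.smul_sum]
    refine Finset.sum_congr rfl fun j _ => ?_
    rw [smul_smul]
    congr 1
    rw [← pow_mul, mul_comm (p ^ i) j, pow_add]
    ring
  rw [Finset.sum_congr rfl fun t _ => h1 t, Finset.sum_comm]
  have h2 : ∀ j ∈ Finset.range (n - s + 1), ∑ t : F, (((n - s).choose j : k) *
      ι t ^ (Fintype.card F - 1 - m * p ^ i + j * p ^ i)) • v (s + j) =
      if j = m then -(((n - s).choose m : k) • v (s + m)) else 0 := by
    intro j hj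
    rw [Finset.mem_range] at hj
    have hji : j * p ^ i ≤ n * p ^ i := Nat.mul_le_mul_right _ (by omega)
    rw [← Finset.sum_smul, ← Finset.mul_sum, psum ι (by omega)]
    by_cases hjm : j = m
    · rw [if_pos hjm, if_pos (by rw [hjm]; omega), hjm, mul_neg, mul_one, neg_smul]
    · rw [if_neg hjm, if_neg, mul_zero, zero_smul]
      intro h3
      apply hjm
      have h4 : j * p ^ i = m * p ^ i := by omega
      exact Nat.eq_of_mul_eq_mul_right hpi h4
  rw [Finset.sum_congr rfl h2, Finset.sum_ite_eq']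
  split_ifs with h3
  · rw [neg_neg]
  · rw [Finset.mem_range, not_lt] at h3
    rw [Nat.choose_eq_zero_of_lt (by omega), Nat.cast_zero, zero_smul, neg_zero]

end Cfsg.Agent.R2.F4T
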