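import Cfsg.Agent.R2.F4T.KLM
import Cfsg.Agent.R2.F4T.LiftG
import Cfsg.Agent.R2.H22.Q7a

/-!
# The pattern `[],[1,1],[1,3]²,[4]` (helper6, S5931)

* `Prd ρ P B` : an invariant commutative product `B` with the quartic identity and without white submodules;
* `Prd.white_hw` : `B m m = 0`, `B m (w m) = 0` for a highest weight vector is impossible;
* `no_L` : the pattern `[],[1,1],[1,3]²,[4]`, `p = 5`, is impossible.
-/

set_option autoImplicit false
set_option linter.unusedSectionVars false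

namespace Cfsg.Agent.R2.F4T

open Matrix Cfsg.Agent.H943.SL2Rel Cfsg.Agent.H943.SL2Mod Cfsg.Agent.H943.RepAdd Cfsg.Agent.R2.H28.SL2
open Cfsg.Agent.R2.SL2 (typ tyl coe_tyl typ_step typ_zero tyl_eq_nil mem_typ listF4)
open Cfsg.Agent.R2.H22.Q7 (Ew mem_Ew mod_of_Ew)

universe u v w

section arith

theorem cop5 {a i : ℕ} (ha : 2 ≤ a) : Nat.gcd (5 ^ a - 1) (5 ^ i) = 1 := by
  refine Nat.Coprime.pow_right i ?_
  rw [Nat.coprime_comm, Nat.Prime.coprime_iff_not_dvd (by norm_num)]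
  intro h
  have h1 : 5 ∣ 5 ^ a := dvd_pow_self 5 (by omega)
  have h2 : 0 < 5 ^ a := by positivity
  omega

theorem pow5_ge {a : ℕ} (ha : 2 ≤ a) : 25 ≤ 5 ^ a := by
  calc 25 = 5 ^ 2 := by norm_num
    _ ≤ 5 ^ a := Nat.pow_le_pow_right (by norm_num) ha

theorem wrap5 {a r : ℕ} (hr : r < a) : 5 * 5 ^ r ≡ 5 ^ ((r + 1) % a) [MOD 5 ^ a - 1] := by
  rw [← pow_succ']
  by_cases h : r + 1 = a
  · rw [h, Nat.mod_self, pow_zero]
    have h1 : 1 ≤ 5 ^ a := Nat.one_le_pow _ _ (by norm_num)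
    exact ((Nat.modEq_iff_dvd' h1).2 dvd_rfl).symm
  · rw [Nat.mod_eq_of_lt (by omega)]

theorem arith5 {a i : ℕ} (ha : 2 ≤ a) (hi : i < a) :
    (4 * 5 ^ i) % (5 ^ a - 1) ≠ (2 * (3 * 5 ^ i + 5 ^ ((i + 1) % a))) % (5 ^ a - 1) := by
  intro h
  have h1 : 4 * 5 ^ i ≡ 2 * (3 * 5 ^ i + 5 ^ ((i + 1) % a)) [MOD 5 ^ a - 1] := h
  have h2 : 2 * (3 * 5 ^ i + 5 * 5 ^ i) ≡ 2 * (3 * 5 ^ i + 5 ^ ((i + 1) % a)) [MOD 5 ^ a - 1] :=
    ((wrap5 hi).add_left _).mul_left _
  have h3 : 4 * 5 ^ i ≡ 16 * 5 ^ i [MOD 5 ^ a - 1] := by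
    refine h1.trans (h2.symm.trans ?_)
    rw [show 2 * (3 * 5 ^ i + 5 * 5 ^ i) = 16 * 5 ^ i by ring]
  have h4 := Nat.ModEq.cancel_right_of_coprime (cop5 ha) h3
  have h5 := pow5_ge ha
  have h6 := h4.eq_of_lt_of_lt (by omega) (by omega)
  omega

theorem arith5' {a i s : ℕ} (ha : 2 ≤ a) (hs : s ≤ 4) (h : (2 * s * 5 ^ i) % (5 ^ a - 1) = (4 * 5 ^ i) % (5 ^ a - 1)) :
    s = 2 := by
  have h3 : 2 * s * 5 ^ i ≡ 4 * 5 ^ i [MOD 5 ^ a - 1] := h
  have h4 := Nat.ModEq.cancel_right_of_coprime (cop5 ha) h3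
  have h5 := pow5_ge ha
  have h6 := h4.eq_of_lt_of_lt (by omega) (by omega)
  omega

end arith

variable {k : Type u} [Field k] [DecidableEq k] {F : Type w} [Field F] [Fintype F] [DecidableEq F] {ι : F →+* k}
variable {V : Type v} [AddCommGroup V] [Module k V]
variable {ρ : Representation k (SpecialLinearGroup (Fin 2) F) V} {P : V →ₗ[k] V →ₗ[k] k}

/-- an invariant commutative product -/
structure Prd (ρ : Representation k (SpecialLinearGroup (Fin 2) F) V) (P : V →ₗ[k] V →ₗ[k] k) (B : V →ₗ[k] V →ₗ[k] V) :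
    Prop where
  comm : ∀ x y, B x y = B y x
  eqv : ∀ g x y, B (ρ g x) (ρ g y) = ρ g (B x y)
  four : ∀ x y z t, P (B x y) (B z t) + P (B x z) (B y t) + P (B x t) (B y z) =
    2 / 3 * (P x y * P z t + P x z * P y t + P x t * P y z)
  white : ∀ X : Submodule k V, (∀ g, ∀ x ∈ X, ρ g x ∈ X) → (∀ x ∈ X, B x x = 0) → X = ⊥

/-- the submodule generated by a highest weight vector -/
theorem gen_le {e : ℕ} {x : V} (hx : x ∈ Ew ι ρ e) {A : Submodule k V} (hxA : x ∈ A)
    (hA : ∀ t, ρ (u t) (ρ w x) ∈ A) : ∃ N : Submodule k V, (∀ g, ∀ y ∈ N, ρ g y ∈ N) ∧ x ∈ N ∧ N ≤ A := by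
  obtain ⟨s, hsd⟩ : ∃ s : Set V, s = insert x (Set.range fun t : F => ρ (u t) (ρ w x)) := ⟨_, rfl⟩
  have hsub : ∀ t : F, ρ (u t) (ρ w x) ∈ Submodule.span k s := fun t =>
    Submodule.subset_span (by rw [hsd]; exact Set.mem_insert_of_mem _ ⟨t, rfl⟩)
  have hxs : x ∈ Submodule.span k s := Submodule.subset_span (by rw [hsd]; exact Set.mem_insert _ _)
  have hD : UFix ρ (Submodule.span k {x}) := by
    intro t d hd
    obtain ⟨c, rfl⟩ := Submodule.mem_span_singleton.1 hd
    rw [map_smul, hx.1]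
  have key : ∀ g : SpecialLinearGroup (Fin 2) F, (∀ y ∈ s, ρ g y ∈ Submodule.span k s) →
      ∀ y ∈ Submodule.span k s, ρ g y ∈ Submodule.span k s := by
    intro g hg y hy
    have h1 : Submodule.span k s ≤ (Submodule.span k s).comap (ρ g) := Submodule.span_le.2 hg
    exact h1 hy
  have hs : ∀ y ∈ s, y = x ∨ ∃ t : F, y = ρ (u t) (ρ w x) := by
    intro y hy
    rw [hsd] at hy
    rcases Set.mem_insert_iff.1 hy with h1 | ⟨t, rfl⟩
    · exact Or.inl h1
    · exact Or.inr ⟨t, rfl⟩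
  refine ⟨Submodule.span k s, fun g => ?_, hxs, Submodule.span_le.2 fun y hy => ?_⟩
  · refine induct (P := fun g => ∀ y ∈ Submodule.span k s, ρ g y ∈ Submodule.span k s) ?_ ?_ ?_ ?_ g
    · intro r
      refine key _ fun y hy => ?_
      rcases hs y hy with rfl | ⟨t, rfl⟩
      · rw [hx.1]; exact hxs
      · rw [apply_mul, ← u_add]; exact hsub _
    · intro a
      refine key _ fun y hy => ?_
      rcases hs y hy with rfl | ⟨t, rfl⟩
      · rw [hx.2]; exact Submodule.smul_mem _ _ hxs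
      · rw [apply_mul3, h_u, mul_assoc, h_w, map_mul, map_mul]
        show ρ (u ((a : F) ^ 2 * t)) (ρ w (ρ (h a⁻¹) x)) ∈ _
        rw [hx.2, map_smul, map_smul]
        exact Submodule.smul_mem _ _ (hsub _)
    · refine key _ fun y hy => ?_
      rcases hs y hy with rfl | ⟨t, rfl⟩
      · have h1 := hsub 0
        rwa [u_zero, map_one, Module.End.one_apply] at h1
      · by_cases ht : t = 0
        · rw [ht, u_zero, map_one, Module.End.one_apply, ww, hx.2]
          exact Submodule.smul_mem _ _ hxs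
        · rw [wuw ρ hD ht (Submodule.mem_span_singleton_self x), hx.2, map_smul, map_smul]
          exact Submodule.smul_mem _ _ (hsub _)
    · intro a b ha hb y hy
      rw [map_mul, Module.End.mul_apply]
      exact ha _ (hb _ hy)
  · rcases hs y hy with rfl | ⟨t, rfl⟩
    · exact hxA
    · exact hA t

variable {B : V →ₗ[k] V →ₗ[k] V} (D : Prd ρ P B)

include D in
/-- **highest weight vectors** -/
theorem Prd.white_hw {X : Submodule k V} {hX : ∀ g, ∀ x ∈ X, ρ g x ∈ X} (hXi : Irrd (subRep ρ X hX)) {m : V} (hmX : m ∈ X)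
    (hm0 : m ≠ 0) {e : ℕ} (hm : m ∈ Ew ι ρ e) (h1 : B m m = 0) (h2 : B m (ρ w m) = 0) : False := by
  have hirr : ∀ M : Submodule k V, (∀ g, ∀ y ∈ M, ρ g y ∈ M) → m ∈ M → X ≤ M := by
    intro M hM hmM
    rcases hXi.2 (M.comap X.subtype) (fun g y hy => hM g _ hy) with h | h
    · exfalso
      have h3 : (⟨m, hmX⟩ : X) ∈ M.comap X.subtype := hmM
      rw [h, Submodule.mem_bot] at h3
      exact hm0 (congrArg Subtype.val h3)
    · intro y hy
      have h3 : (⟨y, hy⟩ : X) ∈ M.comap X.subtype := by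
        rw [h]
        trivial
      exact h3
  obtain ⟨N, hN, hmN, hNA⟩ := gen_le hm (A := LinearMap.ker (B m)) h1 (fun t => by
    rw [LinearMap.mem_ker]
    have h3 := D.eqv (u t) m (ρ w m)
    rw [hm.1, h2, map_zero] at h3
    exact h3)
  have hmX0 : ∀ y ∈ X, B m y = 0 := fun y hy => LinearMap.mem_ker.1 (hNA (hirr N hN hmN hy))
  -- the annihilator
  obtain ⟨A, hA⟩ : ∃ A : Submodule k V, ∀ y, y ∈ A ↔ ∀ x ∈ X, B y x = 0 :=
    ⟨{ carrier := {y | ∀ x ∈ X, B y x = 0}
       zero_mem' := fun x _ => by rw [map_zero]; rfl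
       add_mem' := fun {y z} hy hz x hx => by rw [map_add, LinearMap.add_apply, hy x hx, hz x hx, add_zero]
       smul_mem' := fun c y hy x hx => by rw [map_smul, LinearMap.smul_apply, hy x hx, smul_zero] }, fun y => Iff.rfl⟩
  have hXA : X ≤ A := hirr A (fun g y hy => by
    rw [hA] at hy ⊢
    intro x hx
    have h3 := D.eqv g y (ρ g⁻¹ x)
    have e1 : ρ g (ρ g⁻¹ x) = x := by rw [apply_mul, mul_inv_cancel, map_one, Module.End.one_apply]
    rw [e1, hy _ (hX _ x hx), map_zero] at h3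
    exact h3) ((hA m).2 hmX0)
  have h3 := D.white X hX fun x hx => (hA x).1 (hXA hx) x hx
  rw [h3, Submodule.mem_bot] at hmX
  exact hm0 hmX

variable {p : ℕ} [Fact p.Prime] [CharP k p] [CharP F p] [IsAlgClosed k] {a : ℕ} (hF : Fintype.card F = p ^ a)
variable [FiniteDimensional k V]
variable {W : List (List ℕ)} (hw : (W : Multiset (List ℕ)) = (cf (Sy.{u, v, w} ι p) ρ).map (tyl p))
variable (S : SD ρ P) (R : Rl ι p a ρ P)

include hF S hw R D in
/-- **the pattern `[],[1,1],[1,3]²,[4]`** -/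
theorem no_L (hp5 : p = 5) (ha : 2 ≤ a) (hfx : ∀ x, (∀ g, ρ g x = x) → x = 0)
    (hW : W = [[], [1, 1], [1, 3], [1, 3], [4]]) : False := by
  obtain ⟨i, hi, hsoc, hc4, X, hX, hXV, hiso, N, hN, hNV, hnd⟩ := L_str hF S hw R hp5 ha hfx hW
  have hij := succ_mod_ne ha hi
  have h2 : (2 : k) ≠ 0 := two_ne (p := p) (by omega)
  have t4 : tyl p (4 * p ^ i) = [4] := tyl_single (by norm_num) (by omega) _
  have t13 : tyl p (3 * p ^ i + p ^ ((i + 1) % a)) = [1, 3] := by
    have h := tyl_pair' (p := p) (n := 1) (m := 3) (by norm_num) (by omega) (by norm_num) (by omega) hij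
    rwa [one_mul] at h
  -- the products are in `N`
  have hcompl := S.compl hN hnd
  have hOi := S.orth_inv hN
  obtain ⟨π, hπN, hπe⟩ : ∃ π : V →ₗ[k] orth P N, (∀ x, π x = 0 → x ∈ N) ∧
      ∀ g x, π (ρ g x) = subRep ρ (orth P N) hOi g (π x) := by
    refine ⟨(orth P N).projectionOnto N hcompl.symm, fun x hx => ?_, fun g x => ?_⟩
    · exact (Submodule.projectionOnto_apply_eq_zero_iff hcompl.symm).1 hx
    · obtain ⟨y, hy, z, hz, rfl⟩ := Submodule.mem_sup.1 (show x ∈ N ⊔ orth P N by rw [hcompl.sup_eq_top]; trivial)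
      have e1 : ∀ y ∈ N, (orth P N).projectionOnto N hcompl.symm y = 0 := fun y hy =>
        (Submodule.projectionOnto_apply_eq_zero_iff hcompl.symm).2 hy
      have e2 : ∀ (z : V) (hz : z ∈ orth P N), (orth P N).projectionOnto N hcompl.symm z = ⟨z, hz⟩ := fun z hz =>
        Submodule.projectionOnto_apply_left hcompl.symm ⟨z, hz⟩
      rw [map_add, map_add, map_add, e1 y hy, e1 _ (hN g y hy), e2 z hz, e2 _ (hOi g z hz), zero_add, zero_add]
      rfl
  have hBN : ∀ x ∈ X, ∀ y ∈ X, B x y ∈ N := by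
    have h0 : (B.compl₁₂ X.subtype X.subtype).compr₂ π = 0 := by
      by_contra h0
      obtain ⟨c, hc1, hc2⟩ := soc_of_sq ι p (σ := subRep ρ X hX) (ρ := subRep ρ (orth P N) hOi)
        ((B.compl₁₂ X.subtype X.subtype).compr₂ π) (fun x y => by
          show π (B x y) = π (B y x)
          rw [D.comm]) (fun g x y => by
          show π (B (ρ g x) (ρ g y)) = subRep ρ (orth P N) hOi g (π (B x y))
          rw [D.eqv, hπe]) h0
      have hc3 : InSoc ι p ρ c := hc2.iso ι p (orth P N).subtype (fun _ _ => rfl) (orth P N).injective_subtype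
      rcases hsoc c hc3 with h | h
      · rw [sq_E hF hp5 ha hi hXV, h] at hc1
        simp only [Multiset.insert_eq_cons, Multiset.mem_cons, Multiset.mem_singleton] at hc1
        have t11 : tyl p (p ^ i + p ^ ((i + 1) % a)) = [1, 1] := by
          have h := tyl_pair (p := p) (n := 1) (m := 1) (by norm_num) (by omega) (by norm_num) (by omega) hij
          rwa [one_mul, one_mul] at h
        have t22 : tyl p (2 * p ^ i + 2 * p ^ ((i + 1) % a)) = [2, 2] :=
          tyl_pair (by norm_num) (by omega) le_rfl (by omega) hij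
        rcases hc1 with h1 | h1 | h1 | h1 | h1 | h1
        · have h6 : p ^ ((i + 1) % a) = p ^ i := by omega
          exact hij (Nat.pow_right_injective (le_refl 2 |>.trans (by omega)) h6).symm
        · rw [h1, t11] at t13
          exact absurd t13 (by decide)
        · rw [h1, t22] at t13
          exact absurd t13 (by decide)
        · rw [h1, t22] at t13
          exact absurd t13 (by decide)
        · rw [h1, t4] at t13
          exact absurd t13 (by decide)
        · rw [h1, tyl_eq_nil.2 rfl] at t13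
          exact absurd t13 (by decide)
      · subst h
        have h1 := S.cf_eq (ι := ι) (p := p) hN hnd
        rw [cf_irr (Sy.{u, v, w} ι p) hNV] at h1
        rw [h1, Multiset.count_add, Multiset.count_singleton_self] at hc4
        have h3 := Multiset.one_le_count_iff_mem.2 hc2.mem_cf
        omega
    intro x hx y hy
    have h3 := LinearMap.congr_fun (LinearMap.congr_fun h0 ⟨x, hx⟩) ⟨y, hy⟩
    exact hπN _ h3
  -- the highest weight vector
  obtain ⟨m, hm0, hmu, hmh, -, -⟩ := IsV.hw ι p hXV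
  have hmE : (m : V) ∈ Ew ι ρ (3 * p ^ i + p ^ ((i + 1) % a)) :=
    ⟨fun t => congrArg Subtype.val (hmu t), fun a => congrArg Subtype.val (hmh a)⟩
  have hwm : ρ w (m : V) ∈ X := hX _ _ m.2
  have hmm : B m m = 0 := by
    by_contra h0
    have h3 := mod_of_Ew ι p hNV (e := 2 * (3 * p ^ i + p ^ ((i + 1) % a))) (x := ⟨B m m, hBN m m.2 m m.2⟩)
      ⟨fun t => Subtype.ext (by
        show ρ (u t) (B m m) = B m m
        rw [← D.eqv, hmE.1]), fun a => Subtype.ext (by
        show ρ (h a) (B m m) = ι a ^ (2 * (3 * p ^ i + p ^ ((i + 1) % _))) • B m m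
        rw [← D.eqv, hmE.2, map_smul, map_smul, LinearMap.smul_apply, smul_smul, ← pow_add, two_mul])⟩
      (fun h => h0 (congrArg Subtype.val h))
    rw [hF] at h3
    subst hp5
    exact arith5 ha hi h3
  have hww : B (ρ w m) (ρ w m) = 0 := by rw [D.eqv, hmm, map_zero]
  obtain ⟨z, hz⟩ : ∃ z, z = B m (ρ w m) := ⟨_, rfl⟩
  have hzN : z ∈ N := by
    rw [hz]
    exact hBN _ m.2 _ hwm
  have hzz : P z z = 0 := by
    have h3 := D.four m (ρ w m) m (ρ w m)
    rw [hmm, hww, map_zero, D.comm (ρ w m) m, ← hz, hiso _ m.2 _ hwm, hiso _ m.2 _ m.2, hiso _ hwm _ m.2] at h3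
    have h4 : 2 * P z z = 0 := by linear_combination h3
    exact (mul_eq_zero.1 h4).resolve_left h2
  have hzh : ∀ a : Fˣ, ρ (h a) z = z := by
    intro b
    have h3 : ρ (h b) (ρ w m) = ι ((b⁻¹ : Fˣ) : F) ^ (3 * p ^ i + p ^ ((i + 1) % a)) • ρ w (m : V) := by
      rw [apply_mul, h_w, ← apply_mul, hmE.2, map_smul]
    rw [hz, ← D.eqv, hmE.2, h3, map_smul, map_smul, LinearMap.smul_apply, smul_smul, ← mul_pow, ← map_mul, Units.inv_mul,
      map_one, one_pow, one_smul]
  -- `z = 0`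
  have hz0 : z = 0 := by
    obtain ⟨v, hv⟩ := IsV.basS ι p (by omega) hNV
    have hv2 : ∀ s ≤ 4, P z (v s) ≠ 0 → s = 2 := by
      intro s hs hne
      have h3 : ∀ a : Fˣ, ι (a : F) ^ (2 * s * p ^ i) = ι (a : F) ^ (4 * p ^ i) := by
        intro b
        have hb0 : ι (b : F) ≠ 0 := (map_ne_zero ι).2 b.ne_zero
        have h4 := S.dul.inv (h b) z (v s)
        have h5 : ρ (h b) (v s : V) = ((ι b ^ p ^ i) ^ s * ((ι b ^ p ^ i)⁻¹) ^ (4 - s)) • (v s : V) :=
          congrArg Subtype.val (hv.h s hs b)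
        rw [hzh, h5, map_smul, smul_eq_mul] at h4
        have h6 : (ι (b : F) ^ p ^ i) ^ s * ((ι b ^ p ^ i)⁻¹) ^ (4 - s) = 1 := mul_right_cancel₀ hne (by rw [h4, one_mul])
        have h7 : (ι (b : F) ^ p ^ i) ≠ 0 := pow_ne_zero _ hb0
        have h8 : (ι (b : F) ^ p ^ i) ^ s = (ι (b : F) ^ p ^ i) ^ (4 - s) := by
          rw [inv_pow, mul_inv_eq_one₀ (pow_ne_zero _ h7)] at h6
          exact h6
        calc ι (b : F) ^ (2 * s * p ^ i) = (ι (b : F) ^ p ^ i) ^ s * (ι (b : F) ^ p ^ i) ^ s := by ring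
          _ = (ι (b : F) ^ p ^ i) ^ (4 - s) * (ι (b : F) ^ p ^ i) ^ s := by rw [h8]
          _ = (ι (b : F) ^ p ^ i) ^ 4 := by rw [← pow_add, Nat.sub_add_cancel hs]
          _ = ι (b : F) ^ (4 * p ^ i) := by ring
      have h4 := mod_of_pow ι h3
      rw [hF] at h4
      subst hp5
      exact arith5' ha hs h4
    obtain ⟨c, hsum, hcs⟩ := basS_wt hv (y := ⟨z, hzN⟩) (e := 0) (fun b => Subtype.ext (by
      show ρ (h b) z = ι b ^ 0 • z
      rw [hzh, pow_zero, one_smul]))
    have hcs2 : ∀ s, c s ≠ 0 → (s : ℕ) = 2 := by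
      intro s hs
      have h3 := hcs s hs
      rw [hF, add_zero] at h3
      subst hp5
      exact arith5' ha (by omega) h3
    have hzc : z = c 2 • (v 2 : V) := by
      have h3 : (⟨z, hzN⟩ : N) = c 2 • v 2 := by
        rw [hsum]
        refine Finset.sum_eq_single (2 : Fin (4 + 1)) (fun s _ hs => ?_) (fun h => absurd (Finset.mem_univ _) h)
        by_contra h0
        exact hs (Fin.ext (hcs2 s fun h1 => h0 (by rw [h1, zero_smul])))
      exact congrArg Subtype.val h3
    by_contra hne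
    have hc2 : c 2 ≠ 0 := fun h => hne (by rw [hzc, h, zero_smul])
    have h22 : P z (v 2 : V) = 0 := by
      have h3 : P (c 2 • (v 2 : V)) z = 0 := by
        rw [← hzc]
        exact hzz
      rw [map_smul, LinearMap.smul_apply, smul_eq_mul, S.symm] at h3
      exact (mul_eq_zero.1 h3).resolve_left hc2
    refine hne (hnd.eq_zero hzN fun y hy => ?_)
    rw [S.symm]
    obtain ⟨d, hd⟩ := (Submodule.mem_span_range_iff_exists_fun k).1 (hv.sp (show (⟨y, hy⟩ : N) ∈ ⊤ from trivial))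
    have h3 : y = ∑ s : Fin (4 + 1), d s • (v s : V) := by
      have h4 : ((∑ s : Fin (4 + 1), d s • v s : N) : V) = y := congrArg Subtype.val hd
      rw [← h4]
      simp
    rw [h3, map_sum]
    refine Finset.sum_eq_zero fun s _ => ?_
    rw [map_smul]
    by_cases hs2 : (s : ℕ) = 2
    · rw [hs2, h22, smul_zero]
    · have h4 : P z (v s : V) = 0 := by
        by_contra h5
        exact hs2 (hv2 s (by omega) h5)
      rw [h4, smul_zero]
  exact D.white_hw hXV.irr m.2 (fun h => hm0 (Subtype.ext h)) hmE hmm (by rw [← hz, hz0])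

end Cfsg.Agent.R2.F4T
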