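import Cfsg.Agent.R2.H28.SL2.TK2

/-!
# Strict pressure for the patterns of `F₄` (helper6, S5931)

`no_trivial4` : for `p ≥ 5` a pattern of `listF4` with a trivial factor does not occur, except three patterns for
`p = 5 < q` and two for `q = 7`.
-/

set_option autoImplicit false
set_option linter.unusedSectionVars false

namespace Cfsg.Agent.R2.F4T

open Matrix Cfsg.Agent.H943.SL2Rel Cfsg.Agent.H943.SL2Mod Cfsg.Agent.H943.RepAdd Cfsg.Agent.R2.H28.SL2
open Cfsg.Agent.R2.SL2 (typ tyl coe_tyl typ_step typ_zero listF4 tyl_eq_nil mem_typ)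

universe u v w

variable {k : Type u} [Field k] [DecidableEq k] {F : Type w} [Field F] [Fintype F] [DecidableEq F] (ι : F →+* k)
variable (p : ℕ) [Fact p.Prime] [CharP k p] [CharP F p] [IsAlgClosed k] {a : ℕ} (hF : Fintype.card F = p ^ a)

include hF in
/-- **no trivial factors** -/
theorem no_trivial4 {V : Type v} [AddCommGroup V] [Module k V] [FiniteDimensional k V]
    {ρ : Representation k (SpecialLinearGroup (Fin 2) F) V} (hp5 : 5 ≤ p) (hq7 : 7 ≤ p ^ a) (hfx : ∀ x, (∀ g, ρ g x = x) → x = 0)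
    (hco : ∀ f : V →ₗ[k] k, (∀ g x, f (ρ g x) = f x) → f = 0) {W : List (List ℕ)} (hW : W ∈ listF4)
    (hw : (W : Multiset (List ℕ)) = (cf (Sy.{u, v, w} ι p) ρ).map (tyl p)) :
    [] ∉ W ∨ (a = 1 ∧ p = 7 ∧ (W = [[], [], [2], [2], [2], [4], [4], [4]] ∨ W = [[], [2], [4], [4], [4], [6]])) ∨
      (2 ≤ a ∧ p = 5 ∧ (W = [[], [], [1, 3], [1, 3], [1, 3]] ∨ W = [[], [1, 1], [1, 3], [1, 3], [4]] ∨
        W = [[], [1, 3], [1, 3], [2, 2]])) := by
  have hp : p.Prime := Fact.out
  by_cases hmem : [] ∉ W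
  · exact Or.inl hmem
  right
  rw [not_not] at hmem
  have ha := ha_pos p hF
  have h9 := ne_nine p hp5 a
  have h0 : hb p a 0 = 0 := by
    have h1 := hb_le_typ (p := p) hp5 (a := a) (b := 0) (Nat.pow_pos hp.pos) h9
    rw [tyl_eq_nil.2 rfl, if_neg] at h1
    · omega
    · unfold hty
      split_ifs <;> simp
  -- the count of `[]`
  have h2 : (W : Multiset (List ℕ)).count [] = (cf (Sy.{u, v, w} ι p) ρ).count 0 := by
    rw [hw, Multiset.count_map, Multiset.count_eq_card_filter_eq]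
    congr 1
    refine Multiset.filter_congr fun b _ => ?_
    rw [eq_comm, tyl_eq_nil, eq_comm]
  have h3 : 0 < (cf (Sy.{u, v, w} ι p) ρ).count 0 := by
    rw [← h2]
    exact Multiset.count_pos.2 hmem
  have h4 := strict_pressure ι p hF h0 hfx hco h3
  have h5 := Hs_le_count (p := p) hp5 h9 (cf_lt ι p hF ρ)
  rw [← hw] at h5
  rw [← h2] at h4
  have h6 : (W : Multiset (List ℕ)).count [] < (W : Multiset (List ℕ)).count (hty p a) := lt_of_lt_of_le h4 h5
  have hlt : ∀ t ∈ W, ∀ d ∈ t, d < p := by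
    intro t ht d hd
    have h8 : t ∈ (cf (Sy.{u, v, w} ι p) ρ).map (tyl p) := by
      rw [← hw]
      exact ht
    obtain ⟨b, hb, rfl⟩ := Multiset.mem_map.1 h8
    exact (Cfsg.Agent.R2.SL2.tyl_mem hd).2
  by_cases ha1 : a = 1
  · left
    -- labels below `p`
    have h7 : ∀ t ∈ W, t.length ≤ 1 := by
      intro t ht
      have h8 : t ∈ (cf (Sy.{u, v, w} ι p) ρ).map (tyl p) := by
        rw [← hw]
        exact ht
      obtain ⟨b, hb, rfl⟩ := Multiset.mem_map.1 h8
      have h9 := cf_lt ι p hF ρ b hb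
      have := Cfsg.Agent.R2.SL2.length_tyl_le h9
      omega
    have key : ∀ W ∈ listF4, [] ∈ W → (∀ t ∈ W, t.length ≤ 1) → ∀ n ∈ List.range 30, 4 ≤ n → (∀ t ∈ W, ∀ d ∈ t, d < n + 3) →
        (W : Multiset (List ℕ)).count [] < (W : Multiset (List ℕ)).count [n] →
        (n = 4 ∧ (W = [[], [], [2], [2], [2], [4], [4], [4]] ∨ W = [[], [2], [4], [4], [4], [6]])) := by
      decide +kernel
    have key2 : ∀ W ∈ listF4, ∀ t ∈ W, ∀ d ∈ t, d < 30 := by decide +kernel
    have h8 : hty p a = [p - 3] := by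
      unfold hty
      rw [if_pos ha1]
    rw [h8] at h6
    have h10' : 0 < (W : Multiset (List ℕ)).count [p - 3] := by omega
    have h10 : [p - 3] ∈ W := Multiset.count_pos.1 h10'
    have h11 := key2 W hW _ h10 (p - 3) (List.mem_singleton_self _)
    rw [ha1, pow_one] at hq7
    obtain ⟨h12, h13⟩ := key W hW hmem h7 (p - 3) (List.mem_range.2 h11) (by omega) (fun t ht d hd => by
      have := hlt t ht d hd
      omega) h6
    exact ⟨ha1, by omega, h13⟩
  · right
    have h8 : hty p a = [1, p - 2] := by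
      unfold hty
      rw [if_neg ha1]
    rw [h8] at h6
    have key : ∀ W ∈ listF4, [] ∈ W → ∀ n ∈ List.range 30, 3 ≤ n → (∀ t ∈ W, ∀ d ∈ t, d < n + 2) →
        (W : Multiset (List ℕ)).count [] < (W : Multiset (List ℕ)).count [1, n] → n = 3 ∧
        W ∈ ([[[], [], [1, 3], [1, 3], [1, 3]], [[], [1, 1], [1, 3], [1, 3], [4]],
          [[], [1, 3], [1, 3], [2, 2]]] : List (List (List ℕ))) := by decide +kernel
    have key2 : ∀ W ∈ listF4, ∀ t ∈ W, ∀ d ∈ t, d < 30 := by decide +kernel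
    have h10' : 0 < (W : Multiset (List ℕ)).count [1, p - 2] := by omega
    have h10 : [1, p - 2] ∈ W := Multiset.count_pos.1 h10'
    have h11 := key2 W hW _ h10 (p - 2) (by simp)
    obtain ⟨h12, h13⟩ := key W hW hmem (p - 2) (List.mem_range.2 h11) (by omega) (fun t ht d hd => by
      have := hlt t ht d hd
      omega) h6
    simp only [List.mem_cons, List.not_mem_nil, or_false] at h13
    exact ⟨by omega, by omega, h13⟩

end Cfsg.Agent.R2.F4T
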