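import Cfsg.Agent.R2.F4T.SdX
import Cfsg.Agent.R2.F4T.HwOne
import Cfsg.Agent.R2.F4T.Rl
import Cfsg.Agent.R2.H22.Q7

/-!
# `q = 7` (helper6, S5931)

* `exists_quot_soc`, `six_mem` : the Steinberg module is in the socle;
* `dim7`, `reduce7`;
* `no_I` : the pattern `[]²[2]³[4]³`; `J_str` : the pattern `[],[2],[4]³,[6]`.
-/

set_option autoImplicit false
set_option linter.unusedSectionVars false

namespace Cfsg.Agent.R2.F4T

open Matrix Cfsg.Agent.H943.SL2Rel Cfsg.Agent.H943.SL2Mod Cfsg.Agent.H943.RepAdd Cfsg.Agent.R2.H28.SL2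
open Cfsg.Agent.R2.SL2 (typ tyl coe_tyl typ_step typ_zero tyl_eq_nil mem_typ listF4)
open Cfsg.Agent.R2.H22.Q7 (Ew mem_Ew Uf mem_Uf six_soc four_soc finrank_le_uf finrank_uf_le card_Bf_small)

universe u v w

section general

variable {k : Type u} [Field k] [DecidableEq k] {F : Type w} [Field F] [Fintype F] [DecidableEq F] (ι : F →+* k)
variable (p : ℕ) [Fact p.Prime] [CharP k p] [CharP F p] [IsAlgClosed k]

theorem exists_quot_soc' {b : ℕ} (n : ℕ) : ∀ {V : Type v} [AddCommGroup V] [Module k V] [FiniteDimensional k V]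
    {ρ : Representation k (SpecialLinearGroup (Fin 2) F) V} {s : Multiset ℕ}, JHn (Sy.{u, v, w} ι p) n ρ s → b ∈ s →
    ∃ (W : Submodule k V) (hW : ∀ g, ∀ x ∈ W, ρ g x ∈ W), InSoc ι p (quotRep ρ W hW) b := by
  induction n with
  | zero =>
    intro V _ _ _ ρ s hs hb
    rw [hs.2] at hb
    exact absurd hb (Multiset.notMem_zero b)
  | succ n ih =>
    intro V _ _ _ ρ s hs hb
    obtain ⟨W₀, hW₀, c, t, hc, rfl, ht⟩ := hs
    rcases Multiset.mem_cons.1 hb with rfl | hbt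
    · have hbot : ∀ g, ∀ x ∈ (⊥ : Submodule k V), ρ g x ∈ (⊥ : Submodule k V) := fun g x hx => by
        rw [Submodule.mem_bot] at hx ⊢
        rw [hx, map_zero]
      have h1 : InSoc ι p ρ b := ⟨W₀, hW₀, hc⟩
      exact ⟨⊥, hbot, h1.iso ι p (⊥ : Submodule k V).mkQ (fun g x => rfl) (by
        rw [← LinearMap.ker_eq_bot, Submodule.ker_mkQ])⟩
    · obtain ⟨W₁, hW₁, h1⟩ := ih (ρ := quotRep ρ W₀ hW₀) ht hbt
      have hW : ∀ g, ∀ x ∈ W₁.comap W₀.mkQ, ρ g x ∈ W₁.comap W₀.mkQ := fun g x hx => by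
        show W₀.mkQ (ρ g x) ∈ W₁
        rw [← quotRep_mk ρ W₀ hW₀]
        exact hW₁ g _ hx
      obtain ⟨e, he, -⟩ := quot_iso ρ (quotRep (quotRep ρ W₀ hW₀) W₁ hW₁) (W₁.mkQ ∘ₗ W₀.mkQ) (fun g x => rfl)
        (W₁.mkQ_surjective.comp W₀.mkQ_surjective) (W₁.comap W₀.mkQ) hW (fun x => by
          rw [LinearMap.comp_apply, Submodule.mkQ_apply, Submodule.Quotient.mk_eq_zero]
          exact Iff.rfl)
      exact ⟨_, hW, h1.iso ι p (e.symm : _ →ₗ[k] _) (fun g x => e.injective (by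
        show e (e.symm _) = e _
        rw [e.apply_symm_apply, he]
        show _ = quotRep (quotRep ρ W₀ hW₀) W₁ hW₁ g (e (e.symm x))
        rw [e.apply_symm_apply])) e.symm.injective⟩

theorem exists_quot_soc {V : Type v} [AddCommGroup V] [Module k V] [FiniteDimensional k V]
    {ρ : Representation k (SpecialLinearGroup (Fin 2) F) V} {b : ℕ} (hb : b ∈ cf (Sy.{u, v, w} ι p) ρ) :
    ∃ (W : Submodule k V) (hW : ∀ g, ∀ x ∈ W, ρ g x ∈ W), InSoc ι p (quotRep ρ W hW) b := by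
  obtain ⟨n, hn⟩ := cf_spec (Sy.{u, v, w} ι p) ρ
  exact exists_quot_soc' ι p n hn hb

end general

variable {k : Type u} [Field k] [DecidableEq k] [IsAlgClosed k] {F : Type w} [Field F] [Fintype F] [DecidableEq F]
  {ι : F →+* k} [Fact (Nat.Prime 7)] [CharP k 7] [CharP F 7] (hF : Fintype.card F = 7)

variable {V : Type v} [AddCommGroup V] [Module k V] [FiniteDimensional k V]
  {ρ : Representation k (SpecialLinearGroup (Fin 2) F) V} {P : V →ₗ[k] V →ₗ[k] k}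

include hF in
/-- **the Steinberg module is in the socle** -/
theorem six_mem (fix : ∀ x, (∀ g, ρ g x = x) → x = 0) (h6 : 6 ∈ cf (Sy.{u, v, w} ι 7) ρ) : InSoc ι 7 ρ 6 := by
  obtain ⟨W, hW, Z, hZ, hZ6⟩ := exists_quot_soc ι 7 h6
  obtain ⟨m, hm0, hmu, hmh, hmS, -⟩ := IsV.hw ι 7 hZ6
  have hmh' : ∀ a : Fˣ, quotRep ρ W hW (h a) (m : V ⧸ W) = ι (a : F) ^ 6 • (m : V ⧸ W) := fun a => congrArg Subtype.val (hmh a)
  obtain ⟨x, hx⟩ := W.mkQ_surjective (quotRep ρ W hW Cfsg.Agent.H943.SL2Rel.w (m : V ⧸ W))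
  have hmem : ∀ z : V, W.mkQ z = 0 → z ∈ W := fun z hz => (Submodule.Quotient.mk_eq_zero _).1 hz
  have hpow : ∀ a : Fˣ, ι (a : F) ^ 6 = 1 := by
    intro a
    have h3 := powQ ι (F := F) a.ne_zero
    rwa [hF] at h3
  obtain ⟨x₀, hx₀, hx₀h⟩ := exists_tavg ι 7 ρ W (c := 0) (x := x) (fun a => by
    refine hmem _ ?_
    rw [map_sub, ← quotRep_mk ρ _ hW, pow_zero, one_smul, hx, apply_mul, h_w, map_mul, Module.End.mul_apply, hmh',
      hpow, one_smul, sub_self])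
  have hy : ∑ t : F, ρ (u t) x₀ ∈ Ew ι ρ 0 := by
    refine ⟨fun s => ?_, fun a => ?_⟩
    · rw [map_sum]
      refine Fintype.sum_equiv (Equiv.addLeft s) _ _ fun t => ?_
      rw [apply_mul, ← u_add]
      rfl
    · rw [map_sum, pow_zero, one_smul]
      have ha : (a : F) ^ 2 ≠ 0 := pow_ne_zero _ a.ne_zero
      refine Fintype.sum_equiv (Equiv.mulLeft₀ ((a : F) ^ 2) ha) _ _ fun t => ?_
      rw [apply_mul, h_u, map_mul, Module.End.mul_apply, hx₀h, pow_zero, one_smul]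
      rfl
  have hy0 : ∑ t : F, ρ (u t) x₀ ≠ 0 := by
    intro h0
    have h3 : W.mkQ x₀ = quotRep ρ W hW Cfsg.Agent.H943.SL2Rel.w (m : V ⧸ W) := by
      rw [← hx, ← sub_eq_zero, ← map_sub]
      exact (Submodule.Quotient.mk_eq_zero _).2 hx₀
    have h4 : SS (quotRep ρ W hW) (m : V ⧸ W) = 0 := by
      rw [SS_apply, ← h3]
      have h5 : ∀ t : F, quotRep ρ W hW (u t) (W.mkQ x₀) = W.mkQ (ρ (u t) x₀) := fun t => rfl
      rw [Finset.sum_congr rfl fun t _ => h5 t, ← map_sum, h0, map_zero]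
    have h5 : SS (subRep (quotRep ρ W hW) Z hZ) m = 0 := by
      apply Subtype.ext
      rw [SS_apply] at h4 ⊢
      refine Eq.trans ?_ h4
      simp only [Submodule.coe_sum]
      rfl
    rw [hmS] at h5
    unfold cb at h5
    rw [if_neg (by omega), neg_one_smul, neg_eq_zero] at h5
    exact hm0 h5
  obtain ⟨X, hX, hb, -⟩ := six_soc ι hF fix hy hy0
  exact ⟨X, hX, hb⟩

include hF in
theorem e2_le (h2 : ¬ InSoc ι 7 ρ 2) : Module.finrank k (Ew ι ρ 2) ≤ Module.finrank k (Ew ι ρ 4) := by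
  let f : Ew ι ρ 2 →ₗ[k] Ew ι ρ 4 := LinearMap.codRestrict _ (SS ρ ∘ₗ (Ew ι ρ 2).subtype)
    (fun x => SS_mem_Ew ι (by rw [hF]) x.2)
  refine LinearMap.finrank_le_finrank_of_injective (f := f) ?_
  rw [← LinearMap.ker_eq_bot, LinearMap.ker_eq_bot']
  intro x hx
  by_contra hx0
  obtain ⟨X, hX, hV, -⟩ := gen_one ι 7 hF (c := 2) (by norm_num) (by norm_num) x.2 (congrArg Subtype.val hx)
    (fun h => hx0 (Subtype.ext h))
  exact h2 ⟨X, hX, hV⟩

include hF in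
/-- **the dimension** -/
theorem dim7 (fix : ∀ x, (∀ g, ρ g x = x) → x = 0) (hev : ∀ b ∈ cf (Sy.{u, v, w} ι 7) ρ, b % 2 = 0)
    (h6 : 6 ∉ cf (Sy.{u, v, w} ι 7) ρ) (h2 : ¬ InSoc ι 7 ρ 2) : Module.finrank k V ≤ 14 * Module.finrank k (Ew ι ρ 4) := by
  have h3 := finrank_le_uf hF (ρ := ρ)
  have h4 := finrank_uf_le ι hF hev
  have h5 := e2_le hF h2
  have h0 : Ew ι ρ 0 = ⊥ := by
    rw [eq_bot_iff]
    intro x hx
    by_contra hx0
    obtain ⟨X, hX, hb, -⟩ := six_soc ι hF fix hx (fun h => hx0 ((Submodule.mem_bot k).2 h))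
    exact h6 (show InSoc ι 7 ρ 6 from ⟨X, hX, hb⟩).mem_cf
  rw [h0, finrank_bot] at h4
  omega

/-- the irreducible submodules of weight 4 -/
theorem four_soc' (h6 : ¬ InSoc ι 7 ρ 2) (hF : Fintype.card F = 7) {x : V} (hx : x ∈ Ew ι ρ 4) (hx0 : x ≠ 0) :
    ∃ (X : Submodule k V) (hX : ∀ g, ∀ y ∈ X, ρ g y ∈ X), IsV ι 7 (subRep ρ X hX) 4 ∧ x ∈ X :=
  hw_soc ι 7 hF (c := 4) (by norm_num) (by norm_num) h6 hx hx0

/-- the dimension from the factors -/
theorem dim_cf7 {s : Multiset ℕ} (hs : ∀ b ∈ s, b < 7) (hcf : cf (Sy.{u, v, w} ι 7) ρ = s) :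
    Module.finrank k V = (s.map fun b => b + 1).sum := by
  rw [finrank_cf ι 7 _ V ρ le_rfl, hcf]
  congr 1
  exact Multiset.map_congr rfl fun b hb => card_Bf_small (hs b hb)

/-- no socle -/
theorem no_soc (hd : 0 < Module.finrank k V) (hsoc : ∀ b, InSoc ι 7 ρ b → b = 4) (h4 : 4 ∉ cf (Sy.{u, v, w} ι 7) ρ) : False := by
  have hnt : Nontrivial V := Module.nontrivial_of_finrank_pos hd
  obtain ⟨c, hc⟩ := exists_inSoc ι 7 ρ
  obtain rfl := hsoc c hc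
  exact h4 hc.mem_cf

theorem soc_sub (hsoc : ∀ b, InSoc ι 7 ρ b → b = 4) {Z : Submodule k V} (hZ : ∀ g, ∀ x ∈ Z, ρ g x ∈ Z) :
    ∀ b, InSoc ι 7 (subRep ρ Z hZ) b → b = 4 := fun b hb =>
  hsoc b (hb.iso ι 7 Z.subtype (fun _ _ => rfl) Z.injective_subtype)

include hF in
/-- a nondegenerate submodule -/
theorem reduce7 (S : SD ρ P) (fix : ∀ x, (∀ g, ρ g x = x) → x = 0) (hev : ∀ b ∈ cf (Sy.{u, v, w} ι 7) ρ, b % 2 = 0)
    (h6 : 6 ∉ cf (Sy.{u, v, w} ι 7) ρ) (hsoc : ∀ b, InSoc ι 7 ρ b → b = 4)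
    (hd : 14 < Module.finrank k V) (hc : (cf (Sy.{u, v, w} ι 7) ρ).count 4 ≤ 3) :
    ∃ (Z : Submodule k V) (hZ : ∀ g, ∀ x ∈ Z, ρ g x ∈ Z), Nd P Z ∧
      (IsV ι 7 (subRep ρ Z hZ) 4 ∨ cf (Sy.{u, v, w} ι 7) (subRep ρ Z hZ) = {4, 4}) := by
  have h2 : ¬ InSoc ι 7 ρ 2 := fun h => by
    have := hsoc _ h
    omega
  have h1 := dim7 hF fix hev h6 h2
  obtain ⟨X, Y, hX, hY, hXb, hYb, hXY⟩ := Cfsg.Agent.R2.H22.Q7.exists_two ι (b := 4) (e := 4) (fun x hx hx0 => four_soc' h2 hF hx hx0)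
    (by omega)
  rcases S.nd_or_iso hXb with h3 | h3
  · exact ⟨X, hX, h3, Or.inl hXb⟩
  rcases S.nd_or_iso hYb with h4 | h4
  · exact ⟨Y, hY, h4, Or.inl hYb⟩
  rcases S.two_iso hXb hYb h3 h4 hXY with h5 | ⟨h5, h6⟩
  · omega
  · exact ⟨X ⊔ Y, stab_sup hX hY, h5, Or.inr h6⟩

/-- the factors of the complement of `V_4` -/
theorem compl_cf (S : SD ρ P) {Z : Submodule k V} {hZ : ∀ g, ∀ x ∈ Z, ρ g x ∈ Z} (hnd : Nd P Z) {s t : Multiset ℕ}
    (hs : cf (Sy.{u, v, w} ι 7) (subRep ρ Z hZ) = s) (hcf : cf (Sy.{u, v, w} ι 7) ρ = s + t) :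
    cf (Sy.{u, v, w} ι 7) (subRep ρ (orth P Z) (S.orth_inv hZ)) = t := by
  have h1 := S.cf_eq (ι := ι) (p := 7) hZ hnd
  rw [hcf, hs] at h1
  exact (add_left_cancel h1).symm

include hF in
/-- **the pattern `[]²[2]³[4]^m`** -/
theorem no_I' (n m : ℕ) : m ≤ n → m ≤ 3 → ∀ {V : Type v} [AddCommGroup V] [Module k V] [FiniteDimensional k V]
    {ρ : Representation k (SpecialLinearGroup (Fin 2) F) V} {P : V →ₗ[k] V →ₗ[k] k} (_ : SD ρ P)
    (_ : ∀ x, (∀ g, ρ g x = x) → x = 0) (_ : ∀ b, InSoc ι 7 ρ b → b = 4)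
    (_ : cf (Sy.{u, v, w} ι 7) ρ = {0, 0, 2, 2, 2} + Multiset.replicate m 4), False := by
  induction n generalizing m with
  | zero =>
    intro hmn _ V _ _ _ ρ P S fix hsoc hcf
    obtain rfl : m = 0 := by omega
    have hd := dim_cf7 (s := {0, 0, 2, 2, 2}) (by decide) (by rw [hcf]; rfl)
    exact no_soc (by rw [hd]; decide) hsoc (by rw [hcf]; decide)
  | succ n ih =>
    intro hmn hm3 V _ _ _ ρ P S fix hsoc hcf
    rcases Nat.eq_zero_or_pos m with rfl | hm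
    · have hd := dim_cf7 (s := {0, 0, 2, 2, 2}) (by decide) (by rw [hcf]; rfl)
      exact no_soc (by rw [hd]; decide) hsoc (by rw [hcf]; decide)
    have hd := dim_cf7 (s := {0, 0, 2, 2, 2} + Multiset.replicate m 4) (by
      intro b hb
      rw [Multiset.mem_add, Multiset.mem_replicate] at hb
      rcases hb with hb | hb
      · revert b hb
        decide
      · omega) hcf
    have hd2 : Module.finrank k V = 11 + 5 * m := by
      rw [hd, Multiset.map_add, Multiset.sum_add, Multiset.map_replicate, Multiset.sum_replicate, smul_eq_mul]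
      have : (Multiset.map (fun b => b + 1) ({0, 0, 2, 2, 2} : Multiset ℕ)).sum = 11 := by decide
      omega
    have hmem : ∀ b ∈ cf (Sy.{u, v, w} ι 7) ρ, b = 0 ∨ b = 2 ∨ b = 4 := by
      intro b hb
      rw [hcf, Multiset.mem_add, Multiset.mem_replicate] at hb
      simp only [Multiset.insert_eq_cons, Multiset.mem_cons, Multiset.mem_singleton] at hb
      tauto
    obtain ⟨Z, hZ, hnd, hZ4⟩ := reduce7 hF S fix (fun b hb => by rcases hmem b hb with rfl | rfl | rfl <;> rfl)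
      (fun h => by have := hmem _ h; omega) hsoc (by omega) (by
        rw [hcf, Multiset.count_add, Multiset.count_replicate_self]
        have : Multiset.count 4 ({0, 0, 2, 2, 2} : Multiset ℕ) = 0 := by decide
        omega)
    have hS := S.restrict (S.orth_inv hZ) (S.nd_orth hnd)
    have hfix : ∀ x, (∀ g, subRep ρ (orth P Z) (S.orth_inv hZ) g x = x) → x = 0 := fun x hx =>
      Subtype.ext (fix x fun g => congrArg Subtype.val (hx g))
    rcases hZ4 with h4 | h4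
    · obtain ⟨m', rfl⟩ : ∃ m', m = m' + 1 := ⟨m - 1, by omega⟩
      refine ih m' (by omega) (by omega) hS hfix (soc_sub hsoc _) (compl_cf S hnd (cf_irr (Sy.{u, v, w} ι 7) h4) ?_)
      rw [hcf, Multiset.replicate_succ, ← Multiset.singleton_add]
      abel
    · have hm2 : 2 ≤ m := by
        have h5 := Multiset.count_le_of_le 4 (cf_sub_le (Sy.{u, v, w} ι 7) ρ Z hZ)
        rw [h4, hcf, Multiset.count_add, Multiset.count_replicate_self] at h5
        have h6 : Multiset.count 4 ({0, 0, 2, 2, 2} : Multiset ℕ) = 0 := by decide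
        have h7 : Multiset.count 4 ({4, 4} : Multiset ℕ) = 2 := by decide
        omega
      obtain ⟨m', rfl⟩ : ∃ m', m = m' + 2 := ⟨m - 2, by omega⟩
      refine ih m' (by omega) (by omega) hS hfix (soc_sub hsoc _) (compl_cf S hnd h4 ?_)
      rw [hcf, Multiset.replicate_add, add_comm (Multiset.replicate m' 4), ← add_assoc, ← add_assoc,
        add_comm ({4, 4} : Multiset ℕ)]
      rfl

/-- `0, 2, 4` -/
theorem no_024 (S : SD ρ P) (hsoc : ∀ b, InSoc ι 7 ρ b → b = 4) (hcf : cf (Sy.{u, v, w} ι 7) ρ = {0, 2, 4}) : False := by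
  have hd := dim_cf7 (s := {0, 2, 4}) (by decide) hcf
  have hd2 : (Multiset.map (fun b => b + 1) ({0, 2, 4} : Multiset ℕ)).sum = 9 := by decide
  have hnt : Nontrivial V := Module.nontrivial_of_finrank_pos (R := k) (by omega)
  obtain ⟨c, X, hX, hXb⟩ := exists_inSoc ι 7 ρ
  obtain rfl := hsoc c ⟨X, hX, hXb⟩
  have hnd := S.nd_of_count hXb (by rw [hcf]; decide)
  have h1 := compl_cf S hnd (cf_irr (Sy.{u, v, w} ι 7) hXb) (t := {0, 2}) (by rw [hcf]; decide)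
  have hd3 := dim_cf7 (s := {0, 2}) (by decide) h1
  exact no_soc (by rw [hd3]; decide) (soc_sub hsoc _) (by rw [h1]; decide)

/-- `0, 2, 4, 4` : the socle is simple and isotropic -/
theorem uniq_0244 (S : SD ρ P) (hsoc : ∀ b, InSoc ι 7 ρ b → b = 4) (hcf : cf (Sy.{u, v, w} ι 7) ρ = {0, 2, 4, 4}) :
    ∃ (X : Submodule k V) (hX : ∀ g, ∀ x ∈ X, ρ g x ∈ X), IsV ι 7 (subRep ρ X hX) 4 ∧ Iso P X ∧
      ∀ (Y : Submodule k V) (hY : ∀ g, ∀ x ∈ Y, ρ g x ∈ Y), Irrd (subRep ρ Y hY) → Y = X := by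
  have hd := dim_cf7 (s := {0, 2, 4, 4}) (by decide) hcf
  have hd2 : (Multiset.map (fun b => b + 1) ({0, 2, 4, 4} : Multiset ℕ)).sum = 14 := by decide
  have hnt : Nontrivial V := Module.nontrivial_of_finrank_pos (R := k) (by omega)
  obtain ⟨c, X, hX, hXb⟩ := exists_inSoc ι 7 ρ
  obtain rfl := hsoc c ⟨X, hX, hXb⟩
  have hiso : ∀ (X : Submodule k V) (hX : ∀ g, ∀ x ∈ X, ρ g x ∈ X), IsV ι 7 (subRep ρ X hX) 4 → Iso P X := by
    intro X hX hXb
    rcases S.nd_or_iso hXb with h | h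
    · exfalso
      have h1 := compl_cf S h (cf_irr (Sy.{u, v, w} ι 7) hXb) (t := {0, 2, 4}) (by rw [hcf]; decide)
      exact no_024 (S.restrict (S.orth_inv hX) (S.nd_orth h)) (soc_sub hsoc _) h1
    · exact h
  refine ⟨X, hX, hXb, hiso X hX hXb, fun Y hY hYi => ?_⟩
  obtain ⟨d, hd'⟩ := (Sy.{u, v, w} ι 7).ex (subRep ρ Y hY) hYi
  obtain rfl := hsoc d ⟨Y, hY, hd'⟩
  rcases IsV.inf_or_le ι 7 hXb hY with h | h
  · exfalso
    rcases S.two_iso hXb hd' (hiso X hX hXb) (hiso Y hY hd') h with h5 | ⟨h5, h6⟩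
    · rw [hcf] at h5
      revert h5
      decide
    · have h1 := compl_cf S h5 h6 (t := {0, 2}) (by rw [hcf]; decide)
      have hd3 := dim_cf7 (s := {0, 2}) (by decide) h1
      exact no_soc (by rw [hd3]; decide) (soc_sub hsoc _) (by rw [h1]; decide)
  · have h1 := IsV.finrank ι hXb
    have h2 := IsV.finrank ι (show IsV ι 7 (subRep ρ Y hY) 4 from hd')
    exact (Submodule.eq_of_le_of_finrank_eq h (by omega)).symm

include hF in
/-- **the pattern `[],[2],[4]³,[6]`** -/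
theorem J_str (S : SD ρ P) (fix : ∀ x, (∀ g, ρ g x = x) → x = 0) (h2 : ¬ InSoc ι 7 ρ 2)
    (hcf : cf (Sy.{u, v, w} ι 7) ρ = {0, 2, 4, 4, 4, 6}) :
    ∃ (X Z Y : Submodule k V) (hX : ∀ g, ∀ x ∈ X, ρ g x ∈ X) (hZ : ∀ g, ∀ x ∈ Z, ρ g x ∈ Z)
      (hY : ∀ g, ∀ x ∈ Y, ρ g x ∈ Y), IsV ι 7 (subRep ρ X hX) 6 ∧ IsV ι 7 (subRep ρ Z hZ) 4 ∧
      cf (Sy.{u, v, w} ι 7) (subRep ρ Y hY) = {0, 2, 4, 4} ∧ X ⊔ Z ⊔ Y = ⊤ ∧ Nd P X ∧ Nd P Z ∧ Nd P Y ∧
      (∀ x ∈ X, ∀ y ∈ Z, P x y = 0) ∧ (∀ x ∈ X, ∀ y ∈ Y, P x y = 0) ∧ (∀ x ∈ Z, ∀ y ∈ Y, P x y = 0) ∧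
      ∃ (N : Submodule k V) (hN : ∀ g, ∀ x ∈ N, ρ g x ∈ N), N ≤ Y ∧ IsV ι 7 (subRep ρ N hN) 4 ∧ Iso P N ∧
        ∀ (M : Submodule k V) (hM : ∀ g, ∀ x ∈ M, ρ g x ∈ M), M ≤ Y → Irrd (subRep ρ M hM) → M = N := by
  have hsoc : ∀ b, InSoc ι 7 ρ b → b = 4 ∨ b = 6 := by
    intro b hb
    have h1 := hb.mem_cf
    rw [hcf] at h1
    simp only [Multiset.insert_eq_cons, Multiset.mem_cons, Multiset.mem_singleton] at h1
    have h0 : b ≠ 0 := by
      rintro rfl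
      obtain ⟨X, hX, hq, φ, hφ⟩ := hb
      have hnt : Nontrivial X := (show IsV ι 7 (subRep ρ X hX) 0 from ⟨hq, φ, hφ⟩).irr.1
      obtain ⟨x, hx⟩ := exists_ne (0 : X)
      apply hx
      apply Subtype.ext
      refine fix _ fun g => ?_
      have h1 := hφ g (φ.symm x)
      rw [rb_zero ι 7 rfl, φ.apply_symm_apply] at h1
      exact (congrArg Subtype.val h1).symm
    have h2' : b ≠ 2 := by
      rintro rfl
      exact h2 hb
    tauto
  obtain ⟨X, hX, hXb⟩ := six_mem hF fix (by rw [hcf]; decide)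
  have hXn := S.nd_of_count hXb (by rw [hcf]; decide)
  have c1 := compl_cf S hXn (cf_irr (Sy.{u, v, w} ι 7) hXb) (t := {0, 2, 4, 4, 4}) (by rw [hcf]; decide)
  have hO := S.orth_inv hX
  have hS1 := S.restrict hO (S.nd_orth hXn)
  have hfix1 : ∀ x, (∀ g, subRep ρ (orth P X) hO g x = x) → x = 0 := fun x hx =>
    Subtype.ext (fix x fun g => congrArg Subtype.val (hx g))
  have hsoc1 : ∀ b, InSoc ι 7 (subRep ρ (orth P X) hO) b → b = 4 := by
    intro b hb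
    rcases hsoc b (hb.iso ι 7 (orth P X).subtype (fun _ _ => rfl) (orth P X).injective_subtype) with h | h
    · exact h
    · exfalso
      have h1 := hb.mem_cf
      rw [c1, h] at h1
      revert h1
      decide
  have hd := dim_cf7 (s := {0, 2, 4, 4, 4}) (by decide) c1
  have hd2 : (Multiset.map (fun b => b + 1) ({0, 2, 4, 4, 4} : Multiset ℕ)).sum = 19 := by decide
  obtain ⟨Z, hZ, hZn, hZ4⟩ := reduce7 hF hS1 hfix1 (by rw [c1]; decide) (by rw [c1]; decide) hsoc1 (by omega)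
    (by rw [c1]; decide)
  have hZb : IsV ι 7 (subRep (subRep ρ (orth P X) hO) Z hZ) 4 := by
    rcases hZ4 with h | h
    · exact h
    · exfalso
      have c2 := compl_cf hS1 hZn h (t := {0, 2, 4}) (by rw [c1]; decide)
      exact no_024 (hS1.restrict (hS1.orth_inv hZ) (hS1.nd_orth hZn)) (soc_sub hsoc1 _) c2
  have c2 := compl_cf hS1 hZn (cf_irr (Sy.{u, v, w} ι 7) hZb) (t := {0, 2, 4, 4}) (by rw [c1]; decide)
  obtain ⟨Z', Y, hZ', hY, ⟨e1, he1⟩, e2, h1, h3, h4, h5, h6, h7, -, hYd⟩ := S.flat hX hXn hZ hZn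
  have cY : cf (Sy.{u, v, w} ι 7) (subRep ρ Y hY) = {0, 2, 4, 4} := by
    rw [← c2]
    exact (cf_iso (Sy.{u, v, w} ι 7) e2).symm
  have hYX : Y ≤ orth P X := by
    rw [hYd]
    rintro _ ⟨y, -, rfl⟩
    exact y.2
  have hsocY : ∀ b, InSoc ι 7 (subRep ρ Y hY) b → b = 4 := by
    intro b hb
    rcases hsoc b (hb.iso ι 7 Y.subtype (fun _ _ => rfl) Y.injective_subtype) with h | h
    · exact h
    · exfalso
      have h1 := hb.mem_cf
      rw [cY, h] at h1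
      revert h1
      decide
  obtain ⟨N, hN, hNb, hNi, hNu⟩ := uniq_0244 (S.restrict hY h4) hsocY cY
  obtain ⟨hN', hNb'⟩ := isV_map' hNb
  refine ⟨X, Z', Y, hX, hZ', hY, hXb, IsV.iso ι 7 e1 he1 hZb, cY, h1, hXn, h3, h4, h5, h6, h7, N.map Y.subtype, hN',
    Submodule.map_subtype_le _ _, hNb', ?_, fun M hM hMY hMi => ?_⟩
  · rintro _ ⟨x, hx, rfl⟩ _ ⟨y, hy, rfl⟩
    exact hNi x hx y hy
  · obtain ⟨d, hd⟩ := (Sy.{u, v, w} ι 7).ex (subRep ρ M hM) hMi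
    have h8 := hNu _ (stab_comap hM hY) (isV_comap hMY (hZ := hY) (show IsV ι 7 (subRep ρ M hM) d from hd)).irr
    rw [← h8, Submodule.map_comap_subtype, inf_eq_right.2 hMY]

/-- the only pattern without trivial factors -/
theorem key71 : ∀ W ∈ listF4, [] ∉ W → (∀ t ∈ W, t.length ≤ 1) → (∀ t ∈ W, ∀ e ∈ t, e < 7) →
    ((∀ t ∈ W, (decide (t ≠ [2])) = true → (W : Multiset (List ℕ)).count t ≤ 1) ∧
      ¬ ∀ t ∈ W, (decide (t ≠ [2])) = true) := by
  decide +kernel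

/-- **`q = 7`, no trivial factors: impossible** -/
theorem no_71 (S : SD ρ P) (h2 : ¬ InSoc ι 7 ρ 2) (hF : Fintype.card F = 7) {W : List (List ℕ)} (hWm : W ∈ listF4)
    (h0 : [] ∉ W) (hw : (W : Multiset (List ℕ)) = (cf (Sy.{u, v, w} ι 7) ρ).map (tyl 7)) : False := by
  have hF1 : Fintype.card F = 7 ^ 1 := by rw [hF, pow_one]
  have hlt : ∀ t ∈ W, ∀ e ∈ t, e < 7 := fun t ht e he => lt_p ι 7 hw ht he
  refine S.kp hw (fun t => decide (t ≠ [2])) (fun c hc => ?_) (key71 W hWm h0 ?_ hlt)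
  · rw [decide_eq_true_iff]
    intro h
    obtain ⟨i, hi, rfl⟩ := tyl_single_inv h (cf_lt ι 7 hF1 ρ c hc.mem_cf) (by norm_num)
    obtain rfl : i = 0 := by omega
    exact h2 hc
  · intro t ht
    have h8 : t ∈ (cf (Sy.{u, v, w} ι 7) ρ).map (tyl 7) := by
      rw [← hw]
      exact ht
    obtain ⟨b, hb, rfl⟩ := Multiset.mem_map.1 h8
    have h9 := cf_lt ι 7 hF1 ρ b hb
    have := Cfsg.Agent.R2.SL2.length_tyl_le h9
    omega

end Cfsg.Agent.R2.F4T
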