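import Cfsg.Agent.R2.F4T.Rl

/-!
# The patterns for `p ≥ 11` (helper6, S5931)

`tab11` : the surviving patterns: `[4],[4],[6],[8]` (alpha), `[1,1,2],[4],[8]`, `[1,5],[4],[8]` (theta), `[1,3],[8],[8]`,
`[2],[4],[8],[8]`, `[8],[16]`.
-/

set_option autoImplicit false
set_option linter.unusedSectionVars false

namespace Cfsg.Agent.R2.F4T

open Matrix Cfsg.Agent.H943.SL2Rel Cfsg.Agent.H943.SL2Mod Cfsg.Agent.H943.RepAdd Cfsg.Agent.R2.H28.SL2
open Cfsg.Agent.R2.SL2 (typ tyl coe_tyl typ_step typ_zero tyl_eq_nil mem_typ listF4)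

universe u v w

section lists

theorem exists_list {α β : Type*} [DecidableEq α] (f : α → β) : ∀ (W : List β) (s : Multiset α)
    (_ : (W : Multiset β) = s.map f), ∃ l : List α, s = (l : Multiset α) ∧ l.map f = W := by
  intro W
  induction W with
  | nil =>
    intro s h
    have h1 : s = 0 := Multiset.map_eq_zero.1 h.symm
    exact ⟨[], h1, rfl⟩
  | cons t W ih =>
    intro s h
    have h1 : s.map f = t ::ₘ (W : Multiset β) := h.symm
    obtain ⟨b, hb, hbt, hs⟩ := (Multiset.map_eq_cons f s _ t).2 h1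
    obtain ⟨l, hl, hl'⟩ := ih _ hs.symm
    refine ⟨b :: l, ?_, ?_⟩
    · rw [← Multiset.cons_coe, ← hl, Multiset.cons_erase hb]
    · rw [List.map_cons, hbt, hl']

theorem pow_inj' {p n i j : ℕ} [Fact p.Prime] (hn : 0 < n) (h : n * p ^ i = n * p ^ j) : i = j :=
  Nat.pow_right_injective (Fact.out : p.Prime).two_le (Nat.eq_of_mul_eq_mul_left hn h)

end lists

variable {k : Type u} [Field k] [DecidableEq k] {F : Type w} [Field F] [Fintype F] [DecidableEq F] {ι : F →+* k}
variable {p : ℕ} [Fact p.Prime] [CharP k p] [CharP F p] [IsAlgClosed k] {a : ℕ}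
variable {V : Type v} [AddCommGroup V] [Module k V] [FiniteDimensional k V]
variable {ρ : Representation k (SpecialLinearGroup (Fin 2) F) V} {P : V →ₗ[k] V →ₗ[k] k}

/-- all irreducible submodules are nondegenerate -/
def Nds (ι : F →+* k) (p : ℕ) [Fact p.Prime] [CharP k p] [CharP F p]
    (ρ : Representation k (SpecialLinearGroup (Fin 2) F) V) (P : V →ₗ[k] V →ₗ[k] k) : Prop :=
  ∀ (X : Submodule k V) (hX : ∀ g, ∀ x ∈ X, ρ g x ∈ X) (b : ℕ), IsV ι p (subRep ρ X hX) b → Nd P X

/-- orthogonality -/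
theorem SD.orth_of_ne (S : SD ρ P) {X Y : Submodule k V} {hX : ∀ g, ∀ x ∈ X, ρ g x ∈ X} {hY : ∀ g, ∀ x ∈ Y, ρ g x ∈ Y}
    {b c : ℕ} (hb : IsV ι p (subRep ρ X hX) b) (hc : IsV ι p (subRep ρ Y hY) c) (hbc : b ≠ c) :
    ∀ x ∈ X, ∀ y ∈ Y, P x y = 0 := by
  rcases IsV.inf_or_le ι p hc (S.orth_inv hX) with h | h
  · exfalso
    obtain ⟨B₁, D₁, -⟩ := S.dul.sub hX
    have h2 : IsV ι p (quotRep ρ (orth P X) (S.orth_inv hX)) b := IsV.dual ι p hb D₁.flip.flip
    have h3 : InSoc ι p (quotRep ρ (orth P X) (S.orth_inv hX)) c := by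
      refine inSoc_of_hom ι p hc ((orth P X).mkQ ∘ₗ Y.subtype) (fun g x => ?_) ?_
      · exact (quotRep_mk ρ (orth P X) (S.orth_inv hX) g _).symm
      · intro h0
        obtain ⟨y, hy⟩ := @exists_ne Y hc.irr.1 0
        apply hy
        have h4 : (orth P X).mkQ (y : V) = 0 := by
          have := LinearMap.congr_fun h0 y
          exact this
        have h5 : (y : V) ∈ Y ⊓ orth P X := ⟨y.2, (Submodule.Quotient.mk_eq_zero _).1 h4⟩
        rw [h, Submodule.mem_bot] at h5
        exact Subtype.ext h5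
    have h4 := h3.mem_cf
    have h5 : cf (Sy.{u, v, w} ι p) (quotRep ρ (orth P X) (S.orth_inv hX)) = {b} := cf_irr _ h2
    rw [h5, Multiset.mem_singleton] at h4
    exact hbc h4.symm
  · exact fun x hx y hy => h hy x hx

theorem typ1 {W : List (List ℕ)} (hw : (W : Multiset (List ℕ)) = (cf (Sy.{u, v, w} ι p) ρ).map (tyl p)) {t : List ℕ}
    (h1 : (W : Multiset (List ℕ)).count t ≤ 1) {b c : ℕ} (hb : b ∈ cf (Sy.{u, v, w} ι p) ρ)
    (hc : c ∈ cf (Sy.{u, v, w} ι p) ρ) (hbt : tyl p b = t) (hct : tyl p c = t) : b = c := by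
  have h2 : 0 < (W : Multiset (List ℕ)).count t := by
    rw [hw, ← hbt]
    exact Multiset.count_pos.2 (Multiset.mem_map_of_mem _ hb)
  exact (uniq_typ ι p hw (by omega) hb hc hbt hct).1

/-- the socle of a nondegenerate submodule -/
theorem Nds.restrict {X : Submodule k V} (hX : ∀ g, ∀ x ∈ X, ρ g x ∈ X)
    (h : ∀ (Y : Submodule k V) (hY : ∀ g, ∀ x ∈ Y, ρ g x ∈ Y) (b : ℕ), IsV ι p (subRep ρ Y hY) b → Y ≤ X → Nd P Y) :
    Nds ι p (subRep ρ X hX) (P.compl₁₂ X.subtype X.subtype) := by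
  intro Y hY b hb
  obtain ⟨hY', e, he⟩ := eqv_map (subRep ρ X hX) ρ X.subtype (fun _ _ => rfl) X.injective_subtype Y hY
  exact nd_map (h _ hY' b (IsV.iso ι p e he hb) (Submodule.map_subtype_le _ _))

/-- a submodule of a nondegenerate submodule, counted there -/
theorem SD.nd_of_count_sub (S : SD ρ P) {X : Submodule k V} (hX : ∀ g, ∀ x ∈ X, ρ g x ∈ X) (h : Nd P X)
    {Y : Submodule k V} {hY : ∀ g, ∀ x ∈ Y, ρ g x ∈ Y} {b : ℕ} (hb : IsV ι p (subRep ρ Y hY) b) (hYX : Y ≤ X)
    (hc : (cf (Sy.{u, v, w} ι p) (subRep ρ X hX)).count b ≤ 1) : Nd P Y := by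
  have hYi : ∀ g, ∀ x ∈ Y.comap X.subtype, subRep ρ X hX g x ∈ Y.comap X.subtype := fun g x hx => hY g _ hx
  have hmap : (Y.comap X.subtype).map X.subtype = Y := by
    rw [Submodule.map_comap_subtype, inf_eq_right.2 hYX]
  have hV : IsV ι p (subRep (subRep ρ X hX) (Y.comap X.subtype) hYi) b := by
    refine IsV.iso ι p (Submodule.comapSubtypeEquivOfLe hYX).symm (fun g x => ?_) hb
    exact Subtype.ext (Subtype.ext rfl)
  have h1 := (S.restrict hX h).nd_of_count hV hc
  rw [← hmap]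
  exact nd_map' h1

variable (S : SD ρ P) (R : Rl ι p a ρ P) (hF : Fintype.card F = p ^ a) {W : List (List ℕ)}
  (hw : (W : Multiset (List ℕ)) = (cf (Sy.{u, v, w} ι p) ρ).map (tyl p))

include S R hF hw

/-- two factors `[4]` : semisimplicity -/
theorem SD.four (hp11 : 11 ≤ p) (c8 : (W : Multiset (List ℕ)).count [8] ≤ 1) (c4 : (W : Multiset (List ℕ)).count [4] = 2)
    (c22 : (W : Multiset (List ℕ)).count [2, 2] ≤ 3)
    (hoth : ∀ t ∈ W, okA W t = true → t ≠ [4] → (W : Multiset (List ℕ)).count t ≤ 1) :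
    ∀ b ∈ cf (Sy.{u, v, w} ι p) ρ, InSoc ι p ρ b := by
  by_cases hall : Nds ι p ρ P
  · exact S.all_soc hall
  · unfold Nds at hall
    push Not at hall
    obtain ⟨X, hX, b, hb, hnd⟩ := hall
    have hiso := (S.nd_or_iso hb).resolve_left hnd
    have hc2 := S.two_le_count hb hiso
    have hbs : InSoc ι p ρ b := ⟨X, hX, hb⟩
    have hok := R.okA hF hw (by omega) c22 hp11 hbs
    have hbt : tyl p b = [4] := by
      by_contra h4
      have h5 := hoth _ (cf_typ_mem ι p hw hbs.mem_cf) hok h4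
      have h6 := count_tyl hw b
      omega
    obtain ⟨r, hr, rfl, h8⟩ := R.soc4 hF hw (by omega) hp11 hbs hbt
    have hc : (cf (Sy.{u, v, w} ι p) ρ).count (4 * p ^ r) = 2 := by
      have h6 := count_tyl hw (4 * p ^ r)
      rw [hbt, c4] at h6
      omega
    -- a nondegenerate copy
    obtain ⟨X', hX', hb', hnd'⟩ : ∃ (X : Submodule k V) (hX : ∀ g, ∀ x ∈ X, ρ g x ∈ X),
        IsV ι p (subRep ρ X hX) (4 * p ^ r) ∧ Nd P X := by
      by_contra hcon
      push Not at hcon
      obtain ⟨Y, hY, hY8, hYi⟩ := R.i4 hp11 r hr (by omega) hbs fun X hX h => (S.nd_or_iso h).resolve_left (hcon X hX h)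
      have h9 := S.two_le_count hY8 hYi
      have h10 := count_tyl hw (8 * p ^ r)
      rw [tyl_single (by norm_num) (by omega)] at h10
      omega
    have hcf := S.cf_eq (ι := ι) (p := p) hX' hnd'
    rw [cf_irr (Sy.{u, v, w} ι p) hb'] at hcf
    have hcnt : ∀ c, (cf (Sy.{u, v, w} ι p) ρ).count c ≤ 1 ∨ c = 4 * p ^ r →
        (cf (Sy.{u, v, w} ι p) (subRep ρ (orth P X') (S.orth_inv hX'))).count c ≤ 1 := by
      intro c hc'
      rw [hcf, Multiset.count_add] at hc'
      rcases hc' with h1 | rfl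
      · omega
      · rw [hcf, Multiset.count_add, Multiset.count_singleton_self] at hc
        omega
    have hZ := (S.restrict (S.orth_inv hX') (S.nd_orth hnd')).all_soc (ι := ι) (p := p) (fun Y hY c hc' =>
      (S.restrict (S.orth_inv hX') (S.nd_orth hnd')).nd_of_count hc' (hcnt c (by
        have hcs : InSoc ι p ρ c := InSoc.iso ι p (orth P X').subtype (fun _ _ => rfl) (Submodule.injective_subtype _)
          ⟨Y, hY, hc'⟩
        have hok' := R.okA hF hw (by omega) c22 hp11 hcs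
        by_cases h4 : tyl p c = [4]
        · right
          by_contra hne
          have h5 := hcs.mem_cf
          rw [hcf, Multiset.mem_add, Multiset.mem_singleton] at h5
          have h6 : 3 ≤ (W : Multiset (List ℕ)).count [4] := by
            have h7 : ((4 * p ^ r) ::ₘ (4 * p ^ r) ::ₘ {c}) ≤ cf (Sy.{u, v, w} ι p) ρ := by
              rw [Multiset.le_iff_count]
              intro d
              rw [Multiset.count_cons, Multiset.count_cons, Multiset.count_singleton]
              by_cases hd : d = 4 * p ^ r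
              · rw [if_pos hd, if_neg (by rw [hd]; exact Ne.symm hne), hd, hc]
              · rw [if_neg hd]
                split_ifs with hdc
                · rw [hdc]
                  exact Multiset.one_le_count_iff_mem.2 hcs.mem_cf
                · exact Nat.zero_le _
            have h8 := Multiset.map_le_map (f := tyl p) h7
            rw [← hw, Multiset.map_cons, Multiset.map_cons, Multiset.map_singleton, h4, hbt] at h8
            have h9 := Multiset.count_le_of_le [4] h8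
            rw [Multiset.count_cons_self, Multiset.count_cons_self, Multiset.count_singleton_self] at h9
            omega
          omega
        · left
          exact (count_tyl hw c).trans (hoth _ (cf_typ_mem ι p hw hcs.mem_cf) hok' h4))))
    intro c hc'
    rw [hcf, Multiset.mem_add, Multiset.mem_singleton] at hc'
    rcases hc' with rfl | hc'
    · exact ⟨X', hX', hb'⟩
    · exact InSoc.iso ι p (orth P X').subtype (fun _ _ => rfl) (Submodule.injective_subtype _) (hZ c hc')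

omit S R hF hw in
theorem keyA : ∀ W ∈ listF4, [] ∉ W →
    ((∀ t ∈ W, okA W t = true → (W : Multiset (List ℕ)).count t ≤ 1) ∧ ¬ ∀ t ∈ W, okA W t = true) ∨
    W ∈ ([[[1, 1], [2], [4], [4], [8]], [[1, 1, 2], [4], [8]], [[1, 5], [4], [8]], [[1, 3], [8], [8]],
      [[2], [4], [8], [8]], [[4], [4], [6], [8]], [[8], [16]]] : List (List (List ℕ))) := by decide +kernel

omit S R hF hw in
theorem keyC : ∀ W ∈ listF4, [] ∉ W → (W : Multiset (List ℕ)).count [4] ≤ 3 ∧ (W : Multiset (List ℕ)).count [2, 2] ≤ 3 := by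
  decide +kernel

omit S R hw in
/-- labels with one digit -/
theorem lab1 {b n : ℕ} (hb : b ∈ cf (Sy.{u, v, w} ι p) ρ) (h : tyl p b = [n]) (hn : 0 < n) : ∃ i < a, b = n * p ^ i :=
  tyl_single_inv h (cf_lt ι p hF ρ b hb) hn

omit S R hF hw in
/-- the square of `[6]`, `p ≥ 11` -/
theorem sqs6 (hp11 : 11 ≤ p) {i c : ℕ} (hi : i < a) (hc : c ∈ sqs p a i 6) (h0 : c ≠ 0)
    (ht : tyl p c ∈ ([[4], [4], [6], [8]] : List (List ℕ))) : c = 4 * p ^ i ∨ c = 8 * p ^ i := by
  have hp : p.Prime := Fact.out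
  have e : sqs p a i 6 = H28.SL2.one p a i 12 + (H28.SL2.one p a i 8 + (H28.SL2.one p a i 4 + {0})) := rfl
  rw [e] at hc
  simp only [Multiset.mem_add] at hc
  rcases hc with hc | hc | hc | hc
  · by_cases h13 : 12 < p
    · exfalso
      unfold Cfsg.Agent.R2.H28.SL2.one at hc
      rw [if_pos h13, Multiset.mem_singleton] at hc
      rw [hc, tyl_single (by norm_num) h13] at ht
      revert ht
      decide
    · have h11 : p = 11 := by
        have h12 : p ≠ 12 := by
          rintro rfl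
          revert hp
          decide
        omega
      subst h11
      by_cases ha1 : a = 1
      · have hi0 : i = 0 := by omega
        subst hi0
        unfold Cfsg.Agent.R2.H28.SL2.one ov at hc
        rw [if_neg (by norm_num), if_pos ha1, if_neg (by norm_num)] at hc
        simp only [Multiset.insert_eq_cons, Multiset.mem_cons, Multiset.mem_singleton] at hc
        norm_num at hc
        rcases hc with hc | hc | hc
        · exfalso
          have h4 := tyl_single (p := 11) (n := 2) (by norm_num) (by norm_num) 0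
          rw [pow_zero, mul_one] at h4
          rw [hc, h4] at ht
          revert ht
          decide
        · exact absurd hc h0
        · right
          rw [hc, pow_zero, mul_one]
      · unfold Cfsg.Agent.R2.H28.SL2.one ov at hc
        rw [if_neg (by norm_num), if_neg ha1] at hc
        simp only [Multiset.insert_eq_cons, Multiset.mem_cons, Multiset.mem_singleton] at hc
        rcases hc with hc | hc
        · exfalso
          have h4 := tyl_pair (p := 11) (n := 1) (m := 1) (by norm_num) (by omega) (by norm_num) (by omega)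
            (succ_mod_ne (a := a) (i := i) (by omega) hi)
          rw [one_mul] at h4
          norm_num at hc
          rw [one_mul] at h4
          rw [hc, h4] at ht
          revert ht
          decide
        · right
          rw [hc]
  · right
    unfold Cfsg.Agent.R2.H28.SL2.one at hc
    rwa [if_pos (by omega), Multiset.mem_singleton] at hc
  · left
    unfold Cfsg.Agent.R2.H28.SL2.one at hc
    rwa [if_pos (by omega), Multiset.mem_singleton] at hc
  · exact absurd (Multiset.mem_singleton.1 hc) h0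

/-- **the patterns for `p ≥ 11`** -/
theorem tab11 (hp11 : 11 ≤ p) (hWm : W ∈ listF4) (h0 : [] ∉ W) :
    (∃ r < a, cf (Sy.{u, v, w} ι p) ρ = {4 * p ^ r, 4 * p ^ r, 6 * p ^ r, 8 * p ^ r} ∧
      (∀ b ∈ cf (Sy.{u, v, w} ι p) ρ, InSoc ι p ρ b) ∧
      ∃ (X : Submodule k V) (hX : ∀ g, ∀ x ∈ X, ρ g x ∈ X), IsV ι p (subRep ρ X hX) (4 * p ^ r) ∧ Nd P X) ∨
    (∃ r < a, ∃ b, (tyl p b = [1, 1, 2] ∨ tyl p b = [1, 5]) ∧ cf (Sy.{u, v, w} ι p) ρ = {b, 4 * p ^ r, 8 * p ^ r} ∧
      Nds ι p ρ P) ∨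
    (∃ b, tyl p b = [1, 3] ∧ ∃ r < a, ∃ s < a, cf (Sy.{u, v, w} ι p) ρ = {b, 8 * p ^ r, 8 * p ^ s}) ∨
    (∃ i < a, ∃ j < a, ∃ r < a, ∃ s < a, cf (Sy.{u, v, w} ι p) ρ = {2 * p ^ i, 4 * p ^ j, 8 * p ^ r, 8 * p ^ s}) ∨
    (17 ≤ p ∧ ∃ r < a, ∃ s < a, cf (Sy.{u, v, w} ι p) ρ = {8 * p ^ r, 16 * p ^ s} ∧ Nds ι p ρ P) := by
  have hp : p.Prime := Fact.out
  obtain ⟨hc4, hc22⟩ := keyC W hWm h0
  have hok : ∀ c, InSoc ι p ρ c → okA W (tyl p c) = true := fun c hc => R.okA hF hw hc4 hc22 hp11 hc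
  rcases keyA W hWm h0 with h | h
  · exact (S.kp hw (okA W) hok h).elim
  -- the labels
  obtain ⟨l, hl, hlW⟩ := exists_list (tyl p) W _ hw
  simp only [List.mem_cons, List.not_mem_nil, or_false] at h
  rcases h with rfl | rfl | rfl | rfl | rfl | rfl | rfl
  -- `[1,1],[2],[4],[4],[8]`
  · exfalso
    have h1 := S.four R hF hw hp11 (by decide) (by decide) (by decide) (by decide)
    have h2 : [2] ∈ ((([[1, 1], [2], [4], [4], [8]] : List (List ℕ))) : Multiset (List ℕ)) := by decide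
    rw [hw] at h2
    obtain ⟨c, hc, hct⟩ := Multiset.mem_map.1 h2
    exact R.soc2 hF hw (h1 c hc) hct
  -- `[1,1,2],[4],[8]`
  · right; left
    obtain ⟨b, l1, rfl, hb, hl1⟩ := List.map_eq_cons_iff.1 hlW
    obtain ⟨c, l2, rfl, hc, hl2⟩ := List.map_eq_cons_iff.1 hl1
    obtain ⟨d, l3, rfl, hd, hl3⟩ := List.map_eq_cons_iff.1 hl2
    obtain rfl := List.map_eq_nil_iff.1 hl3
    have hk := S.kp' hw (okA _) hok (by decide)
    have hcm : c ∈ cf (Sy.{u, v, w} ι p) ρ := by rw [hl]; simp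
    have hdm : d ∈ cf (Sy.{u, v, w} ι p) ρ := by rw [hl]; simp
    obtain ⟨r, hr, rfl, h8⟩ := R.soc4 hF hw hc4 hp11 (S.all_soc hk.1 c hcm) hc
    have h9 := typ1 hw (t := [8]) (by decide) hdm h8 hd (tyl_single (by norm_num) (by omega) _)
    rw [h9] at hl
    exact ⟨r, hr, b, Or.inl hb, hl, hk.1⟩
  -- `[1,5],[4],[8]`
  · right; left
    obtain ⟨b, l1, rfl, hb, hl1⟩ := List.map_eq_cons_iff.1 hlW
    obtain ⟨c, l2, rfl, hc, hl2⟩ := List.map_eq_cons_iff.1 hl1
    obtain ⟨d, l3, rfl, hd, hl3⟩ := List.map_eq_cons_iff.1 hl2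
    obtain rfl := List.map_eq_nil_iff.1 hl3
    have hk := S.kp' hw (okA _) hok (by decide)
    have hcm : c ∈ cf (Sy.{u, v, w} ι p) ρ := by rw [hl]; simp
    have hdm : d ∈ cf (Sy.{u, v, w} ι p) ρ := by rw [hl]; simp
    obtain ⟨r, hr, rfl, h8⟩ := R.soc4 hF hw hc4 hp11 (S.all_soc hk.1 c hcm) hc
    have h9 := typ1 hw (t := [8]) (by decide) hdm h8 hd (tyl_single (by norm_num) (by omega) _)
    rw [h9] at hl
    exact ⟨r, hr, b, Or.inr hb, hl, hk.1⟩
  -- `[1,3],[8],[8]`
  · right; right; left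
    obtain ⟨b, l1, rfl, hb, hl1⟩ := List.map_eq_cons_iff.1 hlW
    obtain ⟨c, l2, rfl, hc, hl2⟩ := List.map_eq_cons_iff.1 hl1
    obtain ⟨d, l3, rfl, hd, hl3⟩ := List.map_eq_cons_iff.1 hl2
    obtain rfl := List.map_eq_nil_iff.1 hl3
    obtain ⟨r, hr, rfl⟩ := lab1 hF (b := c) (by rw [hl]; simp) hc (by norm_num)
    obtain ⟨s, hs, rfl⟩ := lab1 hF (b := d) (by rw [hl]; simp) hd (by norm_num)
    exact ⟨b, hb, r, hr, s, hs, hl⟩
  -- `[2],[4],[8],[8]`
  · right; right; right; left
    obtain ⟨b, l1, rfl, hb, hl1⟩ := List.map_eq_cons_iff.1 hlW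
    obtain ⟨c, l2, rfl, hc, hl2⟩ := List.map_eq_cons_iff.1 hl1
    obtain ⟨d, l3, rfl, hd, hl3⟩ := List.map_eq_cons_iff.1 hl2
    obtain ⟨e, l4, rfl, he, hl4⟩ := List.map_eq_cons_iff.1 hl3
    obtain rfl := List.map_eq_nil_iff.1 hl4
    obtain ⟨i, hi, rfl⟩ := lab1 hF (b := b) (by rw [hl]; simp) hb (by norm_num)
    obtain ⟨j, hj, rfl⟩ := lab1 hF (b := c) (by rw [hl]; simp) hc (by norm_num)
    obtain ⟨r, hr, rfl⟩ := lab1 hF (b := d) (by rw [hl]; simp) hd (by norm_num)
    obtain ⟨s, hs, rfl⟩ := lab1 hF (b := e) (by rw [hl]; simp) he (by norm_num)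
    exact ⟨i, hi, j, hj, r, hr, s, hs, hl⟩
  -- alpha
  · left
    obtain ⟨b, l1, rfl, hb, hl1⟩ := List.map_eq_cons_iff.1 hlW
    obtain ⟨c, l2, rfl, hc, hl2⟩ := List.map_eq_cons_iff.1 hl1
    obtain ⟨d, l3, rfl, hd, hl3⟩ := List.map_eq_cons_iff.1 hl2
    obtain ⟨e, l4, rfl, he, hl4⟩ := List.map_eq_cons_iff.1 hl3
    obtain rfl := List.map_eq_nil_iff.1 hl4
    have hall := S.four R hF hw hp11 (by decide) (by decide) (by decide) (by decide)
    have hbm : b ∈ cf (Sy.{u, v, w} ι p) ρ := by rw [hl]; simp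
    have hcm : c ∈ cf (Sy.{u, v, w} ι p) ρ := by rw [hl]; simp
    have hdm : d ∈ cf (Sy.{u, v, w} ι p) ρ := by rw [hl]; simp
    have hem : e ∈ cf (Sy.{u, v, w} ι p) ρ := by rw [hl]; simp
    obtain ⟨r, hr, rfl, h8⟩ := R.soc4 hF hw hc4 hp11 (hall b hbm) hb
    obtain ⟨r', hr', rfl, h8'⟩ := R.soc4 hF hw hc4 hp11 (hall c hcm) hc
    have h9 := typ1 hw (t := [8]) (by decide) hem h8 he (tyl_single (by norm_num) (by omega) _)
    have h9' := typ1 hw (t := [8]) (by decide) h8 h8' (tyl_single (by norm_num) (by omega) _)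
      (tyl_single (by norm_num) (by omega) _)
    have hrr := pow_inj' (p := p) (by norm_num : 0 < 8) h9'
    subst hrr
    obtain ⟨t, ht, rfl⟩ := lab1 hF (b := d) hdm hd (by norm_num)
    -- the position of `6`
    have htr : t = r := by
      obtain ⟨x, hx, hx0, hxs⟩ := R.sq1 hF (by omega) ht (hall _ hdm)
      have hxW := cf_typ_mem ι p hw hxs.mem_cf
      rcases sqs6 hp11 ht hx hx0 hxW with rfl | rfl
      · obtain ⟨r₂, hr₂, h4, h8₂⟩ := R.soc4 hF hw hc4 hp11 hxs (tyl_single (by norm_num) (by omega) _)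
        have h10 := typ1 hw (t := [8]) (by decide) h8 h8₂ (tyl_single (by norm_num) (by omega) _)
          (tyl_single (by norm_num) (by omega) _)
        rw [pow_inj' (by norm_num) h4, pow_inj' (by norm_num) h10]
      · have h10 := typ1 hw (t := [8]) (by decide) hxs.mem_cf h8 (tyl_single (by norm_num) (by omega) _)
          (tyl_single (by norm_num) (by omega) _)
        exact pow_inj' (by norm_num) h10
    subst htr
    rw [h9] at hl
    refine ⟨t, ht, hl, hall, ?_⟩
    by_contra hcon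
    push Not at hcon
    have hc2 := count_tyl hw (4 * p ^ t)
    rw [hb] at hc2
    obtain ⟨Y, hY, hY8, hYi⟩ := R.i4 hp11 t ht (hc2.trans (by decide)) (hall _ hbm)
      fun X hX h => (S.nd_or_iso h).resolve_left (hcon X hX h)
    have h10 := S.two_le_count hY8 hYi
    have h11 := count_tyl hw (8 * p ^ t)
    rw [tyl_single (by norm_num) (by omega)] at h11
    have h12 : (([[4], [4], [6], [8]] : List (List ℕ)) : Multiset (List ℕ)).count [8] = 1 := by decide
    omega
  -- `[8],[16]`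
  · right; right; right; right
    obtain ⟨b, l1, rfl, hb, hl1⟩ := List.map_eq_cons_iff.1 hlW
    obtain ⟨c, l2, rfl, hc, hl2⟩ := List.map_eq_cons_iff.1 hl1
    obtain rfl := List.map_eq_nil_iff.1 hl2
    have hcm : c ∈ cf (Sy.{u, v, w} ι p) ρ := by rw [hl]; simp
    obtain ⟨r, hr, rfl⟩ := lab1 hF (b := b) (by rw [hl]; simp) hb (by norm_num)
    obtain ⟨s, hs, rfl⟩ := lab1 hF (b := c) hcm hc (by norm_num)
    have h16 : 16 < p := lt_p ι p hw (t := [16]) (by decide) (List.mem_singleton_self _)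
    exact ⟨h16, r, hr, s, hs, hl, (S.kp' hw (okA _) hok (by decide)).1⟩

end Cfsg.Agent.R2.F4T
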