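import Cfsg.Agent.R2.F4T.SdX
import Cfsg.Agent.R2.F4T.Tab11
import Cfsg.Agent.R2.H28.SL2.L22

/-!
# The summand `T(8)`, `p = 7` (helper6, S5931)

* `SD.uniq_T8` : a self-dual module with the factors `b, b, c`, `c` not in the socle, is uniserial;
* `SD.split_nd` : two orthogonal summands;
* `SD.T8_form` : the explicit form of `T(8) + 4 + 6`.
-/

set_option autoImplicit false
set_option linter.unusedSectionVars false

namespace Cfsg.Agent.R2.F4T

open Matrix Cfsg.Agent.H943.SL2Rel Cfsg.Agent.H943.SL2Mod Cfsg.Agent.H943.RepAdd Cfsg.Agent.R2.H28.SL2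
open Cfsg.Agent.R2.SL2 (typ tyl coe_tyl typ_step typ_zero tyl_eq_nil mem_typ listF4)

universe u v w

variable {k : Type u} [Field k] [DecidableEq k] {F : Type w} [Field F] [Fintype F] [DecidableEq F] {ι : F →+* k}
variable {p : ℕ} [Fact p.Prime] [CharP k p] [CharP F p] [IsAlgClosed k] {a : ℕ}
variable {V : Type v} [AddCommGroup V] [Module k V] [FiniteDimensional k V]
  {ρ : Representation k (SpecialLinearGroup (Fin 2) F) V} {P : V →ₗ[k] V →ₗ[k] k}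

/-- the factors of the complement -/
theorem SD.cf_orth (S : SD ρ P) {Z : Submodule k V} {hZ : ∀ g, ∀ x ∈ Z, ρ g x ∈ Z} (hnd : Nd P Z) {s t : Multiset ℕ}
    (hs : cf (Sy.{u, v, w} ι p) (subRep ρ Z hZ) = s) (hcf : cf (Sy.{u, v, w} ι p) ρ = s + t) :
    cf (Sy.{u, v, w} ι p) (subRep ρ (orth P Z) (S.orth_inv hZ)) = t := by
  have h1 := S.cf_eq (ι := ι) (p := p) hZ hnd
  rw [hcf, hs] at h1
  exact (add_left_cancel h1).symm

/-- two orthogonal summands -/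
theorem SD.split_nd (S : SD ρ P) {b c : ℕ} (hbc : b ≠ c) (hcf : cf (Sy.{u, v, w} ι p) ρ = {b, c}) :
    ∃ (X : Submodule k V) (hX : ∀ g, ∀ x ∈ X, ρ g x ∈ X) (hO : ∀ g, ∀ x ∈ orth P X, ρ g x ∈ orth P X),
      IsV ι p (subRep ρ X hX) b ∧ IsV ι p (subRep ρ (orth P X) hO) c ∧ Nd P X := by
  have hnd : ∀ (X : Submodule k V) (hX : ∀ g, ∀ x ∈ X, ρ g x ∈ X) (d : ℕ), IsV ι p (subRep ρ X hX) d → Nd P X := by
    intro X hX d hd
    refine S.nd_of_count hd ?_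
    rw [hcf, Multiset.insert_eq_cons, Multiset.count_cons, Multiset.count_singleton]
    split_ifs <;> omega
  obtain ⟨X, hX, hV⟩ := S.all_soc (ι := ι) (p := p) hnd b (by rw [hcf]; simp)
  have hXn := hnd X hX b hV
  have h1 := S.cf_orth hXn (cf_irr (Sy.{u, v, w} ι p) hV) (t := {c}) (by rw [hcf]; rfl)
  exact ⟨X, hX, S.orth_inv hX, hV, irr_of_cf (S := Sy.{u, v, w} ι p) h1, hXn⟩

/-- **uniserial modules** -/
theorem SD.uniq_T8 (S : SD ρ P) {b c : ℕ} (hbc : b ≠ c) (hcf : cf (Sy.{u, v, w} ι p) ρ = {b, b, c})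
    (hc : ¬ InSoc ι p ρ c) :
    ∃ (X : Submodule k V) (hX : ∀ g, ∀ x ∈ X, ρ g x ∈ X), IsV ι p (subRep ρ X hX) b ∧ Iso P X ∧
      ∀ (Z : Submodule k V) (hZ : ∀ g, ∀ x ∈ Z, ρ g x ∈ Z) (d : ℕ), IsV ι p (subRep ρ Z hZ) d → Z = X := by
  have hlab : ∀ (Z : Submodule k V) (hZ : ∀ g, ∀ x ∈ Z, ρ g x ∈ Z) (d : ℕ), IsV ι p (subRep ρ Z hZ) d → d = b := by
    intro Z hZ d hd
    have h1 := (show InSoc ι p ρ d from ⟨Z, hZ, hd⟩).mem_cf
    rw [hcf] at h1
    simp only [Multiset.insert_eq_cons, Multiset.mem_cons, Multiset.mem_singleton] at h1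
    rcases h1 with h1 | h1 | h1
    · exact h1
    · exact h1
    · subst h1
      exact absurd ⟨Z, hZ, hd⟩ hc
  have hiso : ∀ (Z : Submodule k V) (hZ : ∀ g, ∀ x ∈ Z, ρ g x ∈ Z) (d : ℕ), IsV ι p (subRep ρ Z hZ) d → Iso P Z := by
    intro Z hZ d hd
    obtain rfl := hlab Z hZ d hd
    refine (S.nd_or_iso hd).resolve_left fun hn => ?_
    have h1 := S.cf_orth hn (cf_irr (Sy.{u, v, w} ι p) hd) (t := {d, c}) (by rw [hcf]; rfl)
    obtain ⟨Q, hQ, hQ', _, hV, _⟩ := (S.restrict (S.orth_inv hZ) (S.nd_orth hn)).split_nd hbc h1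
    exact hc ((show InSoc ι p (subRep ρ (orth P Z) (S.orth_inv hZ)) c from ⟨_, _, hV⟩).iso ι p (orth P Z).subtype
      (fun _ _ => rfl) (Submodule.injective_subtype _))
  obtain ⟨X, hX, hV⟩ : ∃ (X : Submodule k V) (hX : ∀ g, ∀ x ∈ X, ρ g x ∈ X), IsV ι p (subRep ρ X hX) b := by
    have hnt : Nontrivial V := by
      by_contra h
      rw [not_nontrivial_iff_subsingleton] at h
      have h1 := cf_zero (Sy.{u, v, w} ι p) ρ
      rw [hcf] at h1
      simp at h1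
    obtain ⟨d, X, hX, hd⟩ := exists_inSoc ι p ρ
    obtain rfl := hlab X hX d hd
    exact ⟨X, hX, hd⟩
  refine ⟨X, hX, hV, hiso X hX b hV, fun Z hZ d hd => ?_⟩
  obtain rfl := hlab Z hZ d hd
  rcases IsV.inf_or_le ι p hV hZ with h | h
  · exfalso
    rcases S.two_iso hV hd (hiso X hX _ hV) (hiso Z hZ _ hd) h with h4 | ⟨hn, h2⟩
    · rw [hcf, Multiset.insert_eq_cons, Multiset.count_cons_self, Multiset.insert_eq_cons, Multiset.count_cons_self,
        Multiset.count_singleton, if_neg hbc] at h4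
      omega
    · have h3 := S.cf_orth hn h2 (t := {c}) (by rw [hcf]; rfl)
      have h4 : IsV ι p (subRep ρ (orth P (X ⊔ Z)) _) c := irr_of_cf (S := Sy.{u, v, w} ι p) h3
      exact hc ⟨_, _, h4⟩
  · exact (Submodule.eq_of_le_of_finrank_eq h (by rw [IsV.finrank ι hV, IsV.finrank ι hd])).symm

/-- **the explicit form of `T(8) + 4 + 6`** -/
theorem SD.T8_form (S : SD ρ P) (hF : Fintype.card F = p ^ a) (hp : p = 7) (hV : Module.finrank k V = 26) {r c : ℕ}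
    (htc : tyl p c = [1, 1]) {Y : Submodule k V}
    (hY : ∀ g, ∀ x ∈ Y, ρ g x ∈ Y) (hYn : Nd P Y) (hc : ¬ InSoc ι p ρ c)
    (hYc : cf (Sy.{u, v, w} ι p) (subRep ρ Y hY) = {4 * p ^ r, 4 * p ^ r, c})
    (hOc : cf (Sy.{u, v, w} ι p) (subRep ρ (orth P Y) (S.orth_inv hY)) = {4 * p ^ r, 6 * p ^ r}) :
    ∃ (M T X : Submodule k V) (hM : ∀ g, ∀ x ∈ M, ρ g x ∈ M) (hT : ∀ g, ∀ x ∈ T, ρ g x ∈ T)
      (hX : ∀ g, ∀ x ∈ X, ρ g x ∈ X), Nd P M ∧ Nd P T ∧ (∀ x ∈ Y, ∀ y ∈ M, P x y = 0) ∧ (∀ x ∈ Y, ∀ y ∈ T, P x y = 0) ∧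
      (∀ x ∈ M, ∀ y ∈ T, P x y = 0) ∧ Y ⊔ M ⊔ T = ⊤ ∧ IsV ι p (subRep ρ M hM) (4 * p ^ r) ∧
      IsV ι p (subRep ρ T hT) (6 * p ^ r) ∧ X ≤ Y ∧ IsV ι p (subRep ρ X hX) (4 * p ^ r) ∧ Iso P X ∧
      (∀ (Z : Submodule k V) (hZ : ∀ g, ∀ x ∈ Z, ρ g x ∈ Z) (d : ℕ), IsV ι p (subRep ρ Z hZ) d → Z ≤ Y → Z = X) ∧
      Module.finrank k Y = 14 ∧ (cf (Sy.{u, v, w} ι p) ρ).count (4 * p ^ r) = 3 ∧
      (cf (Sy.{u, v, w} ι p) ρ).count (6 * p ^ r) = 1 ∧
      ∀ d, d ≠ 4 * p ^ r → (cf (Sy.{u, v, w} ι p) ρ).count d ≤ 1 := by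
  have t4 : tyl p (4 * p ^ r) = [4] := tyl_single (by norm_num) (by omega) _
  have t6 : tyl p (6 * p ^ r) = [6] := tyl_single (by norm_num) (by omega) _
  have h46 : 4 * p ^ r ≠ 6 * p ^ r := fun h => by rw [h, t6] at t4; exact absurd t4 (by decide)
  have h4c : 4 * p ^ r ≠ c := fun h => by rw [h, htc] at t4; exact absurd t4 (by decide)
  have h6c : 6 * p ^ r ≠ c := fun h => by rw [h, htc] at t6; exact absurd t6 (by decide)
  have hcf := S.cf_eq (ι := ι) (p := p) hY hYn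
  rw [hYc, hOc] at hcf
  -- the complement
  have hO := S.orth_inv hY
  have hSO := S.restrict hO (S.nd_orth hYn)
  obtain ⟨M₀, hM₀, hO₀, hM₀V, hT₀V, hM₀n⟩ := hSO.split_nd h46 hOc
  obtain ⟨M, T, hM, hT, e1, e2, hsup, hMn, hTn, hYM, hYT, hMT, -, -⟩ := S.flat hY hYn hM₀ hM₀n
  have hMV : IsV ι p (subRep ρ M hM) (4 * p ^ r) := by
    obtain ⟨e, he⟩ := e1
    exact IsV.iso ι p e he hM₀V
  have hTV : IsV ι p (subRep ρ T hT) (6 * p ^ r) := by
    obtain ⟨e, he⟩ := e2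
    exact IsV.iso ι p e he hT₀V
  -- `Y`
  obtain ⟨X₀, hX₀, hX₀V, hX₀i, hu⟩ := (S.restrict hY hYn).uniq_T8 h4c hYc fun h =>
    hc (h.iso ι p Y.subtype (fun _ _ => rfl) (Submodule.injective_subtype _))
  obtain ⟨hX, hXV⟩ := isV_map' hX₀V
  refine ⟨M, T, _, hM, hT, hX, hMn, hTn, hYM, hYT, hMT, hsup, hMV, hTV, ?_, hXV, ?_, ?_, ?_, ?_, ?_, ?_⟩
  · rintro _ ⟨y, -, rfl⟩
    exact y.2
  · rintro _ ⟨x, hx, rfl⟩ _ ⟨y, hy, rfl⟩
    exact hX₀i x hx y hy
  · intro Z hZ d hd hZY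
    have h1 := hu _ _ d (isV_comap hZY (hZ := hY) hd)
    rw [← h1, Submodule.map_comap_subtype, inf_eq_right.2 hZY]
  · have h1 := S.finrank_orth hY
    have hM5 := IsV.dim_single ι hF (show 4 < p by omega) hMV
    have hT7 := IsV.dim_single ι hF (show 6 < p by omega) hTV
    have hM0 := IsV.dim_single ι hF (show 4 < p by omega) hM₀V
    have hT0 := IsV.dim_single ι hF (show 6 < p by omega) hT₀V
    have h2 := hSO.finrank_orth hM₀
    omega
  · rw [hcf, Multiset.count_add, Multiset.insert_eq_cons, Multiset.insert_eq_cons, Multiset.insert_eq_cons,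
      Multiset.count_cons_self, Multiset.count_cons_self, Multiset.count_cons_self, Multiset.count_singleton,
      Multiset.count_singleton, if_neg h4c, if_neg h46]
  · rw [hcf, Multiset.count_add, Multiset.insert_eq_cons, Multiset.insert_eq_cons, Multiset.insert_eq_cons,
      Multiset.count_cons_of_ne h46.symm, Multiset.count_cons_of_ne h46.symm, Multiset.count_cons_of_ne h46.symm,
      Multiset.count_singleton, Multiset.count_singleton, if_neg h6c, if_pos rfl]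
  · intro d hd
    rw [hcf, Multiset.count_add, Multiset.insert_eq_cons, Multiset.insert_eq_cons, Multiset.insert_eq_cons,
      Multiset.count_cons_of_ne hd, Multiset.count_cons_of_ne hd, Multiset.count_cons_of_ne hd,
      Multiset.count_singleton, Multiset.count_singleton]
    split_ifs with h1 h2 h2
    · exact absurd (h2.symm.trans h1) h6c
    · omega
    · omega
    · omega

end Cfsg.Agent.R2.F4T
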