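import Cfsg.Agent.R2.F4T.Tab11
import Cfsg.Agent.R2.H28.SL2.SplitE

/-!
# The patterns for `p = 5`, `p = 7` without trivial factors (helper6, S5931)

`tab5` : contradiction; `tab7` : the surviving patterns contain the summand `T(8)` (factors `4 p^r, 4 p^r, p^r + p^(r+1)`);
the complement is `[1,1,2]`, `[1,5]` or `4 p^r, 6 p^r`.
-/

set_option autoImplicit false
set_option linter.unusedSectionVars false

namespace Cfsg.Agent.R2.F4T

open Matrix Cfsg.Agent.H943.SL2Rel Cfsg.Agent.H943.SL2Mod Cfsg.Agent.H943.RepAdd Cfsg.Agent.R2.H28.SL2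
open Cfsg.Agent.R2.SL2 (typ tyl coe_tyl typ_step typ_zero tyl_eq_nil mem_typ listF4)

universe u v w

variable {k : Type u} [Field k] [DecidableEq k] {F : Type w} [Field F] [Fintype F] [DecidableEq F] {ι : F →+* k}
variable {p : ℕ} [Fact p.Prime] [CharP k p] [CharP F p] [IsAlgClosed k] {a : ℕ}
variable {V : Type v} [AddCommGroup V] [Module k V] [FiniteDimensional k V]
variable {ρ : Representation k (SpecialLinearGroup (Fin 2) F) V} {P : V →ₗ[k] V →ₗ[k] k}

theorem key5 : ∀ W ∈ listF4, [] ∉ W → (∀ t ∈ W, ∀ e ∈ t, e < 5) →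
    ((∀ t ∈ W, okC W t = true → (W : Multiset (List ℕ)).count t ≤ 1) ∧ ¬ ∀ t ∈ W, okC W t = true) := by
  decide +kernel

theorem key7 : ∀ W ∈ listF4, [] ∉ W → (∀ t ∈ W, ∀ e ∈ t, e < 7) →
    ((∀ t ∈ W, okB W false t = true → (W : Multiset (List ℕ)).count t ≤ 1) ∧ ¬ ∀ t ∈ W, okB W false t = true) := by
  decide +kernel

theorem key7' : ∀ W ∈ listF4, [] ∉ W → (∀ t ∈ W, ∀ e ∈ t, e < 7) → 2 ≤ (W : Multiset (List ℕ)).count [4] → [1, 1] ∈ W →
    W ∈ ([[[1, 1], [1, 1], [1, 3], [4], [4]], [[1, 1], [1, 1], [2], [4], [4], [4]], [[1, 1], [1, 1, 2], [4], [4]],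
      [[1, 1], [1, 5], [4], [4]], [[1, 1], [2], [2, 2], [4], [4]], [[1, 1], [4], [4], [4], [6]]] :
      List (List (List ℕ))) := by decide +kernel

theorem key7'' : ∀ W ∈ listF4, [] ∉ W → (∀ t ∈ W, ∀ e ∈ t, e < 7) →
    (([2, 2] ∈ W → (W : Multiset (List ℕ)).count [1, 1] ≤ 1) ∧
      ((W : Multiset (List ℕ)).count [1, 1] ≤ 1 ∨ (W : Multiset (List ℕ)).count [4] ≤ 2)) ∨
      W = [[1, 1], [1, 1], [2], [4], [4], [4]] := by decide +kernel

variable (S : SD ρ P) (R : Rl ι p a ρ P) (hF : Fintype.card F = p ^ a) {W : List (List ℕ)}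
  (hw : (W : Multiset (List ℕ)) = (cf (Sy.{u, v, w} ι p) ρ).map (tyl p))

include S R hF hw

/-- **`p = 5`, no trivial factors: impossible** -/
theorem tab5 (hp5 : p = 5) (hWm : W ∈ listF4) (h0 : [] ∉ W) : False := by
  obtain ⟨hc4, hc22⟩ := keyC W hWm h0
  exact S.kp hw (okC W) (fun c hc => R.okC hF hw hc4 hc22 hp5 h0 hc)
    (key5 W hWm h0 fun t ht e he => by have := lt_p ι p hw ht he; omega)

omit S in
/-- the pattern `[1,1]², [2], [4]³` -/
theorem no_exc7 (hp7 : p = 7) (ha : 2 ≤ a) (hW : W = [[1, 1], [1, 1], [2], [4], [4], [4]]) : False := by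
  have hp : p.Prime := Fact.out
  subst hW
  have h2 : [2] ∈ (([[1, 1], [1, 1], [2], [4], [4], [4]] : List (List ℕ)) : Multiset (List ℕ)) := by decide
  rw [hw] at h2
  obtain ⟨c, hc, hct⟩ := Multiset.mem_map.1 h2
  obtain ⟨j, hj, rfl⟩ := lab1 hF hc hct (by norm_num)
  have hcount := count_tyl hw (2 * p ^ j)
  rw [hct] at hcount
  have h3 : ((([[1, 1], [1, 1], [2], [4], [4], [4]] : List (List ℕ)) : Multiset (List ℕ))).count [2] = 1 := by decide
  rw [h3] at hcount
  have h4 := Multiset.count_pos.2 hc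
  obtain ⟨X, Y, hX, hY, -, hV, -⟩ := split_one ι p ρ (b := 2 * p ^ j) (by omega) (by
    intro d hd hne
    have hdW := cf_typ_mem ι p hw hd
    have hdl := cf_lt ι p hF ρ d hd
    simp only [List.mem_cons, List.not_mem_nil, or_false] at hdW
    have h11 : tyl p d = [1, 1] → Ext0 (Sy.{u, v, w} ι p) d (2 * p ^ j) ∧ Ext0 (Sy.{u, v, w} ι p) (2 * p ^ j) d := by
      intro h
      obtain ⟨i, hi, l, hl, hil, rfl⟩ := tyl_pair_inv h hdl (by norm_num) (by norm_num)
      rw [one_mul, one_mul] at hdl ⊢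
      have h9 : ∀ m, (p ^ i + p ^ l) / p ^ m % p + 2 * p ^ j / p ^ m % p < p - 2 := by
        intro m
        rw [dg_pair p hp.one_lt hil, dg_single hp.one_lt (show 2 < p by omega)]
        split_ifs <;> omega
      exact ⟨ext0_digits ι p hF (by omega) ha (single_lt p (by omega) hj) hdl fun l _ => h9 l,
        ext0_digits ι p hF (by omega) ha hdl (single_lt p (by omega) hj) fun l _ => by rw [add_comm]; exact h9 l⟩
    have h44 : tyl p d = [4] → Ext0 (Sy.{u, v, w} ι p) d (2 * p ^ j) ∧ Ext0 (Sy.{u, v, w} ι p) (2 * p ^ j) d := by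
      intro h
      obtain ⟨i, hi, rfl⟩ := lab1 hF hd h (by norm_num)
      by_cases hij : i = j
      · subst hij
        exact ⟨ext0_same ι p hF (by omega) (by omega) (by omega) hi (by omega),
          ext0_same ι p hF (by omega) (by omega) (by omega) hi (by omega)⟩
      · exact ⟨ext0_diff ι p hF (by omega) (by omega) (by omega) hij hi hj (by omega) (by omega),
          ext0_diff ι p hF (by omega) (by omega) (by omega) (Ne.symm hij) hj hi (by omega) (by omega)⟩
    rcases hdW with h | h | h | h | h | h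
    · exact h11 h
    · exact h11 h
    · exfalso
      obtain ⟨i, hi, rfl⟩ := lab1 hF hd h (by norm_num)
      have h5 : {2 * p ^ j, 2 * p ^ i} ≤ cf (Sy.{u, v, w} ι p) ρ := by
        refine (Multiset.le_iff_subset ?_).2 ?_
        · simp only [Multiset.insert_eq_cons, Multiset.nodup_cons, Multiset.mem_singleton, Multiset.nodup_singleton, and_true]
          exact Ne.symm hne
        · intro x hx
          simp only [Multiset.insert_eq_cons, Multiset.mem_cons, Multiset.mem_singleton] at hx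
          rcases hx with rfl | rfl
          · exact hc
          · exact hd
      have h6 := Multiset.count_le_of_le [2] (Multiset.map_le_map h5 (f := tyl p))
      rw [← hw, h3, Multiset.insert_eq_cons, Multiset.map_cons, Multiset.map_singleton, hct, h] at h6
      revert h6
      decide
    · exact h44 h
    · exact h44 h
    · exact h44 h)
  exact R.n2 j hj ⟨X, hX, hV⟩

/-- **the patterns for `p = 7` without trivial factors** -/
theorem tab7 (hp7 : p = 7) (ha : 2 ≤ a) (hWm : W ∈ listF4) (h0 : [] ∉ W) :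
    ∃ r < a, ∃ (Y : Submodule k V) (hY : ∀ g, ∀ x ∈ Y, ρ g x ∈ Y), Nd P Y ∧
      cf (Sy.{u, v, w} ι p) (subRep ρ Y hY) = {4 * p ^ r, 4 * p ^ r, p ^ r + p ^ ((r + 1) % a)} ∧
      ((∃ b, (tyl p b = [1, 1, 2] ∨ tyl p b = [1, 5]) ∧
          IsV ι p (subRep ρ (orth P Y) (S.orth_inv hY)) b) ∨
        cf (Sy.{u, v, w} ι p) (subRep ρ (orth P Y) (S.orth_inv hY)) = {4 * p ^ r, 6 * p ^ r}) := by
  have hp : p.Prime := Fact.out
  obtain ⟨hc4, hc22⟩ := keyC W hWm h0
  have hlt : ∀ t ∈ W, ∀ e ∈ t, e < 7 := fun t ht e he => by have := lt_p ι p hw ht he; omega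
  -- a `[4]` in the socle
  obtain ⟨c, hc, hct⟩ : ∃ c, InSoc ι p ρ c ∧ tyl p c = [4] := by
    by_contra hcon
    push Not at hcon
    exact S.kp hw (okB W false) (fun c hc => R.okB hF hw hc22 hp7 (fun _ => hcon) hc) (key7 W hWm h0 hlt)
  obtain ⟨hA, hB⟩ := (key7'' W hWm h0 hlt).resolve_right fun h => no_exc7 R hF hw hp7 ha h
  obtain ⟨r, hr, rfl, Y, hY, hnd, hYc⟩ := R.T8 hF hw hc22 hc4 hp7 ha h0 hA hB hc hct
  have hii := succ_mod_ne ha hr
  have ht4 : tyl p (4 * p ^ r) = [4] := hct
  have ht11 : tyl p (p ^ r + p ^ ((r + 1) % a)) = [1, 1] := by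
    have h := tyl_pair (p := p) (n := 1) (m := 1) (by norm_num) (by omega) (by norm_num) (by omega) hii
    rwa [one_mul, one_mul] at h
  refine ⟨r, hr, Y, hY, hnd, hYc, ?_⟩
  -- the types of the complement
  have hcf := S.cf_eq (ι := ι) (p := p) hY hnd
  have hZi := S.orth_inv hY
  have hSZ := S.restrict hZi (S.nd_orth hnd)
  have hsum : (W : Multiset (List ℕ)) = ([4] ::ₘ [4] ::ₘ {[1, 1]}) +
      (cf (Sy.{u, v, w} ι p) (subRep ρ (orth P Y) hZi)).map (tyl p) := by
    rw [hw, hcf, hYc, Multiset.map_add, Multiset.insert_eq_cons, Multiset.insert_eq_cons, Multiset.map_cons,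
      Multiset.map_cons, Multiset.map_singleton, ht4, ht11]
  have hWW := key7' W hWm h0 hlt (by
    rw [hsum, Multiset.count_add]
    have : (([4] ::ₘ [4] ::ₘ {[1, 1]} : Multiset (List ℕ))).count [4] = 2 := by decide
    omega) (by
    have h1 : [1, 1] ∈ (W : Multiset (List ℕ)) := by
      rw [hsum, Multiset.mem_add]
      left
      decide
    exact h1)
  -- the labels of the socle of the complement
  have hzs : ∀ c, InSoc ι p (subRep ρ (orth P Y) hZi) c → InSoc ι p ρ c := fun c hc =>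
    hc.iso ι p (orth P Y).subtype (fun _ _ => rfl) (Submodule.injective_subtype _)
  have hrest : ∀ (U : List (List ℕ)), (W : Multiset (List ℕ)) = ([4] ::ₘ [4] ::ₘ {[1, 1]}) + (U : Multiset (List ℕ)) →
      (U : Multiset (List ℕ)) = (cf (Sy.{u, v, w} ι p) (subRep ρ (orth P Y) hZi)).map (tyl p) := by
    intro U hU
    rw [hU] at hsum
    exact add_left_cancel hsum
  have hokz : ∀ c, InSoc ι p (subRep ρ (orth P Y) hZi) c → okB W true (tyl p c) = true := fun c hc =>
    R.okB hF hw hc22 hp7 (fun h => absurd h (by decide)) (hzs c hc)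
  simp only [List.mem_cons, List.not_mem_nil, or_false] at hWW
  rcases hWW with rfl | rfl | rfl | rfl | rfl | rfl
  · exact (hSZ.kp (hrest [[1, 1], [1, 3]] (by decide)) _ hokz (by decide)).elim
  · exact (hSZ.kp (hrest [[1, 1], [2], [4]] (by decide)) _ hokz (by decide)).elim
  · left
    obtain ⟨l, hl, hlW⟩ := exists_list (tyl p) [[1, 1, 2]] _ (hrest [[1, 1, 2]] (by decide))
    obtain ⟨b, l1, rfl, hb, hl1⟩ := List.map_eq_cons_iff.1 hlW
    obtain rfl := List.map_eq_nil_iff.1 hl1
    exact ⟨b, Or.inl hb, irr_of_cf (S := Sy.{u, v, w} ι p) hl⟩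
  · left
    obtain ⟨l, hl, hlW⟩ := exists_list (tyl p) [[1, 5]] _ (hrest [[1, 5]] (by decide))
    obtain ⟨b, l1, rfl, hb, hl1⟩ := List.map_eq_cons_iff.1 hlW
    obtain rfl := List.map_eq_nil_iff.1 hl1
    exact ⟨b, Or.inr hb, irr_of_cf (S := Sy.{u, v, w} ι p) hl⟩
  · exact (hSZ.kp (hrest [[2], [2, 2]] (by decide)) _ hokz (by decide)).elim
  · right
    have hwz := hrest [[4], [6]] (by decide)
    obtain ⟨l, hl, hlW⟩ := exists_list (tyl p) [[4], [6]] _ hwz
    obtain ⟨b, l1, rfl, hb, hl1⟩ := List.map_eq_cons_iff.1 hlW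
    obtain ⟨c, l2, rfl, hc, hl2⟩ := List.map_eq_cons_iff.1 hl1
    obtain rfl := List.map_eq_nil_iff.1 hl2
    have hk := hSZ.kp' hwz (okB _ true) hokz (by decide)
    have hall := hSZ.all_soc (ι := ι) (p := p) hk.1
    have hbm : b ∈ cf (Sy.{u, v, w} ι p) (subRep ρ (orth P Y) hZi) := by rw [hl]; simp
    have hcm : c ∈ cf (Sy.{u, v, w} ι p) (subRep ρ (orth P Y) hZi) := by rw [hl]; simp
    obtain ⟨s, hs, rfl⟩ := lab1 (ρ := subRep ρ (orth P Y) hZi) hF hbm hb (by norm_num)
    obtain ⟨t, ht, rfl⟩ := lab1 (ρ := subRep ρ (orth P Y) hZi) hF hcm hc (by norm_num)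
    have hcf' : cf (Sy.{u, v, w} ι p) ρ = {4 * p ^ r, 4 * p ^ r, p ^ r + p ^ ((r + 1) % a)} + {4 * p ^ s, 6 * p ^ t} := by
      rw [hcf, hYc, hl]
      rfl
    have ht6 : tyl p (6 * p ^ t) = [6] := hc
    have key : ∀ x < a, InSoc ι p ρ (4 * p ^ x) → x = r := by
      intro x hx hxs
      by_contra hne
      have hne' : 4 * p ^ x ≠ 4 * p ^ r := fun h => hne (pow_inj' (by norm_num) h)
      have htx : tyl p (4 * p ^ x) = [4] := tyl_single (by norm_num) (by omega) _
      obtain ⟨y, hy, hyx, Y', hY', -, hYc'⟩ := R.T8 hF hw hc22 hc4 hp7 ha h0 hA hB hxs htx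
      have h1 : 2 ≤ (cf (Sy.{u, v, w} ι p) ρ).count (4 * p ^ x) := by
        have h2 := Multiset.count_le_of_le (4 * p ^ x) (cf_sub_le (Sy.{u, v, w} ι p) ρ Y' hY')
        have h3 : (cf (Sy.{u, v, w} ι p) (subRep ρ Y' hY')).count (4 * p ^ x) ≥ 2 := by
          rw [hYc', hyx, Multiset.insert_eq_cons, Multiset.count_cons_self, Multiset.insert_eq_cons,
            Multiset.count_cons_self]
          omega
        omega
      have h11 : 4 * p ^ x ≠ p ^ r + p ^ ((r + 1) % a) := fun h => by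
        rw [h, ht11] at htx
        exact absurd htx (by decide)
      have h6 : 4 * p ^ x ≠ 6 * p ^ t := fun h => by
        rw [h, ht6] at htx
        exact absurd htx (by decide)
      rw [hcf', Multiset.count_add, Multiset.insert_eq_cons, Multiset.insert_eq_cons, Multiset.insert_eq_cons,
        Multiset.count_cons_of_ne hne', Multiset.count_cons_of_ne hne', Multiset.count_singleton, if_neg h11,
        Multiset.count_cons, Multiset.count_singleton, if_neg h6] at h1
      split_ifs at h1 <;> omega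
    have hsr := key s hs (hzs _ (hall _ hbm))
    obtain ⟨x, hx, hx0, hxs⟩ := R.sq1 hF (by omega) ht (hzs _ (hall _ hcm))
    have hxW := cf_typ_mem ι p hw hxs.mem_cf
    have hx11 : tyl p x ≠ [1, 1] := fun h => absurd (R.soc11 hF hw (by omega) hxs h) (by decide)
    have hx4 : x = 4 * p ^ t := by
      have e : sqs p a t 6 = H28.SL2.one p a t 12 + (H28.SL2.one p a t 8 + (H28.SL2.one p a t 4 + {0})) := rfl
      rw [e] at hx
      simp only [Multiset.mem_add] at hx
      subst hp7
      have hit := succ_mod_ne (a := a) (i := t) (by omega) ht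
      rcases hx with hx | hx | hx | hx
      · exfalso
        unfold Cfsg.Agent.R2.H28.SL2.one ov at hx
        rw [if_neg (by norm_num), if_neg (by omega)] at hx
        simp only [Multiset.insert_eq_cons, Multiset.mem_cons, Multiset.mem_singleton] at hx
        norm_num at hx
        rcases hx with hx | hx
        · have h4 := tyl_pair' (p := 7) (n := 1) (m := 5) (by norm_num) (by omega) (by norm_num) (by omega) hit
          rw [one_mul] at h4
          rw [hx, h4] at hxW
          revert hxW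
          decide
        · exact hx0 hx
      · unfold Cfsg.Agent.R2.H28.SL2.one ov at hx
        rw [if_neg (by norm_num), if_neg (by omega)] at hx
        simp only [Multiset.insert_eq_cons, Multiset.mem_cons, Multiset.mem_singleton] at hx
        norm_num at hx
        rcases hx with hx | hx
        · exfalso
          have h4 := tyl_pair (p := 7) (n := 1) (m := 1) (by norm_num) (by omega) (by norm_num) (by omega) hit
          rw [one_mul, one_mul] at h4
          rw [hx, h4] at hx11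
          exact hx11 rfl
        · exact hx
      · unfold Cfsg.Agent.R2.H28.SL2.one at hx
        rwa [if_pos (by omega), Multiset.mem_singleton] at hx
      · exact absurd (Multiset.mem_singleton.1 hx) hx0
    have htr := key t ht (by rw [← hx4]; exact hxs)
    rw [hl, hsr, htr]
    rfl

end Cfsg.Agent.R2.F4T
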