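import Cfsg.Agent.R2.F4T.Pres
import Cfsg.Agent.R2.F4T.Tab7
import Cfsg.Agent.R2.F4T.C13
import Cfsg.Agent.R2.F4T.D13
import Cfsg.Agent.R2.F4T.NoL
import Cfsg.Agent.R2.F4T.Seven
import Cfsg.Agent.R2.F4T.T8

/-!
# The table for `p ≥ 5` (helper6, S5931)

* `split2`, `alpha_form` : explicit summands;
* `Tb` : the surviving structures; **`table`** : the pattern of `J₀` is one of them.
-/

set_option autoImplicit false
set_option linter.unusedSectionVars false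

namespace Cfsg.Agent.R2.F4T

open Matrix Cfsg.Agent.H943.SL2Rel Cfsg.Agent.H943.SL2Mod Cfsg.Agent.H943.RepAdd Cfsg.Agent.R2.H28.SL2
open Cfsg.Agent.R2.SL2 (typ tyl coe_tyl typ_step typ_zero tyl_eq_nil mem_typ listF4)

universe u v w

variable {k : Type u} [Field k] [DecidableEq k] {F : Type w} [Field F] [Fintype F] [DecidableEq F] {ι : F →+* k}
variable {p : ℕ} [Fact p.Prime] [CharP k p] [CharP F p] [IsAlgClosed k] {a : ℕ}
variable {V : Type v} [AddCommGroup V] [Module k V] [FiniteDimensional k V]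
variable {ρ : Representation k (SpecialLinearGroup (Fin 2) F) V} {P : V →ₗ[k] V →ₗ[k] k}

/-- the factors of the complement -/
theorem SD.compl_cf (S : SD ρ P) {Z : Submodule k V} {hZ : ∀ g, ∀ x ∈ Z, ρ g x ∈ Z} (hnd : Nd P Z) {s t : Multiset ℕ}
    (hs : cf (Sy.{u, v, w} ι p) (subRep ρ Z hZ) = s) (hcf : cf (Sy.{u, v, w} ι p) ρ = s + t) :
    cf (Sy.{u, v, w} ι p) (subRep ρ (orth P Z) (S.orth_inv hZ)) = t := by
  have h1 := S.cf_eq (ι := ι) (p := p) hZ hnd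
  rw [hcf, hs] at h1
  exact (add_left_cancel h1).symm

/-- a summand with the label `b` in a multiplicity-free module -/
theorem SD.exists_nd (S : SD ρ P) (hmf : (cf (Sy.{u, v, w} ι p) ρ).Nodup) {b : ℕ} (hb : b ∈ cf (Sy.{u, v, w} ι p) ρ) :
    ∃ (X : Submodule k V) (hX : ∀ g, ∀ x ∈ X, ρ g x ∈ X), IsV ι p (subRep ρ X hX) b ∧ Nd P X := by
  have h1 := Multiset.nodup_iff_count_le_one.1 hmf
  obtain ⟨X, hX, hV⟩ := S.all_soc (ι := ι) (p := p) (fun X hX c hc => S.nd_of_count hc (h1 c)) b hb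
  exact ⟨X, hX, hV, S.nd_of_count hV (h1 b)⟩

/-- two summands -/
theorem SD.split2 (S : SD ρ P) {b c : ℕ} (hbc : b ≠ c) (hcf : cf (Sy.{u, v, w} ι p) ρ = {b, c}) :
    ∃ (X Y : Submodule k V) (hX : ∀ g, ∀ x ∈ X, ρ g x ∈ X) (hY : ∀ g, ∀ x ∈ Y, ρ g x ∈ Y),
      IsV ι p (subRep ρ X hX) b ∧ IsV ι p (subRep ρ Y hY) c ∧ X ⊔ Y = ⊤ := by
  obtain ⟨X, hX, hV, hnd⟩ := S.exists_nd (ι := ι) (p := p) (b := b) (by
    rw [hcf]
    simp [hbc]) (by rw [hcf]; simp)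
  have h1 := S.compl_cf hnd (cf_irr (Sy.{u, v, w} ι p) hV) (t := {c}) (by rw [hcf]; rfl)
  exact ⟨X, orth P X, hX, S.orth_inv hX, hV, irr_of_cf (S := Sy.{u, v, w} ι p) h1, (S.compl hX hnd).sup_eq_top⟩

/-- three summands -/
theorem SD.split3 (S : SD ρ P) {b c d : ℕ} (hbc : b ≠ c) (hbd : b ≠ d) (hcd : c ≠ d)
    (hcf : cf (Sy.{u, v, w} ι p) ρ = {b, c, d}) :
    ∃ (X Y Z : Submodule k V) (hX : ∀ g, ∀ x ∈ X, ρ g x ∈ X) (hY : ∀ g, ∀ x ∈ Y, ρ g x ∈ Y) (hZ : ∀ g, ∀ x ∈ Z, ρ g x ∈ Z),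
      IsV ι p (subRep ρ X hX) b ∧ IsV ι p (subRep ρ Y hY) c ∧ IsV ι p (subRep ρ Z hZ) d ∧ X ⊔ Y ⊔ Z = ⊤ := by
  obtain ⟨X, hX, hV, hnd⟩ := S.exists_nd (ι := ι) (p := p) (b := b) (by
    rw [hcf]
    simp [hbc, hbd, hcd]) (by rw [hcf]; simp)
  have h1 := S.compl_cf hnd (cf_irr (Sy.{u, v, w} ι p) hV) (t := {c, d}) (by rw [hcf]; rfl)
  obtain ⟨Y, Z, hY, hZ, hYV, hZV, hsup⟩ := (S.restrict (S.orth_inv hX) (S.nd_orth hnd)).split2 hcd h1
  obtain ⟨hY', hYV'⟩ := isV_map' hYV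
  obtain ⟨hZ', hZV'⟩ := isV_map' hZV
  refine ⟨X, _, _, hX, hY', hZ', hV, hYV', hZV', ?_⟩
  rw [sup_assoc, ← Submodule.map_sup, hsup, Submodule.map_subtype_top]
  exact (S.compl hX hnd).sup_eq_top

/-- the explicit summands for the type `4, 4, 6, 8` -/
theorem SD.alpha_form (S : SD ρ P) (hp : 8 < p) {r : ℕ}
    (hcf : cf (Sy.{u, v, w} ι p) ρ = {4 * p ^ r, 4 * p ^ r, 6 * p ^ r, 8 * p ^ r})
    {M : Submodule k V} {hM : ∀ g, ∀ x ∈ M, ρ g x ∈ M} (hMV : IsV ι p (subRep ρ M hM) (4 * p ^ r)) (hnd : Nd P M) :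
    ∃ (A B M M' : Submodule k V) (hA : ∀ g, ∀ x ∈ A, ρ g x ∈ A) (hB : ∀ g, ∀ x ∈ B, ρ g x ∈ B)
      (hM : ∀ g, ∀ x ∈ M, ρ g x ∈ M) (hM' : ∀ g, ∀ x ∈ M', ρ g x ∈ M'), IsV ι p (subRep ρ A hA) (8 * p ^ r) ∧
      IsV ι p (subRep ρ B hB) (6 * p ^ r) ∧ IsV ι p (subRep ρ M hM) (4 * p ^ r) ∧ IsV ι p (subRep ρ M' hM') (4 * p ^ r) ∧
      A ⊔ B ⊔ M ⊔ M' = ⊤ := by
  have t4 : tyl p (4 * p ^ r) = [4] := tyl_single (by norm_num) (by omega) _
  have t6 : tyl p (6 * p ^ r) = [6] := tyl_single (by norm_num) (by omega) _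
  have t8 : tyl p (8 * p ^ r) = [8] := tyl_single (by norm_num) (by omega) _
  have h46 : 8 * p ^ r ≠ 6 * p ^ r := fun h => by rw [h, t6] at t8; exact absurd t8 (by decide)
  have h48 : 8 * p ^ r ≠ 4 * p ^ r := fun h => by rw [h, t4] at t8; exact absurd t8 (by decide)
  have h68 : 6 * p ^ r ≠ 4 * p ^ r := fun h => by rw [h, t4] at t6; exact absurd t6 (by decide)
  have h1 := S.compl_cf hnd (cf_irr (Sy.{u, v, w} ι p) hMV) (t := {8 * p ^ r, 6 * p ^ r, 4 * p ^ r}) (by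
    rw [hcf]
    simp only [Multiset.insert_eq_cons, Multiset.singleton_add]
    congr 1
    ext t
    rw [Multiset.count_cons, Multiset.count_cons, Multiset.count_cons, Multiset.count_cons, Multiset.count_singleton,
      Multiset.count_singleton]
    omega)
  obtain ⟨A, B, M', hA, hB, hM', hAV, hBV, hMV', hsup⟩ :=
    (S.restrict (S.orth_inv hM) (S.nd_orth hnd)).split3 h46 h48 h68 h1
  obtain ⟨hA1, hAV1⟩ := isV_map' hAV
  obtain ⟨hB1, hBV1⟩ := isV_map' hBV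
  obtain ⟨hM1, hMV1⟩ := isV_map' hMV'
  refine ⟨_, _, _, M, hA1, hB1, hM1, hM, hAV1, hBV1, hMV1, hMV, ?_⟩
  rw [← Submodule.map_sup, ← Submodule.map_sup, hsup, Submodule.map_subtype_top, sup_comm]
  exact (S.compl hM hnd).sup_eq_top

/-- **the surviving structures** -/
inductive Tb (ι : F →+* k) (p : ℕ) [Fact p.Prime] [CharP k p] [CharP F p] (a : ℕ)
    (ρ : Representation k (SpecialLinearGroup (Fin 2) F) V) (P : V →ₗ[k] V →ₗ[k] k) : Prop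
  /-- `4, 4, 6, 8` -/
  | alpha (hp : 11 ≤ p) (r : ℕ) (hr : r < a) (A B M M' : Submodule k V) (hA : ∀ g, ∀ x ∈ A, ρ g x ∈ A)
      (hB : ∀ g, ∀ x ∈ B, ρ g x ∈ B) (hM : ∀ g, ∀ x ∈ M, ρ g x ∈ M) (hM' : ∀ g, ∀ x ∈ M', ρ g x ∈ M')
      (hAV : IsV ι p (subRep ρ A hA) (8 * p ^ r)) (hBV : IsV ι p (subRep ρ B hB) (6 * p ^ r))
      (hMV : IsV ι p (subRep ρ M hM) (4 * p ^ r)) (hMV' : IsV ι p (subRep ρ M' hM') (4 * p ^ r))
      (hsup : A ⊔ B ⊔ M ⊔ M' = ⊤) : Tb ι p a ρ P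
  /-- `[1,1,2], 4, 8` and `[1,5], 4, 8` -/
  | theta (hp : 11 ≤ p) (r : ℕ) (hr : r < a) (c : ℕ) (ht : tyl p c = [1, 1, 2] ∨ tyl p c = [1, 5])
      (hcf : cf (Sy.{u, v, w} ι p) ρ = {c, 4 * p ^ r, 8 * p ^ r}) (hnd : Nds ι p ρ P) : Tb ι p a ρ P
  /-- `8, 16` -/
  | e (hp : 17 ≤ p) (r : ℕ) (hr : r < a) (s : ℕ) (hs : s < a)
      (hcf : cf (Sy.{u, v, w} ι p) ρ = {8 * p ^ r, 16 * p ^ s}) (hnd : Nds ι p ρ P) : Tb ι p a ρ P
  /-- `T(16)`, `p = 13`, `2 ≤ a` -/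
  | c (hp : p = 13) (ha : 2 ≤ a) (r : ℕ) (hr : r < a)
      (hcf : cf (Sy.{u, v, w} ι p) ρ = {8 * p ^ r, 8 * p ^ r, 3 * p ^ r + p ^ ((r + 1) % a)})
      (X : Submodule k V) (hX : ∀ g, ∀ x ∈ X, ρ g x ∈ X) (hV : IsV ι p (subRep ρ X hX) (8 * p ^ r))
      (hu : ∀ (Y : Submodule k V) (hY : ∀ g, ∀ x ∈ Y, ρ g x ∈ Y), Irrd (subRep ρ Y hY) → Y = X) : Tb ι p a ρ P
  /-- `T(16)`, `q = 13` -/
  | d (hp : p = 13) (ha : a = 1) (hcf : cf (Sy.{u, v, w} ι p) ρ = {2, 4, 8, 8})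
      (X : Submodule k V) (hX : ∀ g, ∀ x ∈ X, ρ g x ∈ X) (hV : IsV ι p (subRep ρ X hX) 8)
      (hu : ∀ (Y : Submodule k V) (hY : ∀ g, ∀ x ∈ Y, ρ g x ∈ Y), Irrd (subRep ρ Y hY) → Y = X) : Tb ι p a ρ P
  /-- `T(8)` and `[1,1,2]`, `[1,5]`, `p = 7`, `2 ≤ a` -/
  | theta7 (hp : p = 7) (ha : 2 ≤ a) (r : ℕ) (hr : r < a) (Y : Submodule k V) (hY : ∀ g, ∀ x ∈ Y, ρ g x ∈ Y)
      (hO : ∀ g, ∀ x ∈ orth P Y, ρ g x ∈ orth P Y) (hYn : Nd P Y)
      (hYc : cf (Sy.{u, v, w} ι p) (subRep ρ Y hY) = {4 * p ^ r, 4 * p ^ r, p ^ r + p ^ ((r + 1) % a)}) (c : ℕ)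
      (ht : tyl p c = [1, 1, 2] ∨ tyl p c = [1, 5]) (hV : IsV ι p (subRep ρ (orth P Y) hO) c) : Tb ι p a ρ P
  /-- `T(8)`, `4`, `6`, `p = 7` : `X` is the isotropic `4` in `Y = T(8)` (for `q = 7` : `cf Y = {0, 2, 4, 4}`) -/
  | alpha7 (hp : p = 7) (r : ℕ) (hr : r < a) (Y M T X : Submodule k V) (hY : ∀ g, ∀ x ∈ Y, ρ g x ∈ Y)
      (hM : ∀ g, ∀ x ∈ M, ρ g x ∈ M) (hT : ∀ g, ∀ x ∈ T, ρ g x ∈ T) (hX : ∀ g, ∀ x ∈ X, ρ g x ∈ X) (hYn : Nd P Y)
      (hMn : Nd P M) (hTn : Nd P T) (hYM : ∀ x ∈ Y, ∀ y ∈ M, P x y = 0) (hYT : ∀ x ∈ Y, ∀ y ∈ T, P x y = 0)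
      (hMT : ∀ x ∈ M, ∀ y ∈ T, P x y = 0) (hsup : Y ⊔ M ⊔ T = ⊤) (hMV : IsV ι p (subRep ρ M hM) (4 * p ^ r))
      (hTV : IsV ι p (subRep ρ T hT) (6 * p ^ r)) (hXY : X ≤ Y) (hXV : IsV ι p (subRep ρ X hX) (4 * p ^ r))
      (hXi : Iso P X)
      (hu : ∀ (Z : Submodule k V) (hZ : ∀ g, ∀ x ∈ Z, ρ g x ∈ Z) (c : ℕ), IsV ι p (subRep ρ Z hZ) c → Z ≤ Y → Z = X)
      (hd : Module.finrank k Y = 14) (h4 : (cf (Sy.{u, v, w} ι p) ρ).count (4 * p ^ r) = 3)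
      (h6 : (cf (Sy.{u, v, w} ι p) ρ).count (6 * p ^ r) = 1)
      (hc1 : ∀ c, c ≠ 4 * p ^ r → (cf (Sy.{u, v, w} ι p) ρ).count c ≤ 1) : Tb ι p a ρ P

/-- the factors for `q = 7` -/
theorem cf_seven [Fact (Nat.Prime 7)] [CharP k 7] [CharP F 7] (hF : Fintype.card F = 7) {W : List (List ℕ)}
    (hw : (W : Multiset (List ℕ)) = (cf (Sy.{u, v, w} ι 7) ρ).map (tyl 7)) :
    cf (Sy.{u, v, w} ι 7) ρ = (W.map List.sum : List ℕ) := by
  have hlt : ∀ b ∈ cf (Sy.{u, v, w} ι 7) ρ, b < 7 := by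
    intro b hb
    have := cf_lt ι 7 (a := 1) (by rw [hF, pow_one]) ρ b hb
    rwa [pow_one] at this
  have h1 := congrArg (Multiset.map List.sum) hw
  rw [Multiset.map_map, Multiset.map_coe] at h1
  rw [h1]
  conv_lhs => rw [← Multiset.map_id (cf (Sy.{u, v, w} ι 7) ρ)]
  exact Multiset.map_congr rfl fun b hb => (Cfsg.Agent.R2.H22.Q7.sum_tyl (hlt b hb)).symm

variable {B : V →ₗ[k] V →ₗ[k] V} (hF : Fintype.card F = p ^ a) {W : List (List ℕ)}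
  (hw : (W : Multiset (List ℕ)) = (cf (Sy.{u, v, w} ι p) ρ).map (tyl p))
  (S : SD ρ P) (R : Rl ι p a ρ P) (D : Prd ρ P B)

include hF hw S R D in
/-- **the table for `p ≥ 5`** -/
theorem table (hp5 : 5 ≤ p) (hq7 : 7 ≤ p ^ a) (hV : Module.finrank k V = 26) (hfx : ∀ x, (∀ g, ρ g x = x) → x = 0)
    (hWm : W ∈ listF4) : Tb ι p a ρ P := by
  have hpp : p.Prime := Fact.out
  have hnp : ∀ n, p = n → n = 5 ∨ n = 7 ∨ 11 ≤ n := by
    intro n hn
    by_contra hc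
    have h1 : n = 6 ∨ n = 8 ∨ n = 9 ∨ n = 10 := by omega
    rw [hn] at hpp
    rcases h1 with rfl | rfl | rfl | rfl <;> revert hpp <;> decide
  have ha := ha_pos p hF
  rcases no_trivial4 ι p hF hp5 hq7 hfx (S.co hfx) hWm hw with h0 | ⟨ha1, hp7, h⟩ | ⟨ha2, hp, h⟩
  · rcases hnp p rfl with h5 | h7 | h11
    · exact (tab5 S R hF hw h5 hWm h0).elim
    · rcases Nat.lt_or_ge a 2 with ha1 | ha2
      · obtain rfl : a = 1 := by omega
        have h2 := R.n2 0 (by omega)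
        rw [pow_zero, mul_one] at h2
        subst h7
        exact (no_71 S h2 (by rw [hF, pow_one]) hWm h0 hw).elim
      · obtain ⟨r, hr, Y, hY, hYn, hYc, h⟩ := tab7 S R hF hw h7 ha2 hWm h0
        rcases h with ⟨c, ht, hc⟩ | hc
        · exact Tb.theta7 h7 ha2 r hr Y hY _ hYn hYc c ht hc
        · have hii := succ_mod_ne ha2 hr
          have htc : tyl p (p ^ r + p ^ ((r + 1) % a)) = [1, 1] := by
            have h := tyl_pair (p := p) (n := 1) (m := 1) (by norm_num) (by omega) (by norm_num) (by omega) hii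
            rwa [one_mul, one_mul] at h
          have t4 : tyl p (4 * p ^ r) = [4] := tyl_single (by norm_num) (by omega) _
          have t6 : tyl p (6 * p ^ r) = [6] := tyl_single (by norm_num) (by omega) _
          have hn : ¬ InSoc ι p ρ (p ^ r + p ^ ((r + 1) % a)) := by
            intro hc1
            have h22 : [2, 2] ∈ (W : Multiset (List ℕ)) := R.soc11 hF hw (by omega) hc1 htc
            rw [hw, S.cf_eq (ι := ι) (p := p) hY hYn, hYc, hc] at h22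
            simp only [Multiset.insert_eq_cons, Multiset.cons_add, Multiset.map_cons, Multiset.singleton_add,
              Multiset.map_singleton, Multiset.mem_cons, Multiset.mem_singleton, htc, t4, t6] at h22
            revert h22
            decide
          obtain ⟨M, T, X, hM, hT, hX, h1, h2, h3, h4, h5, h6, g7, h8, h9, h10, h11, h12, h13, h14, h15, h16⟩ :=
            S.T8_form hF h7 hV htc hY hYn hn hYc hc
          exact Tb.alpha7 h7 r hr Y M T X hY hM hT hX hYn h1 h2 h3 h4 h5 h6 g7 h8 h9 h10 h11 h12 h13 h14 h15 h16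
    · rcases tab11 S R hF hw h11 hWm h0 with ⟨r, hr, hcf, -, X, hX, hXV, hXn⟩ | ⟨r, hr, c, ht, hcf, hnd⟩ |
        ⟨b, hb, r, hr, s, hs, hcf⟩ | ⟨i, hi, j, hj, r, hr, s, hs, hcf⟩ | ⟨h17, r, hr, s, hs, hcf, hnd⟩
      · obtain ⟨A, B, M, M', hA, hB, hM, hM', hAV, hBV, hMV, hMV', hsup⟩ := S.alpha_form (by omega) hcf hXV hXn
        exact Tb.alpha h11 r hr A B M M' hA hB hM hM' hAV hBV hMV hMV' hsup
      · exact Tb.theta h11 r hr c ht hcf hnd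
      · have hw' : (([[1, 3], [8], [8]] : List (List ℕ)) : Multiset (List ℕ)) = (cf (Sy.{u, v, w} ι p) ρ).map (tyl p) := by
          rw [hcf, Multiset.insert_eq_cons, Multiset.insert_eq_cons, Multiset.map_cons, Multiset.map_cons,
            Multiset.map_singleton, hb, tyl_single (by norm_num) (by omega), tyl_single (by norm_num) (by omega)]
          rfl
        obtain ⟨h13, ha2, hcf', X, hX, hXV, hu⟩ := c13 hF S R hV h11 hb hr hw' hcf
        exact Tb.c h13 ha2 r hr hcf' X hX hXV hu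
      · obtain ⟨h13, ha1, hcf', X, hX, hXV, hu⟩ := d13 hF S R hV h11 hi hj hr hs hcf
        exact Tb.d h13 ha1 hcf' X hX hXV hu
      · exact Tb.e h17 r hr s hs hcf hnd
  · subst ha1
    have h2 := R.n2 0 (by omega)
    rw [pow_zero, mul_one] at h2
    subst hp7
    have hF7 : Fintype.card F = 7 := by rw [hF, pow_one]
    have hcf := cf_seven hF7 hw
    rcases h with rfl | rfl
    · exfalso
      refine no_I' hF7 3 3 le_rfl le_rfl S hfx (fun b hb => ?_) (by rw [hcf]; decide)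
      have h1 := hb.mem_cf
      rw [hcf] at h1
      have h3 : b = 0 ∨ b = 2 ∨ b = 4 := by
        revert h1
        simp
      rcases h3 with rfl | rfl | rfl
      · exact absurd (tyl_eq_nil.2 rfl) (soc_ne_nil hfx hb)
      · exact absurd hb h2
      · rfl
    · have hcf' : cf (Sy.{u, v, w} ι 7) ρ = {0, 2, 4, 4, 4, 6} := by rw [hcf]; decide
      obtain ⟨X, Z, Y, hX, hZ, hY, hXV, hZV, hYc, hsup, hXn, hZn, hYn, hXZ, hXY, hZY, N, hN, hNY, hNV, hNi, hNu⟩ :=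
        J_str hF7 S hfx h2 hcf'
      have hdY : Module.finrank k Y = 14 := by
        rw [dim_cf7 (ρ := subRep ρ Y hY) (s := {0, 2, 4, 4}) (by decide) hYc]
        rfl
      exact Tb.alpha7 rfl 0 (by omega) Y Z X N hY hZ hX hN hYn hZn hXn
        (fun x hx y hy => by rw [S.symm]; exact hZY y hy x hx) (fun x hx y hy => by rw [S.symm]; exact hXY y hy x hx)
        (fun x hx y hy => by rw [S.symm]; exact hXZ y hy x hx) (by rw [← hsup, sup_assoc, sup_comm, sup_comm Z X])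
        hZV hXV hNY hNV hNi (fun M hM c hc hMY => hNu M hM hMY hc.irr) hdY (by rw [hcf']; decide) (by rw [hcf']; decide)
        (fun c hc => by
          rw [hcf']
          have h4 : c ≠ 4 := hc
          simp only [Multiset.insert_eq_cons]
          rw [Multiset.count_cons, Multiset.count_cons, Multiset.count_cons_of_ne h4, Multiset.count_cons_of_ne h4,
            Multiset.count_cons_of_ne h4, Multiset.count_singleton]
          split_ifs <;> omega)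
  · exfalso
    rcases h with h | h | h
    · exact no_K hF S hw R hp ha2 hfx h
    · exact no_L D hF hw S R hp ha2 hfx h
    · exact no_M hF S hw R hp ha2 hfx h

end Cfsg.Agent.R2.F4T
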